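import Cfsg.Prelude.Def_Involutions
import Cfsg.Prelude.Def_Solvable
import Mathlib
import Cfsg.Agent.Lib.SECount.Basic

/-!
Groups in which the centralizer of every involution is a 2-group (CIT groups): definitions and
basic lemmas.
-/

set_option autoImplicit false

namespace Cfsg.Agent.Lib.CIT

open Cfsg.Agent.Lib.SECount

variable {G : Type*} [Group G]

/-- The centralizer of every involution is a 2-group. -/
def IsCIT (G : Type*) [Group G] : Prop :=
  ∀ t : G, orderOf t = 2 → IsPGroup 2 ↥(Subgroup.centralizer ({t} : Set G))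

/-- An element of odd order commuting with a nontrivial 2-element is trivial. -/
theorem IsCIT.eq_one_of_commute [Finite G] (h : IsCIT G) {x y : G} {k : ℕ} (hx : x ^ 2 ^ k = 1)
    (hx1 : x ≠ 1) (hy : Odd (orderOf y)) (hc : x * y = y * x) : y = 1 := by
  have : Fact (Nat.Prime 2) := ⟨Nat.prime_two⟩
  obtain ⟨j, -, hj⟩ := (Nat.dvd_prime_pow Nat.prime_two).1 (orderOf_dvd_of_pow_eq_one hx)
  have hj0 : j ≠ 0 := by
    rintro rfl
    exact hx1 (orderOf_eq_one_iff.1 (by simpa using hj))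
  obtain ⟨t, ht, htc⟩ : ∃ t : G, orderOf t = 2 ∧ t * y = y * t := by
    refine ⟨x ^ 2 ^ (j - 1), ?_, (Commute.pow_left (show Commute x y from hc) _).eq⟩
    have hdvd : 2 ^ (j - 1) ∣ orderOf x := hj ▸ pow_dvd_pow 2 (by omega)
    rw [orderOf_pow_of_dvd (by positivity) hdvd, hj, Nat.pow_div (by omega) (by norm_num),
      show j - (j - 1) = 1 by omega, pow_one]
  have hmem : y ∈ Subgroup.centralizer ({t} : Set G) :=
    Subgroup.mem_centralizer_singleton_iff.2 htc.symm
  obtain ⟨i, hi⟩ := (IsPGroup.iff_orderOf.1 (h t ht)) ⟨y, hmem⟩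
  rw [Subgroup.orderOf_mk] at hi
  rw [hi] at hy
  rcases Nat.eq_zero_or_pos i with rfl | hi0
  · exact orderOf_eq_one_iff.1 (by simpa using hi)
  · exact absurd hy (Nat.not_odd_iff_even.2 ((Nat.even_pow).2 ⟨even_two, by omega⟩))

theorem IsCIT.eq_one_of_commute_invo [Finite G] (h : IsCIT G) {t y : G} (ht : orderOf t = 2)
    (hy : Odd (orderOf y)) (hc : t * y = y * t) : y = 1 :=
  h.eq_one_of_commute (k := 1) (by rw [pow_one, ← ht]; exact pow_orderOf_eq_one t) (invo_ne_one ht) hy hc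

theorem IsCIT.subgroup (h : IsCIT G) (H : Subgroup G) : IsCIT ↥H := by
  intro t ht
  refine (h (t : G) ((Subgroup.orderOf_coe t).trans ht)).of_injective
    (((H.subtype).comp (Subgroup.centralizer ({t} : Set H)).subtype).codRestrict _ fun c => ?_) ?_
  · exact Subgroup.mem_centralizer_singleton_iff.2
      (congrArg Subtype.val (Subgroup.mem_centralizer_singleton_iff.1 c.2))
  · intro a b e
    have e' : ((a : H) : G) = ((b : H) : G) := by simpa using congrArg Subtype.val e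
    exact Subtype.ext (Subtype.ext e')

theorem IsCIT.of_mulEquiv {H : Type*} [Group H] (h : IsCIT G) (e : G ≃* H) : IsCIT H := by
  intro t ht
  refine (h (e.symm t) ((e.symm.orderOf_eq t).trans ht)).of_injective
    ((e.symm.toMonoidHom.comp (Subgroup.centralizer ({t} : Set H)).subtype).codRestrict _ fun c => ?_) ?_
  · refine Subgroup.mem_centralizer_singleton_iff.2 ?_
    have := congrArg e.symm (Subgroup.mem_centralizer_singleton_iff.1 c.2)
    simpa using this
  · intro a b e'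
    have e'' : e.symm (a : H) = e.symm (b : H) := by simpa using congrArg Subtype.val e'
    exact Subtype.ext (e.symm.injective e'')

/-- An element of odd order inverted by a fixed-point-free action is inverted: if the involution `s`
normalizes the odd order subgroup `N` and centralizes only `1` in it, it inverts `N`. -/
theorem inv_of_fixedPointFree [Finite G] {N : Subgroup G} {s : G} (hs : s * s = 1)
    (hn : ∀ x ∈ N, s * x * s⁻¹ ∈ N) (hfix : ∀ x ∈ N, s * x = x * s → x = 1) :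
    ∀ x ∈ N, s * x * s⁻¹ = x⁻¹ := by
  let f : N → N := fun x => ⟨(x : G)⁻¹ * (s * x * s⁻¹), N.mul_mem (N.inv_mem x.2) (hn x x.2)⟩
  have hinj : Function.Injective f := by
    intro a b e
    have e' : (a : G)⁻¹ * (s * a * s⁻¹) = (b : G)⁻¹ * (s * b * s⁻¹) := congrArg Subtype.val e
    have hfx : s * ((b : G) * (a : G)⁻¹) = (b : G) * (a : G)⁻¹ * s := by
      have e1 : (b : G) * (a : G)⁻¹ = (s * b * s⁻¹) * (s * a * s⁻¹)⁻¹ := by
        calc (b : G) * (a : G)⁻¹
            = (b : G) * ((a : G)⁻¹ * (s * a * s⁻¹)) * (s * a * s⁻¹)⁻¹ := by group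
          _ = (b : G) * ((b : G)⁻¹ * (s * b * s⁻¹)) * (s * a * s⁻¹)⁻¹ := by rw [e']
          _ = (s * b * s⁻¹) * (s * a * s⁻¹)⁻¹ := by group
      conv_rhs => rw [e1]
      group
    exact Subtype.ext (mul_inv_eq_one.1 (hfix _ (N.mul_mem b.2 (N.inv_mem a.2)) hfx)).symm
  intro x hx
  obtain ⟨a, ha⟩ := (Finite.injective_iff_surjective.1 hinj) ⟨x, hx⟩
  have ha' : (a : G)⁻¹ * (s * a * s⁻¹) = x := congrArg Subtype.val ha
  have hsi : s⁻¹ = s := inv_eq_of_mul_eq_one_right hs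
  rw [← ha', mul_inv_rev, inv_inv, hsi, mul_inv_rev, mul_inv_rev, hsi]
  calc s * ((a : G)⁻¹ * (s * a * s)) * s = s * (a : G)⁻¹ * s * a * (s * s) := by group
    _ = s * ((a : G)⁻¹ * s) * a := by rw [hs, mul_one]; group

/-- A group of odd order normalized by a four-group has a nontrivial element commuting with one
of its involutions, unless it is trivial. -/
theorem eq_bot_of_four [Finite G] (h : IsCIT G) {N : Subgroup G} (hN : Odd (Nat.card N)) {s t : G}
    (hs : orderOf s = 2) (ht : orderOf t = 2) (hst : s ≠ t) (hc : s * t = t * s)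
    (hsn : ∀ x ∈ N, s * x * s⁻¹ ∈ N) (htn : ∀ x ∈ N, t * x * t⁻¹ ∈ N) : N = ⊥ := by
  have hodd : ∀ x ∈ N, Odd (orderOf x) := fun x hx =>
    Odd.of_dvd_nat hN (Subgroup.orderOf_mk x hx ▸ orderOf_dvd_natCard (⟨x, hx⟩ : N))
  have is := inv_of_fixedPointFree (invo_sq hs) hsn
    (fun x hx e => h.eq_one_of_commute_invo hs (hodd x hx) e)
  have it := inv_of_fixedPointFree (invo_sq ht) htn
    (fun x hx e => h.eq_one_of_commute_invo ht (hodd x hx) e)
  have hu : orderOf (s * t) = 2 := by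
    refine invo_of_sq (fun e => hst ?_) ?_
    · rw [← invo_inv ht]; exact eq_inv_of_mul_eq_one_left e
    · calc s * t * (s * t) = s * t * (t * s) := by rw [hc]
        _ = 1 := by rw [mul_assoc, ← mul_assoc t, invo_sq ht, one_mul, invo_sq hs]
  refine (Subgroup.eq_bot_iff_forall N).2 fun x hx => h.eq_one_of_commute_invo hu (hodd x hx) ?_
  have h1 : t * x = x⁻¹ * t := mul_inv_eq_iff_eq_mul.1 (it x hx)
  have h2 : s * x⁻¹ = x * s := by
    have := mul_inv_eq_iff_eq_mul.1 (is x⁻¹ (N.inv_mem hx))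
    rwa [inv_inv] at this
  rw [mul_assoc, h1, ← mul_assoc, h2, mul_assoc]

/-- The lifting lemma: if `τ` inverts the nontrivial element `y` of odd order modulo the 2-group
`R` normalized by both, with `τ ^ 2 ∈ R`, and `y` centralizes no nontrivial element of `R`, then
the coset `R τ` contains an involution inverting `y`. -/
theorem exists_invo_lift [Finite G] {R : Subgroup G} {τ y : G} (hy : Odd (orderOf y)) (hy1 : y ≠ 1)
    (hτR : ∀ x ∈ R, τ * x * τ⁻¹ ∈ R) (hyR : ∀ x ∈ R, y⁻¹ * x * y ∈ R)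
    (hτ2 : τ * τ ∈ R) (hinv : τ * y * τ⁻¹ * y ∈ R) (hfix : ∀ x ∈ R, y * x = x * y → x = 1) :
    ∃ c ∈ R, orderOf (c * τ) = 2 ∧ (c * τ) * y * (c * τ)⁻¹ = y⁻¹ := by
  obtain ⟨c, hc, hceq⟩ : ∃ c ∈ R, c⁻¹ * (y⁻¹ * c * y) = τ * y * τ⁻¹ * y := by
    let f : R → R := fun c => ⟨(c : G)⁻¹ * (y⁻¹ * c * y), R.mul_mem (R.inv_mem c.2) (hyR c c.2)⟩
    have hinj : Function.Injective f := by
      intro a b e
      have e' : (a : G)⁻¹ * (y⁻¹ * a * y) = (b : G)⁻¹ * (y⁻¹ * b * y) := congrArg Subtype.val e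
      have e1 : y⁻¹ * ((b : G) * (a : G)⁻¹) * y = (b : G) * (a : G)⁻¹ := by
        calc y⁻¹ * ((b : G) * (a : G)⁻¹) * y
            = (b : G) * ((b : G)⁻¹ * (y⁻¹ * b * y)) * ((a : G)⁻¹ * (y⁻¹ * a * y))⁻¹ * (a : G)⁻¹ := by
              group
          _ = (b : G) * (a : G)⁻¹ := by rw [← e', mul_inv_cancel_right]
      have e2 : y * ((b : G) * (a : G)⁻¹) = (b : G) * (a : G)⁻¹ * y := by
        conv_lhs => rw [← e1]
        group
      exact Subtype.ext (mul_inv_eq_one.1 (hfix _ (R.mul_mem b.2 (R.inv_mem a.2)) e2)).symm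
    obtain ⟨c, hc⟩ := (Finite.injective_iff_surjective.1 hinj) ⟨_, hinv⟩
    exact ⟨c, c.2, congrArg Subtype.val hc⟩
  have hz : τ * y * τ⁻¹ = c⁻¹ * y⁻¹ * c := by
    calc τ * y * τ⁻¹ = (τ * y * τ⁻¹ * y) * y⁻¹ := by group
      _ = c⁻¹ * (y⁻¹ * c * y) * y⁻¹ := by rw [hceq]
      _ = c⁻¹ * y⁻¹ * c := by group
  have hconj : (c * τ) * y * (c * τ)⁻¹ = y⁻¹ := by
    calc (c * τ) * y * (c * τ)⁻¹ = c * (τ * y * τ⁻¹) * c⁻¹ := by group
      _ = y⁻¹ := by rw [hz]; group
  refine ⟨c, hc, invo_of_sq (fun e => hy1 ?_) ?_, hconj⟩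
  · rw [e, one_mul, inv_one, mul_one] at hconj
    have h2 : y ^ 2 = 1 := by rw [pow_two]; exact mul_eq_one_iff_eq_inv.2 hconj
    rcases (Nat.dvd_prime Nat.prime_two).1 (orderOf_dvd_of_pow_eq_one h2) with h1 | h1
    · exact orderOf_eq_one_iff.1 h1
    · rw [h1] at hy
      exact absurd hy (by decide)
  · refine hfix _ ?_ ?_
    · rw [show c * τ * (c * τ) = c * (τ * c * τ⁻¹) * (τ * τ) by group]
      exact R.mul_mem (R.mul_mem hc (hτR c hc)) hτ2
    · have hconj2 : (c * τ) * y⁻¹ * (c * τ)⁻¹ = y := by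
        calc (c * τ) * y⁻¹ * (c * τ)⁻¹ = ((c * τ) * y * (c * τ)⁻¹)⁻¹ := by group
          _ = y := by rw [hconj, inv_inv]
      have h3 : (c * τ * (c * τ)) * y * (c * τ * (c * τ))⁻¹ = y := by
        calc (c * τ * (c * τ)) * y * (c * τ * (c * τ))⁻¹
            = (c * τ) * ((c * τ) * y * (c * τ)⁻¹) * (c * τ)⁻¹ := by group
          _ = y := by rw [hconj, hconj2]
      exact (mul_inv_eq_iff_eq_mul.1 h3).symm

/-- An element `y` of odd order normalizing a nontrivial 2-subgroup commutes with none of its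
nontrivial elements (unless `y = 1`). -/
theorem IsCIT.eq_one_of_mem [Finite G] (h : IsCIT G) {R : Subgroup G} (hR : IsPGroup 2 R) {x y : G}
    (hy : Odd (orderOf y)) (hy1 : y ≠ 1) (hx : x ∈ R) (hc : y * x = x * y) : x = 1 := by
  by_contra hx1
  obtain ⟨k, hk⟩ := hR ⟨x, hx⟩
  exact hy1 (h.eq_one_of_commute (k := k) (congrArg Subtype.val hk) hx1 hy hc.symm)

/-- The centralizer of a nontrivial 2-element is a 2-group. -/
theorem IsCIT.centralizer_twoElem [Finite G] (h : IsCIT G) {x : G} {k : ℕ} (hx : x ^ 2 ^ k = 1)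
    (hx1 : x ≠ 1) : IsPGroup 2 ↥(Subgroup.centralizer ({x} : Set G)) := by
  have : Fact (Nat.Prime 2) := ⟨Nat.prime_two⟩
  refine IsPGroup.of_card (n := (Nat.card ↥(Subgroup.centralizer ({x} : Set G))).primeFactorsList.length) ?_
  refine Nat.eq_prime_pow_of_unique_prime_dvd (Nat.card_pos (α := ↥(Subgroup.centralizer ({x} : Set G)))).ne' fun {r} hr hrd => ?_
  by_contra hr2
  have := Fact.mk hr
  obtain ⟨y, hy⟩ := exists_prime_orderOf_dvd_card' (G := ↥(Subgroup.centralizer ({x} : Set G))) r hrd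
  have hy' : orderOf (y : G) = r := by rw [Subgroup.orderOf_coe, hy]
  have := h.eq_one_of_commute hx hx1 (y := (y : G)) (hy'.symm ▸ hr.odd_of_ne_two hr2)
    (Subgroup.mem_centralizer_singleton_iff.1 y.2).symm
  rw [this, orderOf_one] at hy'
  exact hr.one_lt.ne hy'

/-- The quotient of a CIT group by a normal 2-subgroup is a CIT group. -/
theorem IsCIT.quotient [Finite G] (h : IsCIT G) {R : Subgroup G} [R.Normal] (hR : IsPGroup 2 R) :
    IsCIT (G ⧸ R) := by
  have : Fact (Nat.Prime 2) := ⟨Nat.prime_two⟩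
  intro t ht
  refine IsPGroup.of_card (n := (Nat.card ↥(Subgroup.centralizer ({t} : Set (G ⧸ R)))).primeFactorsList.length) ?_
  refine Nat.eq_prime_pow_of_unique_prime_dvd (Nat.card_pos (α := ↥(Subgroup.centralizer ({t} : Set (G ⧸ R))))).ne' fun {r} hr hrd => ?_
  by_contra hr2
  have := Fact.mk hr
  obtain ⟨⟨yb, hyc⟩, hy⟩ :=
    exists_prime_orderOf_dvd_card' (G := ↥(Subgroup.centralizer ({t} : Set (G ⧸ R)))) r hrd
  rw [Subgroup.orderOf_mk] at hy
  obtain ⟨y₀, rfl⟩ := QuotientGroup.mk_surjective yb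
  obtain ⟨τ, rfl⟩ := QuotientGroup.mk_surjective t
  have hcomm := Subgroup.mem_centralizer_singleton_iff.1 hyc
  -- a power of `y₀` of order `r` with the same image
  obtain ⟨n, hn⟩ : ∃ n, orderOf y₀ = r * n := by
    have : orderOf (QuotientGroup.mk' R y₀) ∣ orderOf y₀ := orderOf_map_dvd _ y₀
    rw [QuotientGroup.mk'_apply, hy] at this
    exact this
  obtain ⟨k, hk⟩ : ∃ k, (QuotientGroup.mk (y₀ ^ (n * k)) : G ⧸ R) = QuotientGroup.mk y₀ := by
    have hn2 : r.Coprime n := by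
      refine (Nat.Prime.coprime_iff_not_dvd hr).2 fun hrn => ?_
      obtain ⟨j, hj⟩ := hR ⟨y₀ ^ r, (QuotientGroup.eq_one_iff _).1 (by
        rw [QuotientGroup.mk_pow, ← hy]; exact pow_orderOf_eq_one _)⟩
      have hd : r * n ∣ r * 2 ^ j := by
        rw [← hn]
        exact orderOf_dvd_of_pow_eq_one (by rw [pow_mul]; exact congrArg Subtype.val hj)
      exact hr2 ((Nat.prime_dvd_prime_iff_eq hr Nat.prime_two).1
        (hr.dvd_of_dvd_pow (hrn.trans (Nat.dvd_of_mul_dvd_mul_left hr.pos hd))))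
    obtain ⟨k, -, hk⟩ := Nat.exists_mul_mod_eq_one_of_coprime hn2.symm hr.one_lt
    refine ⟨k, ?_⟩
    rw [QuotientGroup.mk_pow, ← pow_mod_orderOf, hy, hk, pow_one]
  set y := y₀ ^ (n * k) with hydef
  have hyr : y ^ r = 1 := by
    rw [hydef, ← pow_mul, show n * k * r = r * n * k by ring, pow_mul, ← hn, pow_orderOf_eq_one, one_pow]
  have hy1 : y ≠ 1 := fun e => by
    rw [e, QuotientGroup.mk_one] at hk
    rw [← hk, orderOf_one] at hy
    exact hr.one_lt.ne hy
  have hyodd : Odd (orderOf y) := by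
    rcases (Nat.dvd_prime hr).1 (orderOf_dvd_of_pow_eq_one hyr) with e | e
    · exact absurd (orderOf_eq_one_iff.1 e) hy1
    · exact e.symm ▸ hr.odd_of_ne_two hr2
  have hmem : τ⁻¹ * y * τ * y⁻¹ ∈ R := by
    rw [← QuotientGroup.eq_one_iff]
    simp only [QuotientGroup.mk_mul, QuotientGroup.mk_inv, hk]
    rw [mul_assoc _ (QuotientGroup.mk y₀), hcomm, ← mul_assoc, inv_mul_cancel, one_mul, mul_inv_cancel]
  -- a fixed point of `y` in the coset `τ R`
  obtain ⟨c, hc, hceq⟩ : ∃ c ∈ R, c * (y * c⁻¹ * y⁻¹) = τ⁻¹ * y * τ * y⁻¹ := by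
    let f : R → R := fun c => ⟨(c : G) * (y * (c : G)⁻¹ * y⁻¹),
      R.mul_mem c.2 (‹R.Normal›.conj_mem _ (R.inv_mem c.2) y)⟩
    have hinj : Function.Injective f := by
      intro a b e
      have e' : (a : G) * (y * (a : G)⁻¹ * y⁻¹) = (b : G) * (y * (b : G)⁻¹ * y⁻¹) :=
        congrArg Subtype.val e
      have e2 : y * ((a : G)⁻¹ * b) = (a : G)⁻¹ * b * y := by
        calc y * ((a : G)⁻¹ * b)
            = (a : G)⁻¹ * ((a : G) * (y * (a : G)⁻¹ * y⁻¹)) * y * b := by group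
          _ = (a : G)⁻¹ * b * y := by rw [e']; group
      exact Subtype.ext (inv_mul_eq_one.1 (h.eq_one_of_mem hR hyodd hy1 (R.mul_mem (R.inv_mem a.2) b.2) e2))
    obtain ⟨c, hc⟩ := (Finite.injective_iff_surjective.1 hinj) ⟨_, hmem⟩
    exact ⟨c, c.2, congrArg Subtype.val hc⟩
  have hcy : (τ * c) * y = y * (τ * c) := by
    calc (τ * c) * y = τ * (c * (y * c⁻¹ * y⁻¹)) * y * c := by group
      _ = y * (τ * c) := by rw [hceq]; group
  have h2 : (τ * c) * (τ * c) ∈ R := by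
    rw [← QuotientGroup.eq_one_iff]
    simp only [QuotientGroup.mk_mul, (QuotientGroup.eq_one_iff c).2 hc, mul_one]
    exact invo_sq ht
  obtain ⟨j, hj⟩ := hR ⟨_, h2⟩
  refine hy1 (h.eq_one_of_commute (k := j + 1) ?_ (fun e => ?_) hyodd hcy)
  · have hj' : (τ * c * (τ * c)) ^ 2 ^ j = 1 := congrArg Subtype.val hj
    rw [pow_succ, mul_comm, pow_mul, pow_two]
    exact hj'
  · have e' : (QuotientGroup.mk (τ * c) : G ⧸ R) = 1 := by rw [e, QuotientGroup.mk_one]
    rw [QuotientGroup.mk_mul, (QuotientGroup.eq_one_iff c).2 hc, mul_one] at e'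
    exact invo_ne_one ht e'

/-- A 2-local configuration: the 2-core contains its centralizer and any two distinct Sylow
2-subgroups, of which there are at least two, intersect in the 2-core. -/
structure IsLocal (Y : Type*) [Group Y] : Prop where
  cent : Subgroup.centralizer ((Cfsg.pCore 2 Y : Subgroup Y) : Set Y) ≤ Cfsg.pCore 2 Y
  exists_two : ∃ P Q : Sylow 2 Y, P ≠ Q
  ti : ∀ P Q : Sylow 2 Y, P ≠ Q → (P : Subgroup Y) ⊓ (Q : Subgroup Y) = Cfsg.pCore 2 Y

end Cfsg.Agent.Lib.CIT
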