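import Cfsg.Agent.Lib.CIT.FlagUpgrade
import Cfsg.Agent.Lib.Involution.ThompsonTransfer

/-!
A flag whose 2-group `P = V A` is not a Sylow 2-subgroup of the group forces `q = 2` or a subgroup
of index 2.  Written by helper24.
-/

set_option autoImplicit false

namespace Cfsg.Agent.Lib.CIT

open Cfsg.Agent.Lib.SECount

variable {G : Type*} [Group G] [Finite G] {P V A K : Subgroup G} {w : G} {q : ℕ}

theorem card_le_two_mul {B H : Subgroup G} {u : G} (hu : u ∈ B)
    (hcov : ∀ b ∈ B, b ∉ H → u * b ∈ H) : Nat.card B ≤ 2 * Nat.card (B ⊓ H : Subgroup G) := by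
  classical
  let f : B → Bool × (B ⊓ H : Subgroup G) := fun b =>
    if hb : (b : G) ∈ H then (true, ⟨b, b.2, hb⟩)
    else (false, ⟨u * b, B.mul_mem hu b.2, hcov b b.2 hb⟩)
  have hinj : Function.Injective f := by
    intro a b e
    by_cases ha : (a : G) ∈ H <;> by_cases hb : (b : G) ∈ H <;> simp [f, ha, hb] at e
    · exact Subtype.ext (Subtype.mk.inj e)
    · exact Subtype.ext (mul_left_cancel (Subtype.mk.inj e))
  have := Nat.card_le_card_of_injective f hinj
  rwa [Nat.card_prod, Nat.card_eq_fintype_card (α := Bool), Fintype.card_bool] at this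

/-- Flag data at a 2-group which is not a Sylow 2-subgroup. -/
theorem FlagData.eq_sylow_or (hCIT : IsCIT G) (hno : ∀ H : Subgroup G, H.index ≠ 2)
    (h : FlagData (Subgroup.normalizer (V : Set G)) P V A K w q) (S : Sylow 2 G)
    (hPS : P ≤ (S : Subgroup G)) : P = (S : Subgroup G) ∨ q = 2 := by
  refine or_iff_not_imp_left.2 fun hne => ?_
  by_contra hq
  have h4 : 2 * q < q ^ 2 := by
    have := h.two_le
    have h3 : 3 ≤ q := by omega
    nlinarith
  have : Fact (Nat.Prime 2) := ⟨Nat.prime_two⟩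
  set Y := Subgroup.normalizer (V : Set G) with hY
  set T := (S : Subgroup G) ⊓ Subgroup.normalizer (P : Set G) with hTdef
  have hPT : P < T := lt_inf_nz S.isPGroup' (lt_of_le_of_ne hPS hne)
  have hT : IsPGroup 2 T := S.isPGroup'.to_inf_left
  have hTV : T ⊓ Y = P := h.maximal _ (le_inf hPT.le h.le_top) inf_le_right hT.to_inf_left
  have hswap : ∀ x ∈ T, x ∉ P → cj x V = A ∧ cj x A = V := by
    intro x hx hxP
    have hxn : x ∉ Y := fun e => hxP (hTV ▸ ⟨hx, e⟩)
    have h1 : cj x V = A := (h.member_eq (h.isMember_left.of_nz hx.2)).resolve_left fun e =>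
      hxn (nz_of_cj_eq e)
    refine ⟨h1, (h.member_eq (h.isMember_right.of_nz hx.2)).resolve_right fun e => h.left_ne_right ?_⟩
    have h2 := congrArg (cj x⁻¹) (h1.trans e.symm)
    rwa [cj_cj, cj_cj, inv_mul_cancel, cj_one, cj_one] at h2
  have hcov : ∀ x ∈ T, x ∉ P → ∀ y ∈ T, y ∉ P → x * y ∈ P := by
    intro x hx hxP y hy hyP
    refine hTV ▸ ⟨T.mul_mem hx hy, nz_of_cj_eq ?_⟩
    rw [← cj_cj, (hswap y hy hyP).1, (hswap x hx hxP).2]
  have hfix : ∀ u ∈ T, u ∉ P → ∀ b ∈ P, b * b = 1 → u * b = b * u → b ∈ V ⊓ A := by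
    intro u hu huP b hb hb2 hc
    have hconj : u * b * u⁻¹ = b := by rw [hc, mul_inv_cancel_right]
    rcases h.elem_mem hb hb2 with h1 | h1
    · refine ⟨h1, (hswap u hu huP).1 ▸ ?_⟩
      exact hconj ▸ Subgroup.mem_map_of_mem _ h1
    · refine ⟨(hswap u hu huP).2 ▸ ?_, h1⟩
      exact hconj ▸ Subgroup.mem_map_of_mem _ h1
  have hsmall : ∀ B : Subgroup G, B ≤ T → (∀ x ∈ B, x * x = 1) → ¬ B ≤ P →
      Nat.card B ≤ 2 * q := by
    intro B hB hB2 hBP
    obtain ⟨u, hu, huP⟩ := SetLike.not_le_iff_exists.1 hBP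
    refine (card_le_two_mul hu fun b hb hbP => hcov u (hB hu) huP b (hB hb) hbP).trans
      (Nat.mul_le_mul_left 2 ?_)
    rw [← h.card_inf]
    exact Subgroup.card_le_of_le fun b hb =>
      hfix u (hB hu) huP b hb.2 (hB2 b hb.1) (comm_of_sq_pair hB2 hu hb.1)
  have hTS : T = (S : Subgroup G) := by
    by_contra hTne
    have hlt := lt_inf_nz S.isPGroup' (lt_of_le_of_ne inf_le_left hTne)
    refine hlt.not_ge fun x hx => ⟨hx.1, nz_of_cj_eq ?_⟩
    have hJ : memberJoin T = P := by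
      refine le_antisymm (sSup_le fun B hB => ?_) ?_
      · by_contra hBP
        have := (hB.2.2 V (h.left_le.trans hPT.le) h.sq_left).trans (hsmall B hB.1 hB.2.1 hBP)
        rw [h.card_left] at this
        omega
      · have hm : ∀ B, B ≤ P → (∀ y ∈ B, y * y = 1) → Nat.card B = q ^ 2 → IsMember T B := by
          refine fun B hB hB2 hc => ⟨hB.trans hPT.le, hB2, fun C hC hC2 => ?_⟩
          by_cases hCP : C ≤ P
          · exact hc ▸ h.member_le hCP hC2
          · have := hsmall C hC hC2 hCP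
            omega
        exact h.eq_sup.le.trans (sup_le (hm V h.left_le h.sq_left h.card_left).le_join
          (hm A h.right_le h.sq_right h.card_right).le_join)
    exact hJ ▸ cj_eq_of_nz (normalizer_le_normalizer_memberJoin T hx.2)
  have hSN : (S : Subgroup G) ≤ Subgroup.normalizer (P : Set G) := hTS ▸ inf_le_right
  rw [hTS] at hswap hcov hfix hsmall hPT hTV
  obtain ⟨s, hs, hsP⟩ := SetLike.exists_of_lt hPT
  -- the index
  have hidx : P.relIndex (S : Subgroup G) = 2 := by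
    refine Subgroup.index_eq_two_iff.2 ⟨⟨s, hs⟩, fun b => ?_⟩
    simp only [Subgroup.mem_subgroupOf, Subgroup.coe_mul]
    by_cases hb : (b : G) ∈ P
    · exact Or.inr ⟨hb, fun e => hsP ((Subgroup.mul_mem_cancel_left P hb).1 e)⟩
    · exact Or.inl ⟨hcov _ b.2 hb s hs hsP, hb⟩
  -- the stabiliser of `V` in `N(P)`
  have hstab : ∀ g ∈ P ⊔ K, s * g * s⁻¹ ∈ P ⊔ K := by
    intro g hg
    rw [← h.normalizer_eq] at hg ⊢
    refine ⟨nz_of_cj_eq ?_, (Subgroup.normalizer (P : Set G)).mul_mem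
      ((Subgroup.normalizer (P : Set G)).mul_mem (hSN hs) hg.2)
      ((Subgroup.normalizer (P : Set G)).inv_mem (hSN hs))⟩
    have hgA : cj g A = A :=
      (h.member_eq (h.isMember_right.of_nz hg.2)).resolve_left fun e => h.left_ne_right (by
        have h1 := congrArg (cj g⁻¹) e
        rw [cj_cj, inv_mul_cancel, cj_one, cj_eq_of_nz (Y.inv_mem hg.1)] at h1
        exact h1.symm)
    have hsi : cj s⁻¹ V = A := (hswap _ (inv_mem hs) fun e => hsP (by simpa using P.inv_mem e)).1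
    rw [← cj_cj, ← cj_cj, hsi, hgA, (hswap s hs hsP).2]
  have hdec : ∀ g ∈ P ⊔ K, ∃ p ∈ P, ∃ k ∈ K, g = p * k := fun g hg => by
    rw [← SetLike.mem_coe, Subgroup.coe_mul_of_right_le_normalizer_left P K h.torus_nz] at hg
    obtain ⟨p, hp, k, hk, e⟩ := hg
    exact ⟨p, hp, k, hk, e.symm⟩
  obtain ⟨k, hk, hk1⟩ : ∃ k ∈ K, k ≠ 1 := by
    by_contra hcon
    push Not at hcon
    have hK : K = ⊥ := (Subgroup.eq_bot_iff_forall K).2 hcon
    have := h.torus_card
    rw [hK, Subgroup.card_bot] at this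
    have := h.two_le
    omega
  obtain ⟨p₁, hp₁, k₁, hk₁, hsk⟩ := hdec _ (hstab k (Subgroup.mem_sup_right hk))
  have hs2 : s * s ∈ P := hcov s hs hsP s hs hsP
  have hPn : ∀ g ∈ K, ∀ p ∈ P, g * p * g⁻¹ ∈ P := fun g hg p hp =>
    conj_mem_of_nz (h.torus_nz hg) hp
  have hsn : ∀ p ∈ P, s * p * s⁻¹ ∈ P := fun p hp => conj_mem_of_nz (hSN hs) hp
  have hsk1 : s * k₁ * s⁻¹ * k⁻¹ ∈ P := by
    have e : s * k₁ * s⁻¹ * k⁻¹ =
        s * p₁⁻¹ * s⁻¹ * ((s * s) * (k * (s * s)⁻¹ * k⁻¹)) := by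
      rw [show k₁ = p₁⁻¹ * (s * k * s⁻¹) by rw [hsk]; group]
      group
    rw [e]
    exact P.mul_mem (hsn _ (P.inv_mem hp₁)) (P.mul_mem hs2 (hPn k hk _ (P.inv_mem hs2)))
  set y := k⁻¹ * k₁ with hy
  have hyK : y ∈ K := K.mul_mem (K.inv_mem hk) hk₁
  have hy1 : y ≠ 1 := by
    intro e
    have hkk : k₁ = k := (inv_mul_eq_one.1 e).symm
    have hR : s⁻¹ * k * s * k⁻¹ ∈ P := by
      have h1 := conj_mem_of_nz (hSN (inv_mem hs)) (P.inv_mem hp₁)
      rw [show p₁⁻¹ = k * (s * k * s⁻¹)⁻¹ by rw [hsk, hkk]; group] at h1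
      convert h1 using 1
      group
    let f : P → P := fun c => ⟨(c : G) * (k * (c : G)⁻¹ * k⁻¹),
      P.mul_mem c.2 (hPn k hk _ (P.inv_mem c.2))⟩
    have hinj : Function.Injective f := by
      intro a b e
      have e' : (a : G) * (k * (a : G)⁻¹ * k⁻¹) = b * (k * (b : G)⁻¹ * k⁻¹) :=
        congrArg Subtype.val e
      have e2 : k * ((a : G)⁻¹ * b) = (a : G)⁻¹ * b * k := by
        calc k * ((a : G)⁻¹ * b)
            = (a : G)⁻¹ * ((a : G) * (k * (a : G)⁻¹ * k⁻¹)) * k * b := by group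
          _ = (a : G)⁻¹ * b * k := by rw [e']; group
      exact Subtype.ext (inv_mul_eq_one.1 (hCIT.eq_one_of_mem h.isPGroup
        (h.odd_orderOf_torus hk) hk1 (P.mul_mem (P.inv_mem a.2) b.2) e2))
    obtain ⟨⟨c, hc⟩, hceq⟩ := (Finite.injective_iff_surjective.1 hinj) ⟨_, hR⟩
    have hceq' : c * (k * c⁻¹ * k⁻¹) = s⁻¹ * k * s * k⁻¹ := congrArg Subtype.val hceq
    have hcomm : k * (s * c) = (s * c) * k := by
      calc k * (s * c) = s * (s⁻¹ * k * s * k⁻¹) * (k * c) := by group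
        _ = (s * c) * k := by rw [← hceq']; group
    have := hCIT.eq_one_of_mem S.isPGroup' (h.odd_orderOf_torus hk) hk1
      (mul_mem hs (hPS hc)) hcomm
    exact hsP (eq_inv_of_mul_eq_one_left this ▸ P.inv_mem hc)
  have hinv : s * y * s⁻¹ * y ∈ P := by
    have e : s * y * s⁻¹ * y =
        k₁⁻¹ * (p₁⁻¹ * (s * k₁ * s⁻¹ * k⁻¹)) * k₁⁻¹⁻¹ * (k₁⁻¹ * k * (k⁻¹ * k₁)) := by
      rw [hy, show s * (k⁻¹ * k₁) * s⁻¹ = (s * k * s⁻¹)⁻¹ * (s * k₁ * s⁻¹) by group, hsk]
      group
    rw [e, show k₁⁻¹ * k * (k⁻¹ * k₁) = 1 by group, mul_one]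
    exact hPn _ (K.inv_mem hk₁) _ (P.mul_mem (P.inv_mem hp₁) hsk1)
  have hyodd := h.odd_orderOf_torus hyK
  obtain ⟨c, hc, hu2, huy⟩ := exists_invo_lift hyodd hy1 hsn
    (fun x hx => by simpa using hPn _ (K.inv_mem hyK) x hx) hs2 hinv
    (fun x hx e => hCIT.eq_one_of_mem h.isPGroup hyodd hy1 hx e)
  set u := c * s
  have huS : u ∈ (S : Subgroup G) := mul_mem (hPS hc) hs
  have huP : u ∉ P := fun e => hsP ((Subgroup.mul_mem_cancel_left P hc).1 e)
  have huu : u * u = 1 := invo_sq hu2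
  have hui : u⁻¹ = u := invo_inv hu2
  have huZ : ∀ z ∈ V ⊓ A, u * z * u⁻¹ ∈ V ⊓ A := fun z hz =>
    ⟨(hswap u huS huP).2 ▸ Subgroup.mem_map_of_mem _ hz.2,
      (hswap u huS huP).1 ▸ Subgroup.mem_map_of_mem _ hz.1⟩
  obtain ⟨z₁, hz₁, hz₁u⟩ : ∃ z ∈ V ⊓ A, u * z ≠ z * u := by
    by_contra hcon
    push Not at hcon
    obtain ⟨z, hz, hz1⟩ := h.exists_ne_one
    have e1 : u * (y * z * y⁻¹) * u⁻¹ = y * z * y⁻¹ := by
      rw [hcon _ (h.torus_conj_inf hyK hz), mul_inv_cancel_right]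
    have e2 : u * (y * z * y⁻¹) * u⁻¹ = y⁻¹ * z * y := by
      calc u * (y * z * y⁻¹) * u⁻¹ = (u * y * u⁻¹) * (u * z * u⁻¹) * (u * y * u⁻¹)⁻¹ := by group
        _ = y⁻¹ * z * y := by rw [huy, hcon z hz, mul_inv_cancel_right, inv_inv]
    have e3 : y * y * z = z * (y * y) := by
      calc y * y * z = y * (y * z * y⁻¹) * y := by group
        _ = y * (y⁻¹ * z * y) * y := by rw [← e1, e2]
        _ = z * (y * y) := by group
    have := h.torus_eq_one hCIT (K.mul_mem hyK hyK) hz hz1 e3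
    have hd : orderOf y ∣ 2 := orderOf_dvd_of_pow_eq_one (by rw [pow_two]; exact this)
    rcases (Nat.dvd_prime Nat.prime_two).1 hd with e | e
    · exact hy1 (orderOf_eq_one_iff.1 e)
    · rw [e] at hyodd; exact absurd hyodd (by decide)
  set Z₀ := (V ⊓ A) ⊓ Subgroup.centralizer ({u} : Set G)
  have hZ₀ : Nat.card Z₀ < q := by
    rw [← h.card_inf]
    refine lt_of_le_of_ne (Subgroup.card_le_of_le inf_le_left) fun e => hz₁u ?_
    have := Subgroup.eq_of_le_of_card_ge (inf_le_left (b := Subgroup.centralizer ({u} : Set G))) e.ge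
    exact (Subgroup.mem_centralizer_singleton_iff.1 (this.ge hz₁).2).symm
  -- an element of order 4 centralised by `u`
  obtain ⟨p, hp, hpu, hp2⟩ : ∃ p ∈ P, u * p = p * u ∧ p * p ≠ 1 := by
    by_contra hcon
    push Not at hcon
    let D : Subgroup G :=
      { carrier := {p | p ∈ P ∧ p⁻¹ * (u * p * u⁻¹) ∈ V ⊓ A}
        mul_mem' := by
          rintro a b ⟨ha, ha'⟩ ⟨hb, hb'⟩
          refine ⟨P.mul_mem ha hb, ?_⟩
          have e : (a * b)⁻¹ * (u * (a * b) * u⁻¹) =
              a⁻¹ * (u * a * u⁻¹) * (b⁻¹ * (u * b * u⁻¹)) := by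
            calc (a * b)⁻¹ * (u * (a * b) * u⁻¹)
                = b⁻¹ * ((a⁻¹ * (u * a * u⁻¹)) * (u * b * u⁻¹)) := by group
              _ = b⁻¹ * ((u * b * u⁻¹) * (a⁻¹ * (u * a * u⁻¹))) := by
                  rw [h.inf_comm_top ha' (conj_mem_of_nz (hSN huS) hb)]
              _ = (b⁻¹ * (u * b * u⁻¹)) * (a⁻¹ * (u * a * u⁻¹)) := by group
              _ = _ := h.inf_comm_left hb' ha'.1
          exact e ▸ mul_mem ha' hb'
        one_mem' := ⟨P.one_mem, by simp⟩
        inv_mem' := by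
          rintro a ⟨ha, ha'⟩
          refine ⟨P.inv_mem ha, ?_⟩
          have e : a⁻¹⁻¹ * (u * a⁻¹ * u⁻¹) = (a⁻¹ * (u * a * u⁻¹))⁻¹ := by
            calc a⁻¹⁻¹ * (u * a⁻¹ * u⁻¹) = a * ((a⁻¹ * (u * a * u⁻¹))⁻¹ * a⁻¹) := by group
              _ = a * (a⁻¹ * (a⁻¹ * (u * a * u⁻¹))⁻¹) := by
                  rw [h.inf_comm_top (inv_mem ha') (P.inv_mem ha)]
              _ = (a⁻¹ * (u * a * u⁻¹))⁻¹ := mul_inv_cancel_left a _
          exact e ▸ inv_mem ha' }
    let θ : D →* (V ⊓ A : Subgroup G) :=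
      MonoidHom.mk' (fun p => ⟨(p : G)⁻¹ * (u * p * u⁻¹), p.2.2⟩) fun a b => Subtype.ext (by
        show ((a : G) * b)⁻¹ * (u * (a * b) * u⁻¹) =
          (a : G)⁻¹ * (u * a * u⁻¹) * ((b : G)⁻¹ * (u * b * u⁻¹))
        calc ((a : G) * b)⁻¹ * (u * (a * b) * u⁻¹)
            = (b : G)⁻¹ * (((a : G)⁻¹ * (u * a * u⁻¹)) * (u * b * u⁻¹)) := by group
          _ = (b : G)⁻¹ * ((u * b * u⁻¹) * ((a : G)⁻¹ * (u * a * u⁻¹))) := by
              rw [h.inf_comm_top a.2.2 (conj_mem_of_nz (hSN huS) b.2.1)]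
          _ = ((b : G)⁻¹ * (u * b * u⁻¹)) * ((a : G)⁻¹ * (u * a * u⁻¹)) := by group
          _ = _ := h.inf_comm_left b.2.2 a.2.2.1)
    have hker : Nat.card θ.ker ≤ Nat.card Z₀ := by
      refine Nat.card_le_card_of_injective (fun x => ⟨((x : D) : G), ?_⟩) fun a b e =>
        Subtype.ext (Subtype.ext (by simpa using congrArg Subtype.val e))
      have hx : ((x : D) : G)⁻¹ * (u * (x : D) * u⁻¹) = 1 := congrArg Subtype.val x.2
      have hc' : u * (x : D) = (x : D) * u :=
        mul_inv_eq_iff_eq_mul.1 (inv_mul_eq_one.1 hx).symm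
      refine ⟨hfix u huS huP _ (x : D).2.1 (hcon _ (x : D).2.1 hc') hc', ?_⟩
      exact Subgroup.mem_centralizer_singleton_iff.2 hc'.symm
    have hD : q * q ≤ Nat.card D := by
      have hidxA : ((V ⊓ A).subgroupOf A).index = q := by
        have := ((V ⊓ A).subgroupOf A).card_mul_index
        rw [Nat.card_congr (Subgroup.subgroupOfEquivOfLe (inf_le_right (a := V))).toEquiv,
          h.card_inf, h.card_right, pow_two] at this
        exact Nat.eq_of_mul_eq_mul_left (by have := h.two_le; omega) this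
      have hmem : ∀ a ∈ A, u * a * u⁻¹ ∈ V := fun a ha =>
        (hswap u huS huP).2 ▸ Subgroup.mem_map_of_mem _ ha
      let F : (A ⧸ (V ⊓ A).subgroupOf A) × (V ⊓ A : Subgroup G) → D := fun x =>
        ⟨(x.1.out : G) * (u * x.1.out * u⁻¹) * x.2, by
          set a : G := (x.1.out : G)
          have ha : a ∈ A := x.1.out.2
          set a' := u * a * u⁻¹ with ha'
          refine ⟨P.mul_mem (P.mul_mem (h.right_le ha) (h.left_le (hmem a ha)))
            (h.left_le x.2.2.1), ?_⟩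
          have e : (a * a' * x.2)⁻¹ * (u * (a * a' * x.2) * u⁻¹) =
              (x.2 : G)⁻¹ * (a' * a * a'⁻¹ * a⁻¹) * (u * x.2 * u⁻¹) := by
            have e1 : u * a' * u⁻¹ = a := by
              rw [ha', hui]
              calc u * (u * a * u) * u = (u * u) * a * (u * u) := by group
                _ = a := by rw [huu]; group
            calc (a * a' * x.2)⁻¹ * (u * (a * a' * x.2) * u⁻¹)
                = (x.2 : G)⁻¹ * a'⁻¹ * a⁻¹ * (u * a * u⁻¹) * (u * a' * u⁻¹) * (u * x.2 * u⁻¹) := by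
                  group
              _ = _ := by
                  have hai : a'⁻¹ = a' := inv_eq_of_sq h.sq_left (hmem a ha)
                  rw [e1, ← ha', hai, inv_eq_of_sq h.sq_right ha]
                  group
          rw [e]
          exact mul_mem (mul_mem (inv_mem x.2.2) (h.comm_mem (hmem a ha) ha)) (huZ _ x.2.2)⟩
      have hF : Function.Injective F := by
        rintro ⟨a, c⟩ ⟨b, d⟩ e
        have e' : (a.out : G) * (u * a.out * u⁻¹) * c = (b.out : G) * (u * b.out * u⁻¹) * d :=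
          congrArg Subtype.val e
        have hab : a = b := by
          rw [← QuotientGroup.out_eq' a, ← QuotientGroup.out_eq' b, QuotientGroup.eq,
            Subgroup.mem_subgroupOf]
          refine ⟨?_, A.mul_mem (A.inv_mem a.out.2) b.out.2⟩
          have e2 : (a.out : G)⁻¹ * b.out =
              (u * a.out * u⁻¹) * c * ((u * b.out * u⁻¹) * d)⁻¹ := by
            calc (a.out : G)⁻¹ * b.out
                = (a.out : G)⁻¹ * (b.out * (u * b.out * u⁻¹) * d) * ((u * b.out * u⁻¹) * d)⁻¹ := by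
                  group
              _ = _ := by rw [← e']; group
          push_cast
          rw [e2]
          exact V.mul_mem (V.mul_mem (hmem _ a.out.2) c.2.1)
            (V.inv_mem (V.mul_mem (hmem _ b.out.2) d.2.1))
        subst hab
        exact Prod.ext rfl (Subtype.ext (mul_left_cancel e'))
      have := Nat.card_le_card_of_injective F hF
      rwa [Nat.card_prod, h.card_inf, show Nat.card (A ⧸ (V ⊓ A).subgroupOf A) = q from hidxA] at this
    have hmul := θ.ker.card_mul_index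
    rw [Subgroup.index_ker] at hmul
    have h1 : Nat.card θ.range ≤ q := h.card_inf ▸ Subgroup.card_le_card_group _
    have h2 : Nat.card θ.ker * Nat.card θ.range ≤ Nat.card Z₀ * q := Nat.mul_le_mul hker h1
    have h3 : Nat.card Z₀ * q < q * q := Nat.mul_lt_mul_of_pos_right hZ₀ (by omega)
    omega
  -- centralisers
  have hCz : ∀ z ∈ V ⊓ A, z ≠ 1 → u * z = z * u →
      Subgroup.centralizer ({z} : Set G) = (S : Subgroup G) := by
    intro z hz hz1 hzu
    refine S.is_maximal' (hCIT.centralizer_twoElem (k := 1)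
      (by rw [pow_one, pow_two]; exact h.sq_inf hz) hz1) fun x hx => ?_
    refine Subgroup.mem_centralizer_singleton_iff.2 ?_
    by_cases hxP : x ∈ P
    · exact (h.inf_comm_top hz hxP).symm
    · have hux : u * x ∈ P := hcov u huS huP x hx hxP
      calc x * z = u * ((u * x) * z) := by rw [← mul_assoc u (u * x), ← mul_assoc u u, huu, one_mul]
        _ = u * z * (u * x) := by rw [← h.inf_comm_top hz hux, ← mul_assoc]
        _ = z * u * (u * x) := by rw [hzu]
        _ = z * x := by rw [mul_assoc, ← mul_assoc u u, huu, one_mul]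
  have hz : p * p ∈ V ⊓ A := h.sq_mem hp
  have hzu : u * (p * p) = p * p * u := by rw [← mul_assoc, hpu, mul_assoc, hpu, mul_assoc]
  set W := Subgroup.centralizer ({u} : Set G) with hW
  have hWp : IsPGroup 2 W := hCIT u hu2
  have hWS : W ≤ (S : Subgroup G) := by
    by_contra hle
    have hlt : (S : Subgroup G) ⊓ W < W := lt_of_le_of_ne inf_le_right fun e => hle (e ▸ inf_le_left)
    obtain ⟨x, hx, hx'⟩ := SetLike.exists_of_lt (lt_inf_nz hWp hlt)
    have hxu : u * x = x * u := (Subgroup.mem_centralizer_singleton_iff.1 hx.1).symm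
    have hsq : ∀ r ∈ (S : Subgroup G) ⊓ W, r * r ∈ V ⊓ A := by
      intro r hr
      by_cases hrP : r ∈ P
      · exact h.sq_mem hrP
      · have hru := (Subgroup.mem_centralizer_singleton_iff.1 hr.2)
        have e : r * r = (u * r) * (u * r) := by
          calc r * r = (u * u) * (r * r) := by rw [huu, one_mul]
            _ = u * (u * r) * r := by group
            _ = u * (r * u) * r := by rw [hru]
            _ = _ := by group
        exact e ▸ h.sq_mem (hcov u huS huP r hr.1 hrP)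
    have hpW : p ∈ (S : Subgroup G) ⊓ W :=
      ⟨hPS hp, Subgroup.mem_centralizer_singleton_iff.2 hpu.symm⟩
    have hz' : x * (p * p) * x⁻¹ ∈ V ⊓ A := by
      rw [show x * (p * p) * x⁻¹ = (x * p * x⁻¹) * (x * p * x⁻¹) by group]
      exact hsq _ (conj_mem_of_nz hx.2 hpW)
    have hzu' : u * (x * (p * p) * x⁻¹) = x * (p * p) * x⁻¹ * u := by
      have hxi : u * x⁻¹ = x⁻¹ * u := (Commute.inv_right (show Commute u x from hxu)).eq
      calc u * (x * (p * p) * x⁻¹) = (u * x) * (p * p) * x⁻¹ := by group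
        _ = x * (u * (p * p)) * x⁻¹ := by rw [hxu]; group
        _ = x * (p * p) * (u * x⁻¹) := by rw [hzu]; group
        _ = x * (p * p) * x⁻¹ * u := by rw [hxi]; group
    have hS' := hCz _ hz' (fun e => hp2 (conj_eq_one_iff.1 e)) hzu'
    have hxS : x ∈ Subgroup.normalizer ((S : Subgroup G) : Set G) := by
      refine mem_nz_of_conj fun r hr => hS'.le ?_
      have hrz := Subgroup.mem_centralizer_singleton_iff.1 ((hCz _ hz hp2 hzu).ge hr)
      refine Subgroup.mem_centralizer_singleton_iff.2 ?_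
      calc x * r * x⁻¹ * (x * (p * p) * x⁻¹) = x * (r * (p * p)) * x⁻¹ := by group
        _ = x * (p * p * r) * x⁻¹ := by rw [hrz]
        _ = _ := by group
    refine hx' ⟨?_, hx.1⟩
    exact le_of_max S.isPGroup' _root_.le_top (fun P' h1 _ h3 => S.is_maximal' h3 h1)
      (hWp.to_le (Subgroup.zpowers_le.2 hx.1)) _root_.le_top (Subgroup.zpowers_le.2 hxS)
      (Subgroup.mem_zpowers x)
  have hWsmall : ∀ E : Subgroup G, E ≤ W → (∀ x ∈ E, x * x = 1) → Nat.card E ≤ 2 * q := by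
    intro E hE hE2
    by_cases hEP : E ≤ P
    · refine (Subgroup.card_le_of_le (fun e he => hfix u huS huP e (hEP he) (hE2 e he)
        (Subgroup.mem_centralizer_singleton_iff.1 (hE he)).symm)).trans ?_
      rw [h.card_inf]; omega
    · exact hsmall E (hE.trans hWS) hE2 hEP
  obtain ⟨g, hg⟩ := Involution.exists_conj_mem_of_no_index_two hno S P hPS hidx u hu2
  have hg2 : g * u * g⁻¹ * (g * u * g⁻¹) = 1 := by
    rw [show g * u * g⁻¹ * (g * u * g⁻¹) = g * (u * u) * g⁻¹ by group, huu, mul_one, mul_inv_cancel]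
  have hfin : ∀ E : Subgroup G, (∀ x ∈ E, x * x = 1) → Nat.card E = q ^ 2 →
      g * u * g⁻¹ ∈ E → False := by
    intro E hE2 hEc hgE
    have hle : cj g⁻¹ E ≤ W := by
      intro x hx
      have hx' := mem_cj.1 hx
      rw [inv_inv] at hx'
      refine Subgroup.mem_centralizer_singleton_iff.2 ?_
      calc x * u = g⁻¹ * ((g * x * g⁻¹) * (g * u * g⁻¹)) * g := by group
        _ = g⁻¹ * ((g * u * g⁻¹) * (g * x * g⁻¹)) * g := by rw [comm_of_sq_pair hE2 hx' hgE]
        _ = u * x := by group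
    have := hWsmall _ hle fun x hx => by
      have h1 := hE2 _ (mem_cj.1 hx)
      calc x * x = g⁻¹ * ((g⁻¹⁻¹ * x * g⁻¹) * (g⁻¹⁻¹ * x * g⁻¹)) * g := by group
        _ = 1 := by rw [h1]; group
    rw [card_cj, hEc] at this
    omega
  rcases h.elem_mem hg hg2 with h1 | h1
  · exact hfin V h.sq_left h.card_left h1
  · exact hfin A h.sq_right h.card_right h1

end Cfsg.Agent.Lib.CIT
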