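import Cfsg.Agent.Lib.CIT.PlaneGeometry

/-!
The configuration `FlagFour` has exactly 21 points, two of which always lie on a line: counting
involutions by the image of one point.  Written by helper2.
-/

set_option autoImplicit false
set_option linter.unusedSectionVars false

namespace Cfsg.Agent.Lib.CIT.Plane.Config

open Subgroup

variable {G : Type*} [Group G] [Finite G] {S : Sylow 2 G} {V A : Subgroup G} {z : G}
variable (h : Config S V A z)
include h

omit h in
theorem smul_base {V : Subgroup G} {g : G} :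
    g • ((1 : G) : Pt V) = ((1 : G) : Pt V) ↔ g ∈ normalizer (V : Set G) := by
  rw [inc_mk_iff_smul]; simp

theorem eq_one_of_centralises {y t : G} {p : ℕ} (hp : Odd p) (hy : y ^ p = 1) (ht : t ≠ 1)
    (ht2 : t * t = 1) (hc : y * t = t * y) : y = 1 := by
  obtain ⟨k, hk⟩ := h.cit t (invo_of_sq ht ht2) ⟨y, mem_centralizer_singleton_iff.2 hc⟩
  have hk' : y ^ (2 ^ k) = 1 := congrArg Subtype.val hk
  rw [← orderOf_eq_one_iff]
  exact Nat.eq_one_of_dvd_coprimes ((Nat.coprime_two_left.2 hp).pow_left k)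
    (orderOf_dvd_of_pow_eq_one hk') (orderOf_dvd_of_pow_eq_one hy)

/-- An element of order five fixing the base point fixes no line through it. -/
theorem not_fix_five {y : G} (hy : y ^ 5 = 1) (hy1 : y ≠ 1) (hyV : y ∈ normalizer (V : Set G))
    {c : Pt A} (hc : Inc ((1 : G) : Pt V) c) : y • c ≠ c := by
  obtain ⟨n, hn, rfl⟩ := inc_mk_left.1 hc
  rw [one_mul, ne_eq, inc_mk_iff_smul]
  intro hA
  have hy5' : (n⁻¹ * y * n) ^ 5 = 1 := by
    have := conj_pow (i := 5) (a := n⁻¹) (b := y)
    rw [inv_inv] at this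
    rw [this, hy]; group
  have hy' : n⁻¹ * y * n ≠ 1 := fun e => hy1 (by
    calc y = n * (n⁻¹ * y * n) * n⁻¹ := by group
      _ = 1 := by rw [e]; group)
  have hV' : n⁻¹ * y * n ∈ normalizer (V : Set G) := mul_mem (mul_mem (inv_mem hn) hyV) hn
  classical
  have := Fintype.ofFinite G
  set u := n⁻¹ * y * n
  let X := {x : G // x ∈ V ⊓ A ∧ x ≠ 1}
  have hmem : ∀ x : G, x ∈ V ⊓ A ∧ x ≠ 1 ↔ u * x * u⁻¹ ∈ V ⊓ A ∧ u * x * u⁻¹ ≠ 1 := fun x => by
    rw [mem_inf, mem_inf, ← mem_normalizer_iff.1 hV' x, ← mem_normalizer_iff.1 hA x, ne_eq, ne_eq,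
      conj_eq_one_iff]
  let σ : Equiv.Perm X := (MulAut.conj u).toEquiv.subtypeEquiv hmem
  have hσ : ∀ (i : ℕ) (x : X), ((σ ^ i) x : G) = u ^ i * x * (u ^ i)⁻¹ := by
    intro i x
    induction i with
    | zero => simp
    | succ i ih =>
      rw [pow_succ' σ, Equiv.Perm.mul_apply]
      show u * ((σ ^ i) x : G) * u⁻¹ = _
      rw [ih, pow_succ' u]; group
  have hX : Fintype.card X = 3 := by
    have : (Finset.univ.filter fun x : G => x ∈ V ⊓ A ∧ x ≠ 1) =
        (Finset.univ.filter (· ∈ V ⊓ A)).erase 1 := by ext x; simp [and_comm]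
    rw [Fintype.card_subtype, this, Finset.card_erase_of_mem (by simp), ← Fintype.card_subtype,
      ← Nat.card_eq_fintype_card, h.card_inf]
  have h5 : orderOf σ ∣ 5 := by
    refine orderOf_dvd_of_pow_eq_one (Equiv.ext fun x => Subtype.ext ?_)
    rw [hσ, hy5']; simp
  have h6 : orderOf σ ∣ 6 := by
    have := orderOf_dvd_card (x := σ)
    rw [Fintype.card_perm, hX] at this
    exact this
  have h1 : σ = 1 := orderOf_eq_one_iff.1 (Nat.eq_one_of_dvd_coprimes (by norm_num) h5 h6)
  obtain ⟨x, hx⟩ : ∃ x : X, True := ⟨⟨z, ⟨h.z_left, h.z_right⟩, h.z_ne⟩, trivial⟩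
  have := hσ 1 x
  rw [pow_one, h1, pow_one] at this
  refine hy' (h.eq_one_of_centralises (t := (x : G)) (by decide) hy5' x.2.2
    (h.sq_left _ x.2.1.1) ?_)
  exact (eq_mul_inv_iff_mul_eq.1 this).symm

/-- An element of order three fixing the base point moves a line through it. -/
theorem exists_moved_three {y : G} (hy : y ^ 3 = 1) (hy1 : y ≠ 1)
    (hyV : y ∈ normalizer (V : Set G)) : ∃ c : Pt A, Inc ((1 : G) : Pt V) c ∧ y • c ≠ c := by
  by_contra hcon
  push Not at hcon
  have hc₁ : Inc ((1 : G) : Pt V) ((1 : G) : Pt A) := ⟨1, rfl, rfl⟩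
  have hyA : y ∈ normalizer (A : Set G) := by
    simpa using (inc_mk_iff_smul (V := A)).1 (hcon _ hc₁)
  obtain ⟨a, ha, haV⟩ : ∃ a ∈ A, a ∉ V := by
    rw [← SetLike.not_le_iff_exists]
    intro hle
    have := h.card_inf
    rw [inf_eq_right.2 hle, h.card_right] at this
    omega
  set u := a * y * a⁻¹ * y⁻¹ with hu
  have hua : u ∈ A := by
    rw [hu, show a * y * a⁻¹ * y⁻¹ = a * (y * a⁻¹ * y⁻¹) by group]
    exact mul_mem ha ((mem_normalizer_iff.1 hyA _).1 (inv_mem ha))
  -- `u` fixes another line through the base point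
  obtain ⟨c, hc, hcne⟩ : ∃ c : Pt A, Inc ((1 : G) : Pt V) c ∧ c ≠ ((1 : G) : Pt A) := by
    by_contra hno
    push Not at hno
    have h5 := h.symm.card_line ((1 : G) : Pt V)
    have : Nat.card {c : Pt A // Inc c ((1 : G) : Pt V)} ≤ 1 := by
      have : Subsingleton {c : Pt A // Inc c ((1 : G) : Pt V)} := ⟨fun a b => Subtype.ext
        ((hno a.1 (inc_comm.1 a.2)).trans (hno b.1 (inc_comm.1 b.2)).symm)⟩
      exact Finite.card_le_one_iff_subsingleton.2 this
    omega
  have ha' : a⁻¹ • ((1 : G) : Pt V) = ((1 : G) : Pt V) :=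
    smul_base.2 (h.right_normalizes (inv_mem ha))
  have huc : u • c = c := by
    have h1 : y⁻¹ • c = c := by
      rw [inv_smul_eq_iff, hcon c hc]
    have h2 : Inc ((1 : G) : Pt V) (a⁻¹ • c) := by
      have := inc_smul a⁻¹ hc
      rwa [ha'] at this
    rw [hu, mul_smul, mul_smul, mul_smul, h1, hcon _ h2, smul_inv_smul]
  have hinA : ∀ {x : G}, x ∈ A → x • c = c → x ∈ V := by
    intro x hx hxc
    rcases eq_or_ne x 1 with rfl | hx1
    · exact one_mem V
    obtain ⟨m, hm, rfl⟩ := h.symm.exists_conj hx hx1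
    have hinc : Inc (m : Pt V) c := inc_comm.1 (h.symm.fix_iff.1 hxc)
    have hm1 : (m : Pt A) = ((1 : G) : Pt A) := QuotientGroup.eq.2 (by simpa using inv_mem hm)
    have hinc1 : Inc (m : Pt V) ((1 : G) : Pt A) := ⟨m, rfl, hm1⟩
    by_contra hxV
    refine hcne (h.line_unique (fun e => hxV ?_) hinc hc hinc1 hc₁)
    have hmV : m ∈ normalizer (V : Set G) := by simpa using QuotientGroup.eq.1 e
    exact (mem_normalizer_iff.1 hmV z).1 h.z_left
  have huV : u ∈ V := hinA hua huc
  -- the product over the orbit of `a` is fixed by `y`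
  set v := y * u⁻¹ * y⁻¹ with hv
  have hvA : v ∈ A := (mem_normalizer_iff.1 hyA _).1 (inv_mem hua)
  have hvV : v ∈ V := (mem_normalizer_iff.1 hyV _).1 (inv_mem huV)
  have e1 : y * a * y⁻¹ = u⁻¹ * a := by rw [hu]; group
  have e2 : y * (y * a * y⁻¹) * y⁻¹ = v * (u⁻¹ * a) := by
    calc y * (y * a * y⁻¹) * y⁻¹ = y * (u⁻¹ * a) * y⁻¹ := by rw [e1]
      _ = v * (y * a * y⁻¹) := by rw [hv]; simp [mul_assoc]
      _ = v * (u⁻¹ * a) := by rw [e1]
  set a₁ := y * a * y⁻¹ with ha₁
  set a₂ := y * a₁ * y⁻¹ with ha₂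
  have ha₁A : a₁ ∈ A := (mem_normalizer_iff.1 hyA _).1 ha
  have ha₂A : a₂ ∈ A := (mem_normalizer_iff.1 hyA _).1 ha₁A
  have e3 : y * a₂ * y⁻¹ = a := by
    calc y * a₂ * y⁻¹ = (y ^ 3) * a * (y ^ 3)⁻¹ := by
          rw [ha₂, ha₁, pow_succ, pow_succ, pow_one]; simp [mul_assoc]
      _ = a := by rw [hy]; group
  set w := a * a₁ * a₂ with hw
  have hwA : w ∈ A := mul_mem (mul_mem ha ha₁A) ha₂A
  have hwy : y * w * y⁻¹ = w := by
    calc y * w * y⁻¹ = a₁ * a₂ * (y * a₂ * y⁻¹) := by
          rw [hw, show y * (a * a₁ * a₂) * y⁻¹ = (y * a * y⁻¹) * (y * a₁ * y⁻¹) * (y * a₂ * y⁻¹) by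
            simp [mul_assoc], ← ha₁, ← ha₂]
      _ = a₁ * a₂ * a := by rw [e3]
      _ = w := by rw [h.comm_right _ (mul_mem ha₁A ha₂A) a ha, hw, ← mul_assoc]
  have hw1 : w ∉ V := by
    intro hwV
    apply haV
    have hc2 : a * u⁻¹ = u⁻¹ * a := h.comm_right a ha _ (inv_mem hua)
    have hc3 : a * v = v * a := h.comm_right a ha v hvA
    have e4 : w = (u⁻¹ * v * u⁻¹) * a := by
      calc w = a * (u⁻¹ * a) * (v * (u⁻¹ * a)) := by rw [hw, e2, e1]
        _ = u⁻¹ * (a * a) * (v * (u⁻¹ * a)) := by rw [← mul_assoc a, hc2]; group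
        _ = u⁻¹ * v * u⁻¹ * a := by rw [h.sq_right a ha]; group
    have := mul_mem (inv_mem (mul_mem (mul_mem (inv_mem huV) hvV) (inv_mem huV))) hwV
    rwa [e4, inv_mul_cancel_left] at this
  exact hy1 (h.eq_one_of_centralises (t := w) (by decide) hy (fun e => hw1 (e ▸ one_mem V))
    (h.sq_right w hwA) (mul_inv_eq_iff_eq_mul.1 hwy))

/-- Two points on no common line are fixed by at most five elements. -/
theorem card_two_point_le {Q : Pt V} (hQ : ¬ ∃ c : Pt A, Inc ((1 : G) : Pt V) c ∧ Inc Q c)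
    (_hQne : Q ≠ ((1 : G) : Pt V)) :
    Nat.card (MulAction.stabilizer G Q ⊓ normalizer (V : Set G) : Subgroup G) ≤ 5 := by
  classical
  have := Fintype.ofFinite G
  set D : Subgroup G := MulAction.stabilizer G Q ⊓ normalizer (V : Set G)
  have hdvd : Nat.card D ∣ 960 := h.card_normalizer_left ▸ card_dvd_of_le inf_le_right
  have hodd : ¬ 2 ∣ Nat.card D := by
    intro h2
    have : Fact (Nat.Prime 2) := ⟨Nat.prime_two⟩
    obtain ⟨x, hx⟩ := exists_prime_orderOf_dvd_card' (G := D) 2 h2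
    have hx2 : (x : G) * x = 1 := by
      have := pow_orderOf_eq_one x
      rw [hx, pow_two] at this
      exact congrArg Subtype.val this
    have hx1 : (x : G) ≠ 1 := fun e => by
      rw [(Subtype.ext e : x = 1), orderOf_one] at hx; omega
    obtain ⟨g, hg⟩ := h.exists_conj_eq hx1 hx2
    refine hQ ⟨(g : Pt A), h.fix_iff.1 ?_, h.fix_iff.1 ?_⟩
    · rw [hg]; exact smul_base.2 x.2.2
    · rw [hg]; exact MulAction.mem_stabilizer_iff.1 x.2.1
  have h15 : Nat.card D ∣ 15 := by
    have : Nat.card D ∣ 64 * 15 := hdvd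
    refine Nat.Coprime.dvd_of_dvd_mul_left ?_ this
    exact ((Nat.prime_two.coprime_iff_not_dvd.2 hodd).symm.pow_right 6)
  by_contra hgt
  have hcard : Nat.card D = 15 := by
    have := Nat.le_of_dvd (by norm_num) h15
    interval_cases hh : Nat.card D <;> simp_all
  have : Fact (Nat.Prime 5) := ⟨by norm_num⟩
  have : Fact (Nat.Prime 3) := ⟨Nat.prime_three⟩
  obtain ⟨p, hp⟩ := exists_prime_orderOf_dvd_card' (G := D) 5 (by rw [hcard]; norm_num)
  obtain ⟨q, hq⟩ := exists_prime_orderOf_dvd_card' (G := D) 3 (by rw [hcard]; norm_num)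
  have hP : (zpowers p).Normal := by
    refine Subgroup.normal_of_index_eq_minFac_card ?_
    have := (zpowers p).card_mul_index
    rw [Nat.card_zpowers, hp, hcard] at this
    rw [hcard, show (zpowers p).index = 3 by omega]
    norm_num
  obtain ⟨k, hk⟩ : ∃ k : ℕ, p ^ k = q * p * q⁻¹ :=
    mem_powers_iff_mem_zpowers.2 (hP.conj_mem p (mem_zpowers p) q)
  have hiter : ∀ i : ℕ, q ^ i * p * (q ^ i)⁻¹ = p ^ (k ^ i) := by
    intro i
    induction i with
    | zero => simp
    | succ i ih =>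
      calc q ^ (i + 1) * p * (q ^ (i + 1))⁻¹ = q * (q ^ i * p * (q ^ i)⁻¹) * q⁻¹ := by
            rw [pow_succ']; group
        _ = (q * p * q⁻¹) ^ (k ^ i) := by rw [ih, conj_pow]
        _ = p ^ (k ^ (i + 1)) := by rw [← hk, ← pow_mul, pow_succ']
  have hpq : q * p = p * q := by
    have h3 := hiter 3
    rw [← hq, pow_orderOf_eq_one, inv_one, one_mul, mul_one, hq] at h3
    nth_rw 1 [← pow_one p] at h3
    rw [pow_eq_pow_iff_modEq, hp] at h3
    have hk1 : k % 5 = 1 := by
      unfold Nat.ModEq at h3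
      rw [Nat.pow_mod] at h3
      have : k % 5 < 5 := Nat.mod_lt _ (by norm_num)
      interval_cases k % 5 <;> simp_all
    have : p ^ k = p := by
      conv_rhs => rw [← pow_one p]
      rw [pow_eq_pow_iff_modEq, hp]; exact hk1
    rw [this] at hk
    exact (eq_mul_inv_iff_mul_eq.1 hk).symm
  have hpq' : Commute (q : G) p := congrArg Subtype.val hpq
  have hp5 : (p : G) ^ 5 = 1 := by
    rw [← hp, ← Subgroup.orderOf_coe]; exact pow_orderOf_eq_one _
  have hq3 : (q : G) ^ 3 = 1 := by
    rw [← hq, ← Subgroup.orderOf_coe]; exact pow_orderOf_eq_one _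
  have hq1 : (q : G) ≠ 1 := fun e => by
    rw [(Subtype.ext e : q = 1), orderOf_one] at hq; omega
  have hfix5 : ∀ (i : ℕ) (c : Pt A), i % 5 ≠ 0 → Inc ((1 : G) : Pt V) c → (p : G) ^ i • c ≠ c := by
    intro i c hi hc
    refine h.not_fix_five (by rw [← pow_mul, mul_comm, pow_mul, hp5, one_pow]) (fun e => hi ?_)
      (pow_mem p.2.2 i) hc
    have := orderOf_dvd_of_pow_eq_one e
    rw [Subgroup.orderOf_coe, hp] at this
    omega
  obtain ⟨c, hc, hmove⟩ := h.exists_moved_three hq3 hq1 q.2.2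
  -- the five lines through the base point form one orbit of `p`
  have hinc : ∀ i : ℕ, Inc ((1 : G) : Pt V) ((p : G) ^ i • c) := by
    intro i
    have := inc_smul ((p : G) ^ i) hc
    rwa [smul_base.2 (pow_mem p.2.2 i)] at this
  let f : Fin 5 → {d : Pt A // Inc d ((1 : G) : Pt V)} :=
    fun i => ⟨(p : G) ^ (i : ℕ) • c, inc_comm.1 (hinc i)⟩
  have hinj : Function.Injective f := by
    intro i j hij
    have e : (p : G) ^ (i : ℕ) • c = (p : G) ^ (j : ℕ) • c := congrArg Subtype.val hij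
    by_contra hne
    have hne' : (i : ℕ) ≠ j := fun e' => hne (Fin.ext e')
    rcases Nat.lt_or_ge (i : ℕ) j with hlt | hge
    · obtain ⟨d, hd⟩ := Nat.exists_eq_add_of_le hlt.le
      rw [hd, pow_add, mul_smul, smul_left_cancel_iff] at e
      exact hfix5 d c (by omega) hc e.symm
    · obtain ⟨d, hd⟩ := Nat.exists_eq_add_of_le hge
      rw [hd, pow_add, mul_smul, smul_left_cancel_iff] at e
      exact hfix5 d c (by omega) hc e
  have hbij : Function.Bijective f := (Nat.bijective_iff_injective_and_card f).2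
    ⟨hinj, by rw [Nat.card_fin, h.symm.card_line]⟩
  have hqc : Inc ((q : G) • c) ((1 : G) : Pt V) := by
    have := inc_smul (q : G) hc
    rw [smul_base.2 q.2.2] at this
    exact inc_comm.1 this
  obtain ⟨i, hi⟩ := hbij.2 ⟨(q : G) • c, hqc⟩
  have hi' : (p : G) ^ (i : ℕ) • c = (q : G) • c := congrArg Subtype.val hi
  have h3i : (p : G) ^ ((i : ℕ) * 3) • c = c := by
    have step : ∀ j : ℕ, (q : G) ^ j • c = (p : G) ^ ((i : ℕ) * j) • c := by
      intro j
      induction j with
      | zero => simp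
      | succ j ih =>
        rw [pow_succ', mul_smul, ih, ← mul_smul, (hpq'.pow_right _).eq, mul_smul, ← hi', ← mul_smul,
          ← pow_add]
        congr 2
    rw [← step, hq3, one_smul]
  refine hfix5 _ c (fun e => hmove ?_) hc h3i
  have : (i : ℕ) = 0 := by have := i.2; omega
  rw [← hi', this, pow_zero, one_smul]

/-- The points other than the base point collinear with it. -/
def near (V A : Subgroup G) : Set (Pt V) :=
  {Q | Q ≠ ((1 : G) : Pt V) ∧ ∃ c : Pt A, Inc ((1 : G) : Pt V) c ∧ Inc Q c}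

theorem ncard_near : (near V A).ncard = 20 := by
  classical
  have := Fintype.ofFinite G
  let R : Finset (Pt A) := Finset.univ.filter fun c => Inc ((1 : G) : Pt V) c
  let ln : Pt A → Finset (Pt V) := fun c =>
    (Finset.univ.filter fun Q => Inc Q c).erase ((1 : G) : Pt V)
  have hR : R.card = 5 := by
    rw [← h.symm.card_line ((1 : G) : Pt V), Nat.card_eq_fintype_card, Fintype.card_subtype]
    exact congrArg _ (Finset.filter_congr fun c _ => inc_comm)
  have hln : ∀ c ∈ R, (ln c).card = 4 := by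
    intro c hc
    have h5 : (Finset.univ.filter fun Q : Pt V => Inc Q c).card = 5 := by
      rw [← h.card_line c, Nat.card_eq_fintype_card, Fintype.card_subtype]
    simp only [ln]
    rw [Finset.card_erase_of_mem (by simp [(Finset.mem_filter.1 hc).2]), h5]
  have hdis : ∀ c ∈ R, ∀ c' ∈ R, c ≠ c' → Disjoint (ln c) (ln c') := by
    intro c hc c' hc' hne
    rw [Finset.disjoint_left]
    intro Q hQ hQ'
    simp only [ln, Finset.mem_erase, Finset.mem_filter, Finset.mem_univ, true_and] at hQ hQ'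
    exact hne (h.line_unique hQ.1 hQ.2 (Finset.mem_filter.1 hc).2 hQ'.2 (Finset.mem_filter.1 hc').2)
  have heq : near V A = ↑(R.biUnion ln) := by
    ext Q
    simp only [near, Set.mem_ofPred_eq, Finset.coe_biUnion, Set.mem_iUnion, Finset.mem_coe, R, ln,
      Finset.mem_filter, Finset.mem_univ, true_and, Finset.mem_erase, exists_prop]
    exact ⟨fun ⟨h1, c, h2, h3⟩ => ⟨c, h2, h1, h3⟩, fun ⟨c, h2, h1, h3⟩ => ⟨h1, c, h2, h3⟩⟩
  rw [heq, Set.ncard_coe_finset, Finset.card_biUnion hdis, Finset.sum_congr rfl hln, Finset.sum_const,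
    hR, smul_eq_mul]

theorem card_points_eq : Nat.card (Pt V) = 21 := by
  classical
  have := Fintype.ofFinite G
  set P₀ : Pt V := ((1 : G) : Pt V) with hP₀
  let I : Finset G := Finset.univ.filter fun x => x ≠ 1 ∧ x * x = 1
  have hI : ∀ {x}, x ∈ I → x ≠ 1 ∧ x * x = 1 := fun hx => (Finset.mem_filter.1 hx).2
  choose! g hg using fun x (hx : x ∈ I) => h.exists_conj_eq (hI hx).1 (hI hx).2
  set N := Nat.card (Pt V)
  -- number of involutions
  have hcount : 64 * I.card = 960 * N := by
    let f : G → G := fun k => k * z * k⁻¹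
    have hf : ∀ k ∈ (Finset.univ : Finset G), f k ∈ I := fun k _ => Finset.mem_filter.2
      ⟨Finset.mem_univ _, fun e => h.z_ne (conj_eq_one_iff.1 e), by
        calc k * z * k⁻¹ * (k * z * k⁻¹) = k * (z * z) * k⁻¹ := by group
          _ = 1 := by rw [h.sq_left z h.z_left]; group⟩
    have hfib : ∀ x ∈ I, ((Finset.univ : Finset G).filter fun k => f k = x).card = 64 := by
      intro x hx
      rw [← h.card_sylow, Nat.card_eq_fintype_card, Fintype.card_subtype]
      refine Finset.card_bij (fun k _ => (g x)⁻¹ * k) ?_ (fun a _ b _ e => mul_left_cancel e) ?_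
      · intro k hk
        simp only [Finset.mem_filter, Finset.mem_univ, true_and] at hk ⊢
        exact (h.commute_iff h.z_left h.z_right h.z_ne).1 (conj_eq_iff.1 ((hg x hx).trans hk.symm))
      · intro s hs
        simp only [Finset.mem_filter, Finset.mem_univ, true_and] at hs ⊢
        refine ⟨g x * s, ?_, by group⟩
        have hsz := (h.commute_iff h.z_left h.z_right h.z_ne).2 hs
        calc g x * s * z * (g x * s)⁻¹ = g x * (s * z * s⁻¹) * (g x)⁻¹ := by group
          _ = x := by rw [hsz, mul_inv_cancel_right, hg x hx]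
    have h1 := Finset.card_eq_sum_card_fiberwise hf
    rw [Finset.sum_congr rfl hfib, Finset.sum_const, smul_eq_mul, Finset.card_univ,
      ← Nat.card_eq_fintype_card] at h1
    have h2 := (normalizer (V : Set G)).card_mul_index
    rw [h.card_normalizer_left] at h2
    have h3 : N = (normalizer (V : Set G)).index := rfl
    rw [h3, h2]
    linarith
  -- involutions fixing the base point
  have h75 : (I.filter fun x => x • P₀ = P₀).card ≤ 75 := by
    let R : Finset (Pt A) := Finset.univ.filter fun c => Inc P₀ c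
    have hR : R.card = 5 := by
      rw [← h.symm.card_line P₀, Nat.card_eq_fintype_card, Fintype.card_subtype]
      exact congrArg _ (Finset.filter_congr fun c _ => inc_comm)
    have hmaps : ∀ x ∈ I.filter (fun x => x • P₀ = P₀), (g x : Pt A) ∈ R := by
      intro x hx
      obtain ⟨hx, hxP⟩ := Finset.mem_filter.1 hx
      refine Finset.mem_filter.2 ⟨Finset.mem_univ _, h.fix_iff.1 ?_⟩
      rw [hg x hx]; exact hxP
    have hfib : ∀ c ∈ R, ((I.filter fun x => x • P₀ = P₀).filter fun x => (g x : Pt A) = c).card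
        ≤ 15 := by
      intro c _
      induction c using QuotientGroup.induction_on with
      | _ g₀ =>
        refine le_of_le_of_eq (Finset.card_le_card_of_injOn (fun x => g₀⁻¹ * x * g₀) ?_
          (fun a _ b _ e => mul_left_cancel (mul_right_cancel e)))
          (?_ : ((Finset.univ.filter (· ∈ A)).erase 1).card = 15)
        · intro x hx
          simp only [Finset.coe_filter, Finset.mem_filter, Set.mem_ofPred_eq] at hx
          obtain ⟨⟨hxI, -⟩, hxc⟩ := hx
          refine Finset.mem_erase.2 ⟨fun e => (hI hxI).1 ?_, Finset.mem_filter.2 ⟨Finset.mem_univ _, ?_⟩⟩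
          · simp only at e
            calc x = g₀ * (g₀⁻¹ * x * g₀) * g₀⁻¹ := by group
              _ = 1 := by rw [e]; group
          · simp only
            rw [← hg x hxI, show g₀⁻¹ * (g x * z * (g x)⁻¹) * g₀ =
              (g₀⁻¹ * g x) * z * (g₀⁻¹ * g x)⁻¹ by group]
            exact (mem_normalizer_iff.1 (QuotientGroup.eq.1 hxc.symm) z).1 h.z_right
        · rw [Finset.card_erase_of_mem (by simp), ← Fintype.card_subtype, ← Nat.card_eq_fintype_card,
            h.card_right]
    rw [Finset.card_eq_sum_card_fiberwise hmaps]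
    refine (Finset.sum_le_sum hfib).trans ?_
    rw [Finset.sum_const, hR, smul_eq_mul]
  -- involutions moving the base point to a collinear point
  have h12 : ∀ Q ∈ near V A, (I.filter fun x => x • P₀ = Q).card ≤ 12 := by
    rintro Q ⟨hQ, c, hPc, hQc⟩
    let L : Finset (Pt V) := ((Finset.univ.filter fun R => Inc R c).erase P₀).erase Q
    have hL : L.card = 3 := by
      have h5 : (Finset.univ.filter fun R : Pt V => Inc R c).card = 5 := by
        rw [← h.card_line c, Nat.card_eq_fintype_card, Fintype.card_subtype]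
      rw [Finset.card_erase_of_mem (Finset.mem_erase.2 ⟨hQ, by simp [hQc]⟩),
        Finset.card_erase_of_mem (by simp [hPc]), h5]
    have hxQ : ∀ x ∈ I, x • P₀ = Q → x • Q = P₀ := by
      intro x hx e
      rw [← e, ← mul_smul, (hI hx).2, one_smul]
    have hmaps : ∀ x ∈ I.filter (fun x => x • P₀ = Q), (g x : Pt V) ∈ L := by
      intro x hx
      obtain ⟨hx, hxP⟩ := Finset.mem_filter.1 hx
      have hxc : x • c = c := by
        refine h.line_unique hQ ?_ ?_ hQc hPc
        · have := inc_smul x hPc; rwa [hxP] at this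
        · have := inc_smul x hQc; rwa [hxQ x hx hxP] at this
      have hinc : Inc (g x : Pt V) c := by
        rw [← hg x hx] at hxc
        exact inc_comm.1 (h.symm.fix_iff.1 hxc)
      have hfix : x • (g x : Pt V) = g x := by
        have := (h.fix_iff (g := g x) (P := (g x : Pt V))).2 ⟨g x, rfl, rfl⟩
        rwa [hg x hx] at this
      refine Finset.mem_erase.2 ⟨fun e => hQ ?_, Finset.mem_erase.2 ⟨fun e => hQ ?_, by simp [hinc]⟩⟩
      · rw [e, hxQ x hx hxP] at hfix; exact hfix.symm
      · rw [e, hxP] at hfix; exact hfix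
    have hfib : ∀ R ∈ L, ((I.filter fun x => x • P₀ = Q).filter fun x => (g x : Pt V) = R).card
        ≤ 4 := by
      intro R hR
      obtain ⟨-, hRP, hRc⟩ : R ≠ Q ∧ R ≠ P₀ ∧ Inc R c := by simpa [L] using hR
      obtain ⟨k, rfl, rfl⟩ := hRc
      rcases ((I.filter fun x => x • P₀ = Q).filter fun x => (g x : Pt V) = (k : Pt V)).eq_empty_or_nonempty
        with h0 | ⟨x₀, hx₀⟩
      · simp [h0]
      rw [← h.card_inf, Nat.card_eq_fintype_card, Fintype.card_subtype]
      have hmemV : ∀ {x}, x ∈ I → (g x : Pt V) = (k : Pt V) → k⁻¹ * x * k ∈ V := by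
        intro x hx e
        rw [← hg x hx, show k⁻¹ * (g x * z * (g x)⁻¹) * k = (k⁻¹ * g x) * z * (k⁻¹ * g x)⁻¹ by group]
        exact (mem_normalizer_iff.1 (QuotientGroup.eq.1 e.symm) z).1 h.z_left
      refine Finset.card_le_card_of_injOn (fun x => k⁻¹ * (x₀ * x) * k) ?_
        (fun a _ b _ e => mul_left_cancel (mul_left_cancel (mul_right_cancel e)))
      intro x hx
      simp only [Finset.coe_filter, Finset.mem_filter, Set.mem_ofPred_eq] at hx hx₀
      obtain ⟨⟨hxI, hxP⟩, hxk⟩ := hx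
      obtain ⟨⟨hx₀I, hx₀P⟩, hx₀k⟩ := hx₀
      have hw : k⁻¹ * (x₀ * x) * k ∈ V := by
        rw [show k⁻¹ * (x₀ * x) * k = (k⁻¹ * x₀ * k) * (k⁻¹ * x * k) by group]
        exact mul_mem (hmemV hx₀I hx₀k) (hmemV hxI hxk)
      refine Finset.mem_filter.2 ⟨Finset.mem_univ _, mem_inf.2 ⟨hw, ?_⟩⟩
      simp only
      rcases eq_or_ne (x₀ * x) 1 with h1 | h1
      · rw [h1, mul_one, inv_mul_cancel]; exact one_mem A
      have h2 : (x₀ * x) * (x₀ * x) = 1 := by
        calc (x₀ * x) * (x₀ * x) = k * ((k⁻¹ * (x₀ * x) * k) * (k⁻¹ * (x₀ * x) * k)) * k⁻¹ := by group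
          _ = 1 := by rw [h.sq_left _ hw]; group
      obtain ⟨g', hg'⟩ := h.exists_conj_eq h1 h2
      have hP' : Inc P₀ (g' : Pt A) := h.fix_iff.1 (by
        rw [hg', mul_smul, hxP]; exact hxQ x₀ hx₀I hx₀P)
      have hR' : Inc (k : Pt V) (g' : Pt A) := h.fix_iff.1 (by
        rw [hg', inc_mk_iff_smul]; exact le_normalizer hw)
      have hck := h.line_unique hRP hR' hP' ⟨k, rfl, rfl⟩ hPc
      rw [← hg', show k⁻¹ * (g' * z * g'⁻¹) * k = (k⁻¹ * g') * z * (k⁻¹ * g')⁻¹ by group]
      exact (mem_normalizer_iff.1 (QuotientGroup.eq.1 hck.symm) z).1 h.z_right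
    rw [Finset.card_eq_sum_card_fiberwise hmaps]
    refine (Finset.sum_le_sum hfib).trans ?_
    rw [Finset.sum_const, hL, smul_eq_mul]
  -- involutions moving the base point to a non-collinear point
  have h5 : ∀ Q, Q ≠ P₀ → Q ∉ near V A → (I.filter fun x => x • P₀ = Q).card ≤ 5 := by
    intro Q hQ hQn
    have hno : ¬ ∃ c : Pt A, Inc P₀ c ∧ Inc Q c := fun hh => hQn ⟨hQ, hh⟩
    rcases (I.filter fun x => x • P₀ = Q).eq_empty_or_nonempty with h0 | ⟨x₀, hx₀⟩
    · simp [h0]
    refine le_trans ?_ (h.card_two_point_le hno hQ)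
    rw [Nat.card_eq_fintype_card, Fintype.card_subtype]
    refine Finset.card_le_card_of_injOn (fun x => x₀ * x) ?_ (fun a _ b _ e => mul_left_cancel e)
    intro x hx
    simp only [Finset.coe_filter, Finset.mem_filter, Set.mem_ofPred_eq] at hx hx₀
    obtain ⟨hx₀I, hx₀P⟩ := hx₀
    refine Finset.mem_filter.2 ⟨Finset.mem_univ _, mem_inf.2 ⟨?_, ?_⟩⟩
    · rw [MulAction.mem_stabilizer_iff, mul_smul]
      have hQx : x • Q = P₀ := by rw [← hx.2, ← mul_smul, (hI hx.1).2, one_smul]
      rw [hQx, hx₀P]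
    · rw [← smul_base, mul_smul, ← hP₀, hx.2, ← hx₀P, ← mul_smul, (hI hx₀I).2, one_smul]
  -- the sum
  let Nr : Finset (Pt V) := Finset.univ.filter (· ∈ near V A)
  have hNr : Nr.card = 20 := by
    rw [← h.ncard_near, ← Set.ncard_coe_finset]; congr 1; ext Q; simp [Nr]
  have hP₀Nr : P₀ ∉ Nr := fun hh => (Finset.mem_filter.1 hh).2.1 rfl
  let rest : Finset (Pt V) := Finset.univ \ insert P₀ Nr
  have hins : (insert P₀ Nr).card = 21 := by rw [Finset.card_insert_of_notMem hP₀Nr, hNr]
  have hN21 : 21 ≤ N := by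
    have := Finset.card_le_univ (insert P₀ Nr)
    rwa [hins, ← Nat.card_eq_fintype_card] at this
  have hrest : rest.card = N - 21 := by
    rw [Finset.card_sdiff_of_subset (Finset.subset_univ _), hins, Finset.card_univ,
      ← Nat.card_eq_fintype_card]
  have hsum := Finset.card_eq_sum_card_fiberwise
    (s := I) (f := fun x => x • P₀) (t := Finset.univ) (fun _ _ => Finset.mem_univ _)
  rw [← Finset.sum_sdiff (Finset.subset_univ (insert P₀ Nr)), Finset.sum_insert hP₀Nr] at hsum
  have b1 : ∑ Q ∈ Nr, (I.filter fun x => x • P₀ = Q).card ≤ 240 := by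
    refine (Finset.sum_le_sum (g := fun _ => 12) fun Q hQ => h12 Q (Finset.mem_filter.1 hQ).2).trans ?_
    rw [Finset.sum_const, hNr, smul_eq_mul]
  have b2 : ∑ Q ∈ rest, (I.filter fun x => x • P₀ = Q).card ≤ 5 * (N - 21) := by
    refine (Finset.sum_le_sum (g := fun _ => 5) fun Q hQ => ?_).trans ?_
    · obtain ⟨-, hQ⟩ := Finset.mem_sdiff.1 hQ
      rw [Finset.mem_insert, not_or] at hQ
      exact h5 Q hQ.1 fun hh => hQ.2 (Finset.mem_filter.2 ⟨Finset.mem_univ _, hh⟩)
    · rw [Finset.sum_const, hrest, smul_eq_mul, mul_comm]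
  simp only [rest] at b2
  omega

/-- Two points lie on a line. -/
theorem exists_line {P Q : Pt V} (hPQ : P ≠ Q) : ∃ c : Pt A, Inc P c ∧ Inc Q c := by
  classical
  have := Fintype.ofFinite G
  induction P using QuotientGroup.induction_on with
  | _ g =>
    set P₀ : Pt V := ((1 : G) : Pt V)
    have hg : g⁻¹ • (g : Pt V) = P₀ := by
      rw [MulAction.Quotient.smul_mk, smul_eq_mul, inv_mul_cancel]
    have hne : g⁻¹ • Q ≠ P₀ := fun e => hPQ (by
      rw [← hg, smul_left_cancel_iff] at e; exact e.symm)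
    have hall : insert P₀ (near V A) = Set.univ := by
      refine Set.eq_of_subset_of_ncard_le (Set.subset_univ _) ?_ (Set.toFinite _)
      rw [Set.ncard_univ, h.card_points_eq, Set.ncard_insert_of_notMem (fun hh => hh.1 rfl)
        (Set.toFinite _), h.ncard_near]
    have hmem : g⁻¹ • Q ∈ insert P₀ (near V A) := hall ▸ Set.mem_univ _
    rcases Set.mem_insert_iff.1 hmem with e | ⟨-, c, hc1, hc2⟩
    · exact absurd e hne
    · refine ⟨g • c, ?_, ?_⟩
      · have := inc_smul g hc1
        rwa [show g • ((1 : G) : Pt V) = (g : Pt V) by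
          rw [MulAction.Quotient.smul_mk, smul_eq_mul, mul_one]] at this
      · have := inc_smul g hc2
        rwa [smul_inv_smul] at this

theorem card_group : Nat.card G = 20160 := by
  have h1 := (normalizer (V : Set G)).card_mul_index
  rw [h.card_normalizer_left, show (normalizer (V : Set G)).index = 21 from h.card_points_eq] at h1
  omega

end Cfsg.Agent.Lib.CIT.Plane.Config
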