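import Mathlib
import Cfsg.Agent.Lib.CIT.PlaneCount
import Cfsg.Agent.Lib.LinGroup.Order
import Cfsg.Agent.Lib.PlaneFour.Iso
import Cfsg.Agent.S5626
import Cfsg.Agent.S5628

/-!
A simple group in which the centraliser of every involution is a 2-group and which has the
configuration `FlagFour` is PSL(3, 4): it acts on a projective plane of order 4.  Written by helper2.
-/

set_option autoImplicit false

namespace Cfsg.Agent.Lib.CIT.Plane

open scoped Pointwise LinearAlgebra.Projectivization

/-- A group of permutations mapping a family of finsets into itself fixes it. -/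
theorem le_setSystemAut {α : Type*} [DecidableEq α] {M : Subgroup (Equiv.Perm α)}
    {L : Set (Finset α)} (h : ∀ σ ∈ M, ∀ b ∈ L, b.image σ ∈ L) : M ≤ Cfsg.setSystemAut L := by
  intro σ hσ
  rw [MulAction.mem_stabilizer_iff]
  ext s
  rw [Set.mem_smul_set_iff_inv_smul_mem]
  constructor
  · intro hs
    have := h σ hσ _ hs
    rwa [show (σ⁻¹ • s).image σ = σ • (σ⁻¹ • s) from rfl, smul_inv_smul] at this
  · intro hs
    exact h σ⁻¹ (inv_mem hσ) s hs

/-- The automorphism group of a plane of order 4 has order at most 120960. -/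
theorem card_setSystemAut_le {α : Type*} [Fintype α] [DecidableEq α] (hα : Fintype.card α = 21)
    {L : Set (Finset α)} (hL : Cfsg.IsSteinerSystem 2 5 L) :
    Nat.card (Cfsg.setSystemAut L) ≤ 120960 := by
  classical
  have hp : PlaneFour.IsPlane L := ⟨hα, hL⟩
  obtain ⟨H, hH, hI⟩ := hp.exists_oval
  have : Fintype (Cfsg.setSystemAut L) := Fintype.ofFinite _
  have hmem : ∀ (g : Cfsg.setSystemAut L) {b : Finset α}, b ∈ L → b.image (g : Equiv.Perm α) ∈ L := by
    intro g b hb
    have h1 := MulAction.mem_stabilizer_iff.1 g.2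
    have h2 := Set.smul_mem_smul_set (a := (g : Equiv.Perm α)) hb
    rwa [h1] at h2
  let f : Cfsg.setSystemAut L → Finset α := fun g => H.image (g : Equiv.Perm α)
  have himg : Finset.univ.image f ⊆ PlaneFour.indepSets L 6 := by
    intro K hK
    obtain ⟨g, -, rfl⟩ := Finset.mem_image.1 hK
    refine PlaneFour.mem_indepSets.2 ⟨by rw [Finset.card_image_of_injective _ (Equiv.injective _), hH],
      fun l hl => ?_⟩
    have h1 : l = (l.image ((g⁻¹ : Cfsg.setSystemAut L) : Equiv.Perm α)).image (g : Equiv.Perm α) := by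
      rw [Finset.image_image]
      have : ((g : Equiv.Perm α) ∘ ((g⁻¹ : Cfsg.setSystemAut L) : Equiv.Perm α)) = id := by
        funext x; simp
      rw [this, Finset.image_id]
    rw [h1, ← Finset.image_inter _ _ (Equiv.injective _),
      Finset.card_image_of_injective _ (Equiv.injective _)]
    exact hI _ (hmem _ hl)
  have hfib : ∀ K ∈ Finset.univ.image f, (Finset.univ.filter fun g => f g = K).card ≤ 720 := by
    intro K hK
    have hK6 : Fintype.card ↥K = 6 := by
      obtain ⟨g, -, rfl⟩ := Finset.mem_image.1 hK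
      rw [Fintype.card_coe, Finset.card_image_of_injective _ (Equiv.injective _), hH]
    let r : {g : Cfsg.setSystemAut L // f g = K} → (↥H ↪ ↥K) := fun g =>
      ⟨fun p => ⟨(g.1 : Equiv.Perm α) p, Finset.Subset.antisymm_iff.1 g.2 |>.1 (Finset.mem_image_of_mem _ p.2)⟩, fun p q e =>
        Subtype.ext ((g.1 : Equiv.Perm α).injective (congrArg Subtype.val e))⟩
    have hr : Function.Injective r := by
      intro g g' e
      refine Subtype.ext (inv_mul_eq_one.1 ?_).symm
      apply Subtype.ext
      obtain ⟨u, -, huniq⟩ := S5628.result hα L hL H ⟨hH, hI⟩ 1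
      rw [huniq ((g'.1⁻¹ * g.1 : Cfsg.setSystemAut L) : Equiv.Perm α) ⟨SetLike.coe_mem _, fun p => ?_⟩,
        ← huniq 1 ⟨one_mem _, fun p => rfl⟩]
      · rfl
      · have e' := congrArg (fun j : ↥H ↪ ↥K => (j p : α)) e
        change (g.1 : Equiv.Perm α) p = (g'.1 : Equiv.Perm α) p at e'
        simp [e']
    have h1 := Fintype.card_le_of_injective r hr
    rw [Fintype.card_subtype, Fintype.card_embedding_eq, hK6, Fintype.card_coe, hH] at h1
    exact h1
  have h1 := Finset.card_le_mul_card_image Finset.univ 720 hfib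
  have h2 := Finset.card_le_card himg
  rw [hp.card_ovals] at h2
  rw [Nat.card_eq_fintype_card, ← Finset.card_univ]
  omega

/-- A simple group with at most six cosets of a subgroup and more than 720 elements. -/
theorem eq_top_of_index_le {M : Type*} [Group M] [Finite M] [IsSimpleGroup M] (K : Subgroup M)
    (hK : K.index ≤ 6) (hM : 720 < Nat.card M) : K = ⊤ := by
  rcases IsSimpleGroup.eq_bot_or_eq_top_of_normal K.normalCore inferInstance with h | h
  · exfalso
    have hinj : Function.Injective (MulAction.toPermHom M (M ⧸ K)) := by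
      rw [← MonoidHom.ker_eq_bot_iff, ← Subgroup.normalCore_eq_ker, h]
    have h1 := Nat.card_le_card_of_injective _ hinj
    rw [Nat.card_perm] at h1
    have h2 : (Nat.card (M ⧸ K)).factorial ≤ (6 : ℕ).factorial :=
      Nat.factorial_le (by rw [← Subgroup.index]; exact hK)
    norm_num [Nat.factorial] at h2
    omega
  · exact top_le_iff.1 (h ▸ K.normalCore_le)

/-- A simple subgroup of order 20160 of a group of order at most 120960 is the only subgroup of
that order. -/
theorem eq_of_card_eq {X : Type*} [Group X] [Finite X] (hX : Nat.card X ≤ 120960) {P Q : Subgroup X}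
    [IsSimpleGroup P] (hP : Nat.card P = 20160) (hQ : Nat.card Q = 20160) : P = Q := by
  have hidx : Q.index ≤ 6 := by
    have := Q.card_mul_index
    rw [hQ] at this
    omega
  have hrel : (Q.subgroupOf P).index ≤ 6 :=
    ((Subgroup.relIndex_le_of_le_right (H := Q) (K := P) le_top
      (by rw [Subgroup.relIndex_top_right]; exact Subgroup.index_ne_zero_of_finite)).trans
      (by rw [Subgroup.relIndex_top_right]; exact hidx))
  have htop := eq_top_of_index_le (Q.subgroupOf P) hrel (by rw [hP]; norm_num)
  exact Subgroup.eq_of_le_of_card_ge (Subgroup.subgroupOf_eq_top.1 htop) (by rw [hP, hQ])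

section Model

variable (F : Type*) [Field F]

/-- The lines of the projective plane over `F`. -/
def modelLines' : Set (Finset (ℙ F (Fin 3 → F))) :=
  {b | ∃ W : Submodule F (Fin 3 → F), Module.finrank F W = 2 ∧ ∀ P, P ∈ b ↔ P.submodule ≤ W}

variable {F} [Fintype F] (hF : Fintype.card F = 4)
include hF

theorem card_model : Nat.card (ℙ F (Fin 3 → F)) = 21 := by
  rw [Projectivization.card'', Nat.card_eq_fintype_card, Nat.card_eq_fintype_card (α := F),
    Fintype.card_fun, hF, Fintype.card_fin]
  norm_num

omit hF in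
omit [Fintype F] in
theorem finrank_pair {P Q : ℙ F (Fin 3 → F)} (hPQ : P ≠ Q) :
    Module.finrank F (P.submodule ⊔ Q.submodule : Submodule F (Fin 3 → F)) = 2 := by
  have hdis : P.submodule ⊓ Q.submodule = ⊥ := by
    by_contra hne
    have h1 : P.submodule ⊓ Q.submodule = P.submodule := Submodule.eq_of_le_of_finrank_le inf_le_left (by
      rw [P.finrank_submodule]
      exact Submodule.one_le_finrank_iff.2 hne)
    refine hPQ (Projectivization.submodule_injective
      (Submodule.eq_of_le_of_finrank_le (inf_eq_left.1 h1) ?_))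
    rw [P.finrank_submodule, Q.finrank_submodule]
  have := Submodule.finrank_sup_add_finrank_inf_eq P.submodule Q.submodule
  rw [hdis, finrank_bot, P.finrank_submodule, Q.finrank_submodule] at this
  omega

theorem card_on_line {W : Submodule F (Fin 3 → F)} (hW : Module.finrank F W = 2) :
    Nat.card {P : ℙ F (Fin 3 → F) // P.submodule ≤ W} = 5 := by
  have h5 : Nat.card (ℙ F W) = 5 := by
    rw [Projectivization.card_of_finrank_two F W hW, Nat.card_eq_fintype_card, hF]
  rw [← h5]
  let f : ℙ F W → {P : ℙ F (Fin 3 → F) // P.submodule ≤ W} := fun P =>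
    ⟨P.map W.subtype W.injective_subtype, by
      induction P using Projectivization.ind with
      | h v hv =>
        rw [Projectivization.map_mk, Projectivization.submodule_mk,
          Submodule.span_singleton_le_iff_mem]
        exact v.2⟩
  symm
  refine Nat.card_eq_of_bijective f ⟨fun P Q e => ?_, fun ⟨P, hP⟩ => ?_⟩
  · exact Projectivization.map_injective _ W.injective_subtype (congrArg Subtype.val e)
  · induction P using Projectivization.ind with
    | h v hv =>
      rw [Projectivization.submodule_mk, Submodule.span_singleton_le_iff_mem] at hP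
      refine ⟨Projectivization.mk F ⟨v, hP⟩ (fun e => hv (congrArg Subtype.val e)), Subtype.ext ?_⟩
      simp [f, Projectivization.map_mk]

theorem model_steiner : Cfsg.IsSteinerSystem 2 5 (modelLines' F) := by
  classical
  have : Fintype (ℙ F (Fin 3 → F)) := Fintype.ofFinite _
  constructor
  · rintro b ⟨W, hW, hb⟩
    rw [← card_on_line hF hW, Nat.card_eq_fintype_card, Fintype.card_subtype]
    congr 1; ext P; simp [hb]
  · intro s hs
    obtain ⟨P, Q, hPQ, rfl⟩ := Finset.card_eq_two.1 hs
    refine ⟨Finset.univ.filter fun R => R.submodule ≤ P.submodule ⊔ Q.submodule,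
      ⟨⟨_, finrank_pair hPQ, fun R => by simp⟩, by simp [Finset.insert_subset_iff]⟩, ?_⟩
    rintro b ⟨⟨W, hW, hb⟩, hsub⟩
    simp only [Finset.insert_subset_iff, Finset.singleton_subset_iff, hb] at hsub
    have hWeq : P.submodule ⊔ Q.submodule = W :=
      Submodule.eq_of_le_of_finrank_le (sup_le hsub.1 hsub.2) (by rw [hW, finrank_pair hPQ])
    ext R
    simp [hb, hWeq]

omit hF [Fintype F] in
theorem image_mem_model (g : Matrix.ProjectiveSpecialLinearGroup (Fin 3) F)
    [DecidableEq (ℙ F (Fin 3 → F))]
    {b : Finset (ℙ F (Fin 3 → F))} (hb : b ∈ modelLines' F) :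
    b.image (fun P => g • P) ∈ modelLines' F := by
  obtain ⟨g, rfl⟩ := QuotientGroup.mk_surjective g
  obtain ⟨W, hW, hb⟩ := hb
  refine ⟨W.map (Matrix.SpecialLinearGroup.toLin' g).toLinearMap, ?_, fun P => ?_⟩
  · rw [LinearEquiv.finrank_map_eq, hW]
  · have key : ∀ R : ℙ F (Fin 3 → F), (g • R).submodule = R.submodule.map (Matrix.SpecialLinearGroup.toLin' g).toLinearMap := by
      intro R
      induction R using Projectivization.ind with
      | h v hv =>
        rw [Projectivization.matrixSpecialLinearGroup_smul_def, Projectivization.smul_mk,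
          Projectivization.submodule_mk, Projectivization.submodule_mk, Submodule.map_span,
          Set.image_singleton]
        rfl
    rw [Finset.mem_image]
    constructor
    · rintro ⟨R, hR, rfl⟩
      rw [Matrix.ProjectiveSpecialLinearGroup.smul_proj_mk, key]
      exact Submodule.map_mono ((hb R).1 hR)
    · intro hP
      refine ⟨g⁻¹ • P, (hb _).2 ?_, ?_⟩
      · rw [← Submodule.map_le_map_iff_of_injective (f := (Matrix.SpecialLinearGroup.toLin' g).toLinearMap)
          (Matrix.SpecialLinearGroup.toLin' g).injective, ← key, smul_inv_smul]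
        exact hP
      · rw [Matrix.ProjectiveSpecialLinearGroup.smul_proj_mk, smul_inv_smul]

theorem card_model_group : Nat.card (Matrix.ProjectiveSpecialLinearGroup (Fin 3) F) = 20160 := by
  have h := LinGroup.card_PSL_mul (F := F) 3 (by norm_num)
  rw [hF] at h
  simp [Fin.prod_univ_three] at h
  omega

end Model

/-- A simple group with centralisers of involutions 2-groups and the configuration `FlagFour` is
PSL(3, 4). -/
theorem isPSL34 {G : Type*} [Group G] [Finite G] [IsSimpleGroup G]
    (hcit : ∀ t : G, orderOf t = 2 → IsPGroup 2 (Subgroup.centralizer ({t} : Set G)))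
    (h : IsFlagFour G) :
    ∃ (F : Type) (_ : Field F) (_ : Fintype F), Fintype.card F = 4 ∧
      Nonempty (G ≃* Matrix.ProjectiveSpecialLinearGroup (Fin 3) F) := by
  classical
  obtain ⟨S, V, A, h⟩ := h
  obtain ⟨z, hz⟩ := exists_config hcit h
  have : Fintype G := Fintype.ofFinite G
  let L : Set (Finset (Pt V)) := Set.range fun c : Pt A => Finset.univ.filter fun P => Inc P c
  have hcardP : Fintype.card (Pt V) = 21 := by rw [← Nat.card_eq_fintype_card, hz.card_points_eq]
  have hL : Cfsg.IsSteinerSystem 2 5 L := by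
    constructor
    · rintro b ⟨c, rfl⟩
      rw [← hz.card_line c, Nat.card_eq_fintype_card, Fintype.card_subtype]
    · intro s hs
      obtain ⟨P, Q, hPQ, rfl⟩ := Finset.card_eq_two.1 hs
      obtain ⟨c, hPc, hQc⟩ := hz.exists_line hPQ
      refine ⟨Finset.univ.filter fun R => Inc R c, ⟨⟨c, rfl⟩, by simp [Finset.insert_subset_iff, hPc, hQc]⟩, ?_⟩
      rintro b ⟨⟨d, rfl⟩, hsub⟩
      simp [Finset.insert_subset_iff] at hsub
      rw [hz.line_unique hPQ hsub.1 hsub.2 hPc hQc]
  let F := GaloisField 2 2
  have : Fintype F := Fintype.ofFinite F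
  have hF : Fintype.card F = 4 := by
    rw [← Nat.card_eq_fintype_card, GaloisField.card 2 2 (by norm_num)]; norm_num
  have : Fintype (ℙ F (Fin 3 → F)) := Fintype.ofFinite _
  have hcardM : Fintype.card (ℙ F (Fin 3 → F)) = 21 := by
    rw [← Nat.card_eq_fintype_card, card_model hF]
  obtain ⟨e, he⟩ := S5626.result hcardP hcardM hL (model_steiner hF)
  let ρ : G →* Equiv.Perm (ℙ F (Fin 3 → F)) :=
    (Equiv.permCongrHom e).toMonoidHom.comp (MulAction.toPermHom G (Pt V))
  let τ : Matrix.ProjectiveSpecialLinearGroup (Fin 3) F →* Equiv.Perm (ℙ F (Fin 3 → F)) :=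
    MulAction.toPermHom _ _
  have hτ : Function.Injective τ := MulAction.toPerm_injective
  have hρ : Function.Injective ρ := by
    refine (Equiv.permCongrHom e).injective.comp ?_
    rw [← MonoidHom.ker_eq_bot_iff]
    refine (IsSimpleGroup.eq_bot_or_eq_top_of_normal _ inferInstance).resolve_right fun htop => ?_
    have : Subsingleton (Pt V) := ⟨fun P Q => by
      obtain ⟨g, rfl⟩ := MulAction.exists_smul_eq G P Q
      have h1 : MulAction.toPermHom G (Pt V) g = 1 :=
        MonoidHom.mem_ker.1 (htop ▸ Subgroup.mem_top g)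
      exact (Equiv.ext_iff.1 h1 P).symm⟩
    have := Fintype.card_le_one_iff_subsingleton.2 this
    omega
  have hρL : ρ.range ≤ Cfsg.setSystemAut (modelLines' F) := by
    refine le_setSystemAut ?_
    rintro _ ⟨g, rfl⟩ b hb
    rw [← he] at hb ⊢
    obtain ⟨_, ⟨c, rfl⟩, rfl⟩ := hb
    refine ⟨_, ⟨g • c, rfl⟩, ?_⟩
    simp only [Finset.image_image]
    ext P
    simp only [Finset.mem_image, Finset.mem_filter, Finset.mem_univ, true_and, Function.comp_apply]
    constructor
    · rintro ⟨R, hR, rfl⟩
      refine ⟨g⁻¹ • R, by simpa using inc_smul g⁻¹ hR, ?_⟩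
      simp [ρ, Equiv.permCongr_apply]
    · rintro ⟨R, hR, rfl⟩
      exact ⟨g • R, inc_smul g hR, by simp [ρ, Equiv.permCongr_apply]⟩
  have hτL : τ.range ≤ Cfsg.setSystemAut (modelLines' F) := by
    refine le_setSystemAut ?_
    rintro _ ⟨g, rfl⟩ b hb
    exact image_mem_model g hb
  set X := Cfsg.setSystemAut (modelLines' F)
  let eρ : G ≃* ρ.range := MonoidHom.ofInjective hρ
  let eτ : Matrix.ProjectiveSpecialLinearGroup (Fin 3) F ≃* τ.range := MonoidHom.ofInjective hτ
  have : IsSimpleGroup (ρ.range.subgroupOf X) :=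
    (eρ.trans (Subgroup.subgroupOfEquivOfLe hρL).symm).symm.isSimpleGroup
  have hP : Nat.card (ρ.range.subgroupOf X) = 20160 := by
    rw [← Nat.card_congr (eρ.trans (Subgroup.subgroupOfEquivOfLe hρL).symm).toEquiv, hz.card_group]
  have hQ : Nat.card (τ.range.subgroupOf X) = 20160 := by
    rw [← Nat.card_congr (eτ.trans (Subgroup.subgroupOfEquivOfLe hτL).symm).toEquiv, card_model_group hF]
  have heq := eq_of_card_eq (card_setSystemAut_le hcardM (model_steiner hF)) hP hQ
  refine ⟨F, inferInstance, inferInstance, hF, ⟨((eρ.trans (Subgroup.subgroupOfEquivOfLe hρL).symm).trans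
    (MulEquiv.subgroupCongr heq)).trans ((Subgroup.subgroupOfEquivOfLe hτL).trans eτ.symm)⟩⟩

end Cfsg.Agent.Lib.CIT.Plane
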