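import Mathlib

/-!
The configuration of a Sylow 2-subgroup of order 64 with two elementary abelian subgroups of order
16 whose normalisers have order 960, found in groups in which the centraliser of every involution is
a 2-group; it leads to the plane of order 4.  Written by helper2.
-/

set_option autoImplicit false

namespace Cfsg.Agent.Lib.CIT

variable {G : Type*} [Group G]

/-- A Sylow 2-subgroup `S` of order 64 and two elementary abelian subgroups `V`, `A` of order 16
meeting in order 4, covering all involutions of `S`, with normalisers of order 960. -/
structure FlagFour (S : Sylow 2 G) (V A : Subgroup G) : Prop where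
  card_sylow : Nat.card (S : Subgroup G) = 64
  left_le : V ≤ (S : Subgroup G)
  right_le : A ≤ (S : Subgroup G)
  card_left : Nat.card V = 16
  card_right : Nat.card A = 16
  card_inf : Nat.card (V ⊓ A : Subgroup G) = 4
  comm_left : ∀ x ∈ V, ∀ y ∈ V, x * y = y * x
  comm_right : ∀ x ∈ A, ∀ y ∈ A, x * y = y * x
  sq_left : ∀ x ∈ V, x * x = 1
  sq_right : ∀ x ∈ A, x * x = 1
  cover : ∀ x ∈ (S : Subgroup G), x * x = 1 → x ∈ V ∨ x ∈ A
  card_normalizer_left : Nat.card (Subgroup.normalizer (V : Set G)) = 960
  card_normalizer_right : Nat.card (Subgroup.normalizer (A : Set G)) = 960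

variable (G) in
/-- A group with the configuration of order 64. -/
def IsFlagFour : Prop := ∃ (S : Sylow 2 G) (V A : Subgroup G), FlagFour S V A

theorem FlagFour.symm {S : Sylow 2 G} {V A : Subgroup G} (h : FlagFour S V A) : FlagFour S A V where
  card_sylow := h.card_sylow
  left_le := h.right_le
  right_le := h.left_le
  card_left := h.card_right
  card_right := h.card_left
  card_inf := by rw [inf_comm]; exact h.card_inf
  comm_left := h.comm_right
  comm_right := h.comm_left
  sq_left := h.sq_right
  sq_right := h.sq_left
  cover x hx h2 := (h.cover x hx h2).symm
  card_normalizer_left := h.card_normalizer_right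
  card_normalizer_right := h.card_normalizer_left

end Cfsg.Agent.Lib.CIT
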