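import Cfsg.Prelude.Def_Involutions
import Cfsg.Agent.Lib.CIT.Basic
import Cfsg.Agent.Lib.CIT.Flag

/-!
The shape of the 2-locals with non-normal Sylow 2-subgroup of a CIT group: the interface between
the local analysis and the global analysis.  Written by helper24.
-/

set_option autoImplicit false

namespace Cfsg.Agent.Lib.CIT

variable {G : Type*} [Group G]

/-- `B` is an elementary abelian 2-subgroup of `P` of maximal order. -/
def IsMember (P B : Subgroup G) : Prop :=
  B ≤ P ∧ (∀ x ∈ B, x * x = 1) ∧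
    ∀ C : Subgroup G, C ≤ P → (∀ x ∈ C, x * x = 1) → Nat.card C ≤ Nat.card B

/-- The natural module configuration: a local subgroup `Y`, a Sylow 2-subgroup `P = V A` of `Y`,
the elementary abelian subgroups `V` (normal in `Y`) and `A` of order `q ^ 2` meeting in order
`q`, a torus `K` and a Weyl element `w`. -/
structure FlagData (Y P V A K : Subgroup G) (w : G) (q : ℕ) : Prop where
  two_le : 2 ≤ q
  le_top : P ≤ Y
  maximal : ∀ P' : Subgroup G, P ≤ P' → P' ≤ Y → IsPGroup 2 P' → P' = P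
  eq_sup : P = V ⊔ A
  sq_left : ∀ x ∈ V, x * x = 1
  sq_right : ∀ x ∈ A, x * x = 1
  card_left : Nat.card V = q ^ 2
  card_right : Nat.card A = q ^ 2
  card_inf : Nat.card (V ⊓ A : Subgroup G) = q
  norm_left : Y ≤ Subgroup.normalizer (V : Set G)
  norm_right : V ≤ Subgroup.normalizer (A : Set G)
  cent : ∀ v ∈ V, ∀ a ∈ A, v * a = a * v → v ∈ A ∨ a ∈ V
  selfC : ∀ g ∈ Y, (∀ v ∈ V, g * v = v * g) → g ∈ V
  torus_le : K ≤ Y
  torus_comm : ∀ x ∈ K, ∀ y ∈ K, x * y = y * x
  torus_card : Nat.card K = q - 1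
  normalizer_eq : Y ⊓ Subgroup.normalizer (P : Set G) = P ⊔ K
  weyl_mem : w ∈ Y
  weyl_not : w ∉ Subgroup.normalizer (P : Set G)
  weyl_sq : w * w ∈ V
  weyl_inv : ∀ k ∈ K, w * k * w⁻¹ * k ∈ V
  move : ∀ g ∈ Y, g ∉ Subgroup.normalizer (P : Set G) →
    ∃ a ∈ A, (a * w)⁻¹ * g ∈ Subgroup.normalizer (P : Set G)

/-- The three possible shapes of a 2-local `Y` with non-normal Sylow 2-subgroup `P`: all members
lie in a normal 2-subgroup; or the unique normal member is normal in `Y`; or the natural module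
configuration. -/
def Shape (Y P : Subgroup G) : Prop :=
  (∃ R : Subgroup G, Y ≤ Subgroup.normalizer (R : Set G) ∧ R ≤ P ∧
      ∀ B, IsMember P B → B ≤ R) ∨
  (∃ U : Subgroup G, IsMember P U ∧ P ≤ Subgroup.normalizer (U : Set G) ∧
      Y ≤ Subgroup.normalizer (U : Set G) ∧
      (∀ B, IsMember P B → P ≤ Subgroup.normalizer (B : Set G) → B = U) ∧
      ∃ B, IsMember P B ∧ (P ⊓ Subgroup.centralizer (U : Set G)) ⊔ B = P) ∨
  (∃ (V A K : Subgroup G) (w : G) (q : ℕ), FlagData Y P V A K w q)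

variable (G) in
/-- Every normalizer of a nontrivial 2-subgroup with non-normal Sylow 2-subgroup has one of the
three shapes. -/
def LocalShape : Prop :=
  ∀ Q : Subgroup G, Q ≠ ⊥ → IsPGroup 2 Q → ∀ P : Subgroup G,
    P ≤ Subgroup.normalizer (Q : Set G) → IsPGroup 2 P →
    (∀ P' : Subgroup G, P ≤ P' → P' ≤ Subgroup.normalizer (Q : Set G) → IsPGroup 2 P' → P' = P) →
    ¬ Subgroup.normalizer (Q : Set G) ≤ Subgroup.normalizer (P : Set G) →
    Shape (Subgroup.normalizer (Q : Set G)) P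

variable (G) in
/-- The outcome of the global analysis of a simple CIT group. -/
def GlobalOutcome : Prop :=
  (∃ M : Subgroup G, Cfsg.IsStronglyEmbedded M) ∨
  (∃ V : Subgroup G, Nat.card V = 4 ∧ (∀ x ∈ V, x * x = 1) ∧
      Subgroup.centralizer (V : Set G) = V) ∨
  IsFlagFour G

end Cfsg.Agent.Lib.CIT
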