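import Cfsg.Agent.Lib.CIT.Basic
import Cfsg.Agent.Lib.Factorized.KegelWielandt
import Cfsg.Agent.Lib.Involution.BaerSuzuki
import Cfsg.Agent.Lib.PSolvable.Core
import Cfsg.Agent.Lib.Perm.SolvablePrimeDegree
import Cfsg.Agent.Lib.Zassenhaus.OddDegree

/-!
A CIT group with a strongly embedded subgroup `M` and two commuting involutions: `M = U : D` with
`U` a Sylow 2-subgroup of the group and `D` abelian of odd order, and the action on the cosets of
`M` is a Zassenhaus group of degree `|U| + 1`.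
-/

set_option autoImplicit false

namespace Cfsg.Agent.Lib.CIT

open Cfsg.Agent.Lib.SECount

variable {G : Type*} [Group G]

/-- The group has two distinct commuting involutions. -/
def HasFour (G : Type*) [Group G] : Prop :=
  ∃ s t : G, orderOf s = 2 ∧ orderOf t = 2 ∧ s ≠ t ∧ s * t = t * s

/-- The intersection of `M` with its conjugate under `u`. -/
def twoPt (M : Subgroup G) (u : G) : Subgroup G := M ⊓ M.map (MulAut.conj u).toMonoidHom

/-- The 2-core of `M`, as a subgroup of the whole group. -/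
def core (M : Subgroup G) : Subgroup G := (Cfsg.pCore 2 ↥M).map M.subtype

/-- The data attached to a strongly embedded subgroup `M` of a CIT group. -/
structure SEData (M U D : Subgroup G) (u : G) : Prop where
  invo : orderOf u = 2
  notMem : u ∉ M
  eq_twoPt : D = twoPt M u
  le : U ≤ M
  isTwoGroup : IsPGroup 2 U
  sylow : ∃ S : Sylow 2 G, (S : Subgroup G) = U
  conj_mem : ∀ m ∈ M, ∀ x ∈ U, m * x * m⁻¹ ∈ U
  normalizer_eq : Subgroup.normalizer (U : Set G) = M
  two_mem : ∀ x ∈ M, ∀ k : ℕ, x ^ 2 ^ k = 1 → x ∈ U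
  centralizer_eq : ∀ t : G, orderOf t = 2 → t ∈ M → Subgroup.centralizer ({t} : Set G) = U
  odd : Odd (Nat.card D)
  inverts : ∀ d ∈ D, u * d * u⁻¹ = d⁻¹
  comm : ∀ x ∈ D, ∀ y ∈ D, x * y = y * x
  card_eq : Nat.card D = Nat.card {t : G // orderOf t = 2 ∧ t ∈ M}
  ne_bot : D ≠ ⊥
  factor : ∀ m ∈ M, ∃ a ∈ U, ∃ d ∈ D, m = a * d
  centralizer_inf : ∀ x ∈ D, x ≠ 1 → ∀ m ∈ M, m * x = x * m → m ∈ D
  fixed : ∀ x ∈ D, x ≠ 1 → ∀ q : G ⧸ M, x • q = q →
    q = QuotientGroup.mk 1 ∨ q = QuotientGroup.mk u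
  orbit : ∀ q : G ⧸ M, q ≠ QuotientGroup.mk 1 → ∃ a ∈ U, q = a • QuotientGroup.mk u
  free : ∀ a ∈ U, a • (QuotientGroup.mk u : G ⧸ M) = QuotientGroup.mk u → a = 1
  card_quot : Nat.card (G ⧸ M) = Nat.card U + 1

section

variable {M : Subgroup G}

theorem smul_mk_eq_iff {g x : G} :
    x • (QuotientGroup.mk g : G ⧸ M) = QuotientGroup.mk g ↔ g⁻¹ * x * g ∈ M := by
  rw [MulAction.Quotient.smul_mk, smul_eq_mul, eq_comm, QuotientGroup.eq, mul_assoc]

theorem mem_twoPt {u x : G} : x ∈ twoPt M u ↔ x ∈ M ∧ u⁻¹ * x * u ∈ M := by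
  rw [twoPt, Subgroup.mem_inf, mem_map_conj]

theorem smul_one_eq_iff {g : G} :
    g • (QuotientGroup.mk 1 : G ⧸ M) = QuotientGroup.mk 1 ↔ g ∈ M := by
  rw [smul_mk_eq_iff, inv_one, one_mul, mul_one]

theorem core_le : core M ≤ M := Subgroup.map_subtype_le _

theorem isPGroup_core : IsPGroup 2 (core M) :=
  (PSolvable.pCore_isPGroup (p := 2) (G := M)).map _

theorem pCore_normal_two : (Cfsg.pCore 2 ↥M).Normal :=
  Subgroup.sSup_normal _ fun _ h => h.1

theorem core_conj_mem {m x : G} (hm : m ∈ M) (hx : x ∈ core M) : m * x * m⁻¹ ∈ core M := by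
  obtain ⟨c, hc, rfl⟩ := hx
  exact ⟨⟨m, hm⟩ * c * ⟨m, hm⟩⁻¹, (pCore_normal_two (M := M)).conj_mem c hc _, rfl⟩

variable [Finite G]

omit [Finite G] in
theorem odd_orderOf_twoPt (hM : Cfsg.IsStronglyEmbedded M) {u x : G} (hu : u ∉ M)
    (hx : x ∈ twoPt M u) : Odd (orderOf x) :=
  Odd.of_dvd_nat (hM.2.2 u hu) (Subgroup.orderOf_mk x hx ▸ orderOf_dvd_natCard (⟨x, hx⟩ : twoPt M u))

theorem card_invo_pos (hM : Cfsg.IsStronglyEmbedded M) :
    0 < Nat.card {t : G // orderOf t = 2 ∧ t ∈ M} := by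
  obtain ⟨t, ht, htM⟩ := exists_invo_mem hM
  have : Nonempty {t : G // orderOf t = 2 ∧ t ∈ M} := ⟨⟨t, ht, htM⟩⟩
  exact Nat.card_pos

theorem exists_swap (hM : Cfsg.IsStronglyEmbedded M) {x y : G ⧸ M} (hxy : x ≠ y) :
    ∃ v : G, orderOf v = 2 ∧ v • x = y := by
  have h := card_invo_pos hM
  rw [← card_smul_invo hM x y hxy] at h
  obtain ⟨⟨v, hv⟩⟩ := (Nat.card_pos_iff.1 h).1
  exact ⟨v, hv⟩

theorem card_twoPt (h : IsCIT G) (hM : Cfsg.IsStronglyEmbedded M) {u : G} (hu : orderOf u = 2)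
    (huM : u ∉ M) : Nat.card (twoPt M u) = Nat.card {t : G // orderOf t = 2 ∧ t ∈ M} := by
  obtain ⟨t, ht, htM⟩ := exists_invo_mem hM
  let f : twoPt M u → {t : G // orderOf t = 2 ∧ t ∈ M} := fun d =>
    ⟨(d : G) * t * (d : G)⁻¹, (orderOf_conj_eq _ _).trans ht,
      M.mul_mem (M.mul_mem d.2.1 htM) (M.inv_mem d.2.1)⟩
  refine Nat.card_eq_of_bijective f ⟨?_, ?_⟩
  · intro a b e
    have e' : (a : G) * t * (a : G)⁻¹ = (b : G) * t * (b : G)⁻¹ := congrArg Subtype.val e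
    have hc : t * ((a : G)⁻¹ * b) = (a : G)⁻¹ * b * t := by
      calc t * ((a : G)⁻¹ * b) = (a : G)⁻¹ * ((a : G) * t * (a : G)⁻¹) * b := by group
        _ = (a : G)⁻¹ * b * t := by rw [e']; group
    exact Subtype.ext (inv_mul_eq_one.1 (h.eq_one_of_commute_invo ht
      (odd_orderOf_twoPt hM huM (mul_mem (inv_mem a.2) b.2)) hc))
  · rintro ⟨s, hs, hsM⟩
    obtain ⟨d, hd, hds⟩ := exists_conj_mem_inf hM hu huM ht htM hs hsM
    exact ⟨⟨d, hd⟩, Subtype.ext hds⟩

theorem inverts_twoPt (h : IsCIT G) (hM : Cfsg.IsStronglyEmbedded M) {u : G} (hu : orderOf u = 2)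
    (huM : u ∉ M) : ∀ x ∈ twoPt M u, u * x * u⁻¹ = x⁻¹ := by
  have huu := invo_sq hu
  have key : ∀ j : G, orderOf j = 2 → u * (u⁻¹ * j) * u⁻¹ = (u⁻¹ * j)⁻¹ := by
    intro j hj
    rw [mul_inv_rev, inv_inv, invo_inv hj, invo_inv hu, ← mul_assoc, huu, one_mul]
  have key' : ∀ j : G, orderOf j = 2 → u⁻¹ * (u⁻¹ * j) * u = (u⁻¹ * j)⁻¹ := by
    intro j hj
    have := key j hj
    rw [invo_inv hu] at this ⊢
    exact this
  let f : {j : G // orderOf j = 2 ∧ u⁻¹ * j ∈ M} → twoPt M u := fun j =>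
    ⟨u⁻¹ * j.1, mem_twoPt.2 ⟨j.2.2, by
      rw [key' _ j.2.1]
      exact M.inv_mem j.2.2⟩⟩
  have hinj : Function.Injective f := fun a b e =>
    Subtype.ext (mul_left_cancel (congrArg Subtype.val e))
  have hcard : Nat.card {j : G // orderOf j = 2 ∧ u⁻¹ * j ∈ M} = Nat.card (twoPt M u) :=
    (card_coset_invo hM huM).trans (card_twoPt h hM hu huM).symm
  intro x hx
  obtain ⟨⟨j, hj, hjM⟩, hjx⟩ :=
    ((Nat.bijective_iff_injective_and_card f).2 ⟨hinj, hcard⟩).2 ⟨x, hx⟩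
  have hjx' : u⁻¹ * j = x := congrArg Subtype.val hjx
  rw [← hjx']
  exact key j hj

theorem comm_twoPt (h : IsCIT G) (hM : Cfsg.IsStronglyEmbedded M) {u : G} (hu : orderOf u = 2)
    (huM : u ∉ M) : ∀ x ∈ twoPt M u, ∀ y ∈ twoPt M u, x * y = y * x := by
  intro x hx y hy
  have hxy : u * (x * y) * u⁻¹ = (u * x * u⁻¹) * (u * y * u⁻¹) := by group
  rw [inverts_twoPt h hM hu huM _ (mul_mem hx hy), inverts_twoPt h hM hu huM _ hx,
    inverts_twoPt h hM hu huM _ hy] at hxy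
  have := congrArg (·⁻¹) hxy
  simpa using this

/-- An involution moving a point inverts every element fixing the point and its image. -/
theorem inverts_of_smul (h : IsCIT G) (hM : Cfsg.IsStronglyEmbedded M) {w x : G}
    (hw : orderOf w = 2) {a : G ⧸ M} (hwa : w • a ≠ a) (hxa : x • a = a)
    (hxw : x • (w • a) = w • a) : w * x * w⁻¹ = x⁻¹ := by
  obtain ⟨g, rfl⟩ := QuotientGroup.mk_surjective a
  have hw0 : orderOf (g⁻¹ * w * g) = 2 := by
    have := (orderOf_conj_eq g⁻¹ w).trans hw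
    rwa [inv_inv] at this
  have hw0M : g⁻¹ * w * g ∉ M := fun e => hwa (smul_mk_eq_iff.2 e)
  rw [MulAction.Quotient.smul_mk, smul_eq_mul, smul_mk_eq_iff] at hxw
  have hx0 : g⁻¹ * x * g ∈ twoPt M (g⁻¹ * w * g) := mem_twoPt.2 ⟨smul_mk_eq_iff.1 hxa, by
    rw [show (g⁻¹ * w * g)⁻¹ * (g⁻¹ * x * g) * (g⁻¹ * w * g) = (w * g)⁻¹ * x * (w * g) by group]
    exact hxw⟩
  have := inverts_twoPt h hM hw0 hw0M _ hx0
  calc w * x * w⁻¹
      = g * ((g⁻¹ * w * g) * (g⁻¹ * x * g) * (g⁻¹ * w * g)⁻¹) * g⁻¹ := by group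
    _ = x⁻¹ := by rw [this]; group

theorem exists_pair (hM : Cfsg.IsStronglyEmbedded M) (hF : HasFour G) :
    ∃ s t : G, orderOf s = 2 ∧ orderOf t = 2 ∧ s ≠ t ∧ s * t = t * s ∧ s ∈ M ∧ t ∈ M := by
  obtain ⟨s, t, hs, ht, hst, hc⟩ := hF
  obtain ⟨a, ha, haM⟩ := exists_invo_mem hM
  obtain ⟨g, hg⟩ := isConj_iff.1 (isConj_invo hM hs ha)
  have hc' : g * s * g⁻¹ * (g * t * g⁻¹) = g * t * g⁻¹ * (g * s * g⁻¹) := by
    calc g * s * g⁻¹ * (g * t * g⁻¹) = g * (s * t) * g⁻¹ := by group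
      _ = g * (t * s) * g⁻¹ := by rw [hc]
      _ = g * t * g⁻¹ * (g * s * g⁻¹) := by group
  refine ⟨g * s * g⁻¹, g * t * g⁻¹, (orderOf_conj_eq g s).trans hs, (orderOf_conj_eq g t).trans ht,
    fun e => hst (mul_left_cancel (mul_right_cancel e)), hc', by rw [hg]; exact haM, ?_⟩
  refine mem_of_commute hM ha haM ?_
  rw [← hg]
  exact hc'.symm

theorem twoPt_ne_bot (h : IsCIT G) (hM : Cfsg.IsStronglyEmbedded M) (hF : HasFour G) {u : G}
    (hu : orderOf u = 2) (huM : u ∉ M) : twoPt M u ≠ ⊥ := by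
  intro hb
  obtain ⟨s, t, hs, ht, hst, -, hsM, htM⟩ := exists_pair hM hF
  have h1 := card_twoPt h hM hu huM
  rw [hb, Subgroup.card_bot] at h1
  have : Subsingleton {t : G // orderOf t = 2 ∧ t ∈ M} := (Nat.card_eq_one_iff_unique.1 h1.symm).1
  exact hst (congrArg Subtype.val (Subsingleton.elim
    (⟨s, hs, hsM⟩ : {t : G // orderOf t = 2 ∧ t ∈ M}) ⟨t, ht, htM⟩))

theorem exists_mul_centralizer (hM : Cfsg.IsStronglyEmbedded M) {u t m : G} (hu : orderOf u = 2)
    (huM : u ∉ M) (ht : orderOf t = 2) (htM : t ∈ M) (hm : m ∈ M) :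
    ∃ d ∈ twoPt M u, ∃ c ∈ Subgroup.centralizer ({t} : Set G), m = d * c := by
  obtain ⟨d, hd, hdt⟩ := exists_conj_mem_inf hM hu huM ht htM ((orderOf_conj_eq m t).trans ht)
    (M.mul_mem (M.mul_mem hm htM) (M.inv_mem hm))
  refine ⟨d, hd, d⁻¹ * m, Subgroup.mem_centralizer_singleton_iff.2 ?_, by group⟩
  calc d⁻¹ * m * t = d⁻¹ * (m * t * m⁻¹) * m := by group
    _ = t * (d⁻¹ * m) := by rw [← hdt]; group

theorem isSolvable_of_se (h : IsCIT G) (hM : Cfsg.IsStronglyEmbedded M) : Group.IsSolvable ↥M := by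
  have : Fact (Nat.Prime 2) := ⟨Nat.prime_two⟩
  obtain ⟨t, ht, htM⟩ := exists_invo_mem hM
  obtain ⟨u, hu, huM⟩ := exists_invo_not_mem hM
  let C : Subgroup M := (Subgroup.centralizer ({t} : Set G)).subgroupOf M
  let D : Subgroup M := (twoPt M u).subgroupOf M
  have hC : Group.IsNilpotent C :=
    (IsPGroup.comap_of_injective (h t ht) M.subtype M.subtype_injective : IsPGroup 2 C).isNilpotent
  have hD : Group.IsNilpotent D := @CommGroup.isNilpotent D
    { (inferInstance : Group D) with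
      mul_comm := fun a b => Subtype.ext (Subtype.ext
        (comm_twoPt h hM hu huM _ (Subgroup.mem_subgroupOf.1 a.2) _
          (Subgroup.mem_subgroupOf.1 b.2))) }
  refine Factorized.kegel_wielandt hD hC fun m => ?_
  obtain ⟨d, hd, c, hc, e⟩ := exists_mul_centralizer hM hu huM ht htM m.2
  exact ⟨⟨d, hd.1⟩, Subgroup.mem_subgroupOf.2 hd, ⟨c, centralizer_le hM ht htM hc⟩,
    Subgroup.mem_subgroupOf.2 hc, Subtype.ext e⟩

theorem core_ne_bot (h : IsCIT G) (hM : Cfsg.IsStronglyEmbedded M) (hF : HasFour G) :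
    core M ≠ ⊥ := by
  intro hbot
  obtain ⟨s, t, hs, ht, hst, hc, hsM, htM⟩ := exists_pair hM hF
  have : Nontrivial M := ⟨⟨⟨s, hsM⟩, 1, fun e => invo_ne_one hs (congrArg Subtype.val e)⟩⟩
  have := isSolvable_of_se h hM
  obtain ⟨A, hAn, hA0, hAc⟩ := PrimeDegree.exists_abelian_normal_ne_bot (G := M)
  have hcore : Cfsg.pCore 2 ↥M = ⊥ :=
    Subgroup.map_injective M.subtype_injective (hbot.trans (Subgroup.map_bot _).symm)
  by_cases hodd : Odd (Nat.card A)
  · have hmem : ∀ m ∈ M, ∀ x ∈ A.map M.subtype, m * x * m⁻¹ ∈ A.map M.subtype := by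
      rintro m hm _ ⟨a, ha, rfl⟩
      exact ⟨⟨m, hm⟩ * a * ⟨m, hm⟩⁻¹, hAn.conj_mem a ha _, rfl⟩
    have h0 : A.map M.subtype = ⊥ := eq_bot_of_four h
      (by rw [Subgroup.card_map_of_injective M.subtype_injective]; exact hodd)
      hs ht hst hc (hmem s hsM) (hmem t htM)
    exact hA0 (Subgroup.map_injective M.subtype_injective (h0.trans (Subgroup.map_bot _).symm))
  · obtain ⟨a, ha⟩ := exists_prime_orderOf_dvd_card' (G := A) 2
      (hp := ⟨Nat.prime_two⟩) (Nat.even_iff.1 (Nat.not_odd_iff_even.1 hodd) |> Nat.dvd_of_mod_eq_zero)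
    have hab : ∀ x ∈ A, ∀ y ∈ A, x * y = y * x := fun x hx y hy =>
      congrArg Subtype.val (hAc.is_comm.comm ⟨x, hx⟩ ⟨y, hy⟩)
    let W : Subgroup M :=
      { carrier := {x | x ∈ A ∧ x * x = 1}
        one_mem' := ⟨A.one_mem, one_mul 1⟩
        mul_mem' := fun {x y} hx hy => ⟨A.mul_mem hx.1 hy.1, by
          calc x * y * (x * y) = x * (y * x) * y := by group
            _ = x * x * (y * y) := by rw [← hab x hx.1 y hy.1]; group
            _ = 1 := by rw [hx.2, hy.2, mul_one]⟩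
        inv_mem' := fun {x} hx => ⟨A.inv_mem hx.1, by rw [← mul_inv_rev, hx.2, inv_one]⟩ }
    have hWn : W.Normal := ⟨fun x hx g => ⟨hAn.conj_mem x hx.1 g, by
      calc g * x * g⁻¹ * (g * x * g⁻¹) = g * (x * x) * g⁻¹ := by group
        _ = 1 := by rw [hx.2, mul_one, mul_inv_cancel]⟩⟩
    have hWp : IsPGroup 2 W := fun x =>
      ⟨1, Subtype.ext (by rw [pow_one, pow_two]; exact x.2.2)⟩
    have ha' : (a : M) ∈ W := ⟨a.2, invo_sq ((Subgroup.orderOf_coe a).trans ha)⟩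
    have := PSolvable.le_pCore (p := 2) hWp ha'
    rw [hcore, Subgroup.mem_bot] at this
    rw [← Subgroup.orderOf_coe, this, orderOf_one] at ha
    exact absurd ha (by norm_num)

/-- The involutions of `M` lie in the centre of the 2-core. -/
theorem invo_core (h : IsCIT G) (hM : Cfsg.IsStronglyEmbedded M) (hF : HasFour G) {t : G}
    (ht : orderOf t = 2) (htM : t ∈ M) : t ∈ core M ∧ ∀ x ∈ core M, x * t = t * x := by
  have : Fact (Nat.Prime 2) := ⟨Nat.prime_two⟩
  obtain ⟨u, hu, huM⟩ := exists_invo_not_mem hM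
  have : Nontrivial (core M) := (Subgroup.nontrivial_iff_ne_bot _).2 (core_ne_bot h hM hF)
  have := (isPGroup_core (M := M)).center_nontrivial
  obtain ⟨n, hn0, hn⟩ := (isPGroup_core (M := M)).to_subgroup (Subgroup.center (core M)) |>.nontrivial_iff_card.1 this
  obtain ⟨z, hz⟩ := exists_prime_orderOf_dvd_card' (G := Subgroup.center (core M)) 2
    (by rw [hn]; exact dvd_pow_self 2 hn0.ne')
  have hz' : orderOf ((z : core M) : G) = 2 := by
    rw [Subgroup.orderOf_coe, Subgroup.orderOf_coe, hz]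
  have hzc : ∀ x ∈ core M, x * ((z : core M) : G) = ((z : core M) : G) * x := fun x hx =>
    congrArg Subtype.val (Subgroup.mem_center_iff.1 z.2 ⟨x, hx⟩)
  obtain ⟨d, hd, hdt⟩ :=
    exists_conj_mem_inf hM hu huM hz' (core_le (z : core M).2) ht htM
  refine ⟨hdt ▸ core_conj_mem hd.1 (z : core M).2, fun x hx => ?_⟩
  have := hzc (d⁻¹ * x * d) (by simpa using core_conj_mem (M.inv_mem hd.1) hx)
  rw [← hdt]
  calc x * (d * ((z : core M) : G) * d⁻¹) = d * ((d⁻¹ * x * d) * ((z : core M) : G)) * d⁻¹ := by group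
    _ = d * ((z : core M) : G) * d⁻¹ * x := by rw [this]; group

omit [Finite G] in
theorem eq_one_of_core_odd {x : G} (hx : x ∈ core M) (hodd : Odd (orderOf x)) : x = 1 := by
  have : Fact (Nat.Prime 2) := ⟨Nat.prime_two⟩
  obtain ⟨k, hk⟩ := IsPGroup.iff_orderOf.1 (isPGroup_core (M := M)) ⟨x, hx⟩
  rw [Subgroup.orderOf_mk] at hk
  rw [hk] at hodd
  rcases Nat.eq_zero_or_pos k with rfl | hk0
  · exact orderOf_eq_one_iff.1 (by simpa using hk)
  · exact absurd hodd (Nat.not_odd_iff_even.2 (Nat.even_pow.2 ⟨even_two, hk0.ne'⟩))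

theorem mem_core_of_sq (h : IsCIT G) (hM : Cfsg.IsStronglyEmbedded M) (hF : HasFour G) {τ : G}
    (hτ : τ ∈ M) (hτ2 : τ * τ ∈ core M) : τ ∈ core M := by
  classical
  have : Fact (Nat.Prime 2) := ⟨Nat.prime_two⟩
  by_contra hτU
  set O := Cfsg.pCore 2 ↥M with hO
  have hOn : O.Normal := pCore_normal_two
  have hOp : IsPGroup 2 O := PSolvable.pCore_isPGroup
  set a : M := ⟨τ, hτ⟩ with ha
  have hmemO : ∀ x : M, (x : G) ∈ core M → x ∈ O := by
    rintro x ⟨y, hy, hxy⟩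
    exact (Subtype.ext hxy : y = x) ▸ hy
  have haO : a * a ∈ O := hmemO _ hτ2
  have hnot : a ∉ O := fun e => hτU ⟨a, e, rfl⟩
  obtain ⟨g, hg⟩ : ∃ g : M, ¬ IsPGroup 2 (Subgroup.closure ({a, g * a * g⁻¹} : Set M)) := by
    by_contra hc
    push Not at hc
    obtain ⟨N, hN, hNp, haN⟩ := Involution.baer_suzuki_element a hc
    exact hnot (PSolvable.le_pCore hNp haN)
  set b := g * a * g⁻¹ with hb
  have hbO : b * b ∈ O := by
    rw [hb, show g * a * g⁻¹ * (g * a * g⁻¹) = g * (a * a) * g⁻¹ by group]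
    exact hOn.conj_mem _ haO g
  set z := a * b with hz
  set π := QuotientGroup.mk' O with hπ
  have hπO : ∀ x : M, π x = 1 ↔ x ∈ O := fun x => QuotientGroup.eq_one_iff x
  have hinvz : π a * π z * (π a)⁻¹ = (π z)⁻¹ := by
    refine eq_inv_of_mul_eq_one_left ?_
    have h1 : π (a * a) = 1 := (hπO _).2 haO
    have h2 : π (b * b) = 1 := (hπO _).2 hbO
    rw [map_mul] at h1 h2
    rw [hz, map_mul]
    calc π a * (π a * π b) * (π a)⁻¹ * (π a * π b) = π a * π a * (π b * π b) := by group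
      _ = 1 := by rw [h1, h2, mul_one]
  clear_value z
  by_cases hz2 : ∃ k : ℕ, z ^ 2 ^ k = 1
  · obtain ⟨k, hk⟩ := hz2
    have hzp : IsPGroup 2 (Subgroup.zpowers z) := by
      intro x
      obtain ⟨i, hi⟩ := Subgroup.mem_zpowers_iff.1 x.2
      refine ⟨k, Subtype.ext ?_⟩
      rw [SubmonoidClass.coe_pow, ← hi, Subgroup.coe_one, ← zpow_natCast, ← zpow_mul, mul_comm,
        zpow_mul, zpow_natCast, hk, one_zpow]
    have hE : IsPGroup 2 ↥(Subgroup.zpowers z ⊔ O) :=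
      hzp.to_sup_of_normal_right' hOp (by rw [Subgroup.normalizer_eq_top]; exact le_top)
    have hap : IsPGroup 2 (Subgroup.zpowers a) := by
      obtain ⟨j, hj⟩ := hOp ⟨a * a, haO⟩
      have hj' : (a * a) ^ 2 ^ j = 1 := congrArg Subtype.val hj
      intro x
      obtain ⟨i, hi⟩ := Subgroup.mem_zpowers_iff.1 x.2
      refine ⟨j + 1, Subtype.ext ?_⟩
      rw [SubmonoidClass.coe_pow, ← hi, Subgroup.coe_one, ← zpow_natCast, ← zpow_mul, mul_comm,
        zpow_mul, zpow_natCast, pow_succ', pow_mul, pow_two, hj', one_zpow]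
    have hnorm : Subgroup.zpowers a ≤
        Subgroup.normalizer ((Subgroup.zpowers z ⊔ O : Subgroup M) : Set M) := by
      rw [Subgroup.zpowers_le]
      have hle : (Subgroup.zpowers z ⊔ O).map (MulAut.conj a).toMonoidHom ≤
          Subgroup.zpowers z ⊔ O := by
        rw [Subgroup.map_le_iff_le_comap, sup_le_iff, Subgroup.zpowers_le]
        refine ⟨?_, fun x hx => Subgroup.mem_sup_right (hOn.conj_mem x hx a)⟩
        show a * z * a⁻¹ ∈ Subgroup.zpowers z ⊔ O
        have hmem : z * (a * z * a⁻¹) ∈ O := by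
          rw [← hπO, map_mul, map_mul, map_mul, map_inv, hinvz, mul_inv_cancel]
        have := Subgroup.mul_mem _ (Subgroup.mem_sup_left (S := Subgroup.zpowers z) (T := O)
          (Subgroup.inv_mem _ (Subgroup.mem_zpowers z))) (Subgroup.mem_sup_right hmem)
        rwa [← mul_assoc, inv_mul_cancel, one_mul] at this
      have heq := Subgroup.eq_of_le_of_card_ge hle
        (by rw [Subgroup.card_map_of_injective (MulEquiv.injective _)])
      refine Subgroup.mem_normalizer_iff.2 fun x => ⟨fun hx => hle ⟨x, hx, rfl⟩, fun hx => ?_⟩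
      obtain ⟨y, hy, hyx⟩ : a * x * a⁻¹ ∈ (Subgroup.zpowers z ⊔ O).map (MulAut.conj a).toMonoidHom :=
        heq.symm ▸ hx
      exact (MulAut.conj a).injective hyx ▸ hy
    refine hg ((hap.to_sup_of_normal_right' hE hnorm).to_le ((Subgroup.closure_le _).2 ?_))
    rintro x (rfl | rfl)
    · exact Subgroup.mem_sup_left (Subgroup.mem_zpowers _)
    · rw [show b = a⁻¹ * z by rw [hz]; group]
      exact Subgroup.mul_mem _ (Subgroup.mem_sup_left (Subgroup.inv_mem _ (Subgroup.mem_zpowers a)))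
        (Subgroup.mem_sup_right (Subgroup.mem_sup_left (Subgroup.mem_zpowers z)))
  · obtain ⟨j, m, hm, hjm⟩ : ∃ j m, Odd m ∧ orderOf z = 2 ^ j * m := by
      obtain ⟨j, m, hm, hjm⟩ := Nat.exists_eq_two_pow_mul_odd (orderOf_pos z).ne'
      exact ⟨j, m, hm, hjm⟩
    set y := z ^ 2 ^ j with hy
    have hyo : orderOf y = m := by
      rw [hy, orderOf_pow_of_dvd (by positivity) (hjm ▸ dvd_mul_right _ _), hjm,
        Nat.mul_div_cancel_left _ (by positivity)]
    have hy1 : (y : G) ≠ 1 := fun e => hz2 ⟨j, Subtype.ext e⟩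
    have hyG : Odd (orderOf (y : G)) := by rw [Subgroup.orderOf_coe, hyo]; exact hm
    have hinvy : τ * (y : G) * τ⁻¹ * (y : G) ∈ core M := by
      refine ⟨a * y * a⁻¹ * y, (hπO _).1 ?_, rfl⟩
      rw [hy, map_mul, map_mul, map_mul, map_inv, map_pow, ← conj_pow, hinvz, inv_pow,
        inv_mul_cancel]
    obtain ⟨c, hc, hcinv, -⟩ := exists_invo_lift hyG hy1
      (fun x hx => core_conj_mem hτ hx)
      (fun x hx => by simpa using core_conj_mem (M.inv_mem y.2) hx) hτ2 hinvy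
      (fun x hx e => h.eq_one_of_mem isPGroup_core hyG hy1 hx e)
    have := (invo_core h hM hF hcinv (M.mul_mem (core_le hc) hτ)).1
    exact hτU (by simpa using Subgroup.mul_mem _ (Subgroup.inv_mem _ hc) this)

theorem two_mem_core (h : IsCIT G) (hM : Cfsg.IsStronglyEmbedded M) (hF : HasFour G) (k : ℕ) :
    ∀ x ∈ M, x ^ 2 ^ k = 1 → x ∈ core M := by
  induction k with
  | zero => intro x _ hk; rw [pow_zero, pow_one] at hk; rw [hk]; exact one_mem _
  | succ k ih =>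
    intro x hx hk
    refine mem_core_of_sq h hM hF hx (ih _ (M.mul_mem hx hx) ?_)
    rw [← pow_two, ← pow_mul, ← pow_succ']
    exact hk

theorem centralizer_eq_core (h : IsCIT G) (hM : Cfsg.IsStronglyEmbedded M) (hF : HasFour G)
    {t : G} (ht : orderOf t = 2) (htM : t ∈ M) :
    Subgroup.centralizer ({t} : Set G) = core M := by
  refine le_antisymm (fun c hc => ?_) fun x hx =>
    Subgroup.mem_centralizer_singleton_iff.2 ((invo_core h hM hF ht htM).2 x hx)
  obtain ⟨k, hk⟩ := h t ht ⟨c, hc⟩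
  exact two_mem_core h hM hF k c (centralizer_le hM ht htM hc) (congrArg Subtype.val hk)

theorem exists_sylow_core (h : IsCIT G) (hM : Cfsg.IsStronglyEmbedded M) (hF : HasFour G) :
    ∃ S : Sylow 2 G, (S : Subgroup G) = core M := by
  have : Fact (Nat.Prime 2) := ⟨Nat.prime_two⟩
  obtain ⟨S, hS⟩ := (isPGroup_core (M := M)).exists_le_sylow
  refine ⟨S, le_antisymm (fun x hx => ?_) hS⟩
  obtain ⟨t, ht, htM⟩ := exists_invo_mem hM
  have htS : t ∈ (S : Subgroup G) := hS (invo_core h hM hF ht htM).1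
  have : Nontrivial (S : Subgroup G) :=
    ⟨⟨⟨t, htS⟩, 1, fun e => invo_ne_one ht (congrArg Subtype.val e)⟩⟩
  have hnt := S.2.center_nontrivial
  obtain ⟨n, hn0, hn⟩ := (S.2.to_subgroup (Subgroup.center (S : Subgroup G))).nontrivial_iff_card.1 hnt
  obtain ⟨z, hz⟩ := exists_prime_orderOf_dvd_card' (G := Subgroup.center (S : Subgroup G)) 2
    (by rw [hn]; exact dvd_pow_self 2 hn0.ne')
  have hz' : orderOf ((z : (S : Subgroup G)) : G) = 2 := by
    rw [Subgroup.orderOf_coe, Subgroup.orderOf_coe, hz]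
  have hzc : ∀ y ∈ (S : Subgroup G), y * ((z : (S : Subgroup G)) : G) = ((z : (S : Subgroup G)) : G) * y :=
    fun y hy => congrArg Subtype.val (Subgroup.mem_center_iff.1 z.2 ⟨y, hy⟩)
  have hzM := mem_of_commute hM ht htM (hzc t htS).symm
  have hxM := mem_of_commute hM hz' hzM (hzc x hx)
  obtain ⟨k, hk⟩ := S.2 ⟨x, hx⟩
  exact two_mem_core h hM hF k x hxM (congrArg Subtype.val hk)

theorem normalizer_core (h : IsCIT G) (hM : Cfsg.IsStronglyEmbedded M) (hF : HasFour G) :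
    Subgroup.normalizer (core M : Set G) = M := by
  refine le_antisymm (fun g hg => ?_) fun m hm => ?_
  · obtain ⟨t, ht, htM⟩ := exists_invo_mem hM
    exact mem_of_conj_mem hM ht htM
      (core_le ((Subgroup.mem_normalizer_iff.1 hg t).1 (invo_core h hM hF ht htM).1))
  · refine Subgroup.mem_normalizer_iff.2 fun x => ⟨fun hx => core_conj_mem hm hx, fun hx => ?_⟩
    simpa [mul_assoc] using core_conj_mem (M.inv_mem hm) hx

theorem exists_factor (h : IsCIT G) (hM : Cfsg.IsStronglyEmbedded M) (hF : HasFour G) {u : G}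
    (hu : orderOf u = 2) (huM : u ∉ M) {m : G} (hm : m ∈ M) :
    ∃ a ∈ core M, ∃ d ∈ twoPt M u, m = a * d := by
  obtain ⟨t, ht, htM⟩ := exists_invo_mem hM
  obtain ⟨d, hd, c, hc, rfl⟩ := exists_mul_centralizer hM hu huM ht htM hm
  rw [centralizer_eq_core h hM hF ht htM] at hc
  exact ⟨d * c * d⁻¹, core_conj_mem hd.1 hc, d, hd, by group⟩

theorem not_inverted (h : IsCIT G) (hM : Cfsg.IsStronglyEmbedded M) (hF : HasFour G) {u x m : G}
    (huM : u ∉ M) (hx : x ∈ twoPt M u) (hm : m ∈ M) (hinv : m * x * m⁻¹ = x⁻¹) : x = 1 := by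
  have hodd := odd_orderOf_twoPt hM huM hx
  obtain ⟨j, b, hb, hjb⟩ := Nat.exists_eq_two_pow_mul_odd (orderOf_pos m).ne'
  have hc2 : Commute (m * m) x := by
    show m * m * x = x * (m * m)
    refine mul_inv_eq_iff_eq_mul.1 ?_
    calc m * m * x * (m * m)⁻¹ = m * (m * x * m⁻¹) * m⁻¹ := by group
      _ = m * x⁻¹ * m⁻¹ := by rw [hinv]
      _ = (m * x * m⁻¹)⁻¹ := by group
      _ = x := by rw [hinv, inv_inv]
  obtain ⟨c, rfl⟩ := hb
  have hinv' : m ^ (2 * c + 1) * x * (m ^ (2 * c + 1))⁻¹ = x⁻¹ := by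
    rw [pow_succ', pow_mul, pow_two]
    calc m * (m * m) ^ c * x * (m * (m * m) ^ c)⁻¹
        = m * ((m * m) ^ c * x * ((m * m) ^ c)⁻¹) * m⁻¹ := by group
      _ = x⁻¹ := by rw [(hc2.pow_left c).eq, mul_inv_cancel_right, hinv]
  have hmem : m ^ (2 * c + 1) ∈ core M :=
    two_mem_core h hM hF j _ (M.pow_mem hm _) (by rw [← pow_mul, mul_comm, ← hjb, pow_orderOf_eq_one])
  have hx2 : x * x ∈ core M := by
    have h1 := Subgroup.mul_mem _ hmem (core_conj_mem hx.1 (Subgroup.inv_mem _ hmem))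
    rw [show m ^ (2 * c + 1) * (x * (m ^ (2 * c + 1))⁻¹ * x⁻¹)
      = m ^ (2 * c + 1) * x * (m ^ (2 * c + 1))⁻¹ * x⁻¹ by group, hinv', ← mul_inv_rev] at h1
    simpa using Subgroup.inv_mem _ h1
  have h2 := eq_one_of_core_odd hx2 (odd_orderOf_twoPt hM huM (mul_mem hx hx))
  by_contra hx1
  rw [invo_of_sq hx1 h2] at hodd
  exact absurd hodd (by decide)

theorem fixed_twoPt (h : IsCIT G) (hM : Cfsg.IsStronglyEmbedded M) (hF : HasFour G) {u x : G}
    (hu : orderOf u = 2) (huM : u ∉ M) (hx : x ∈ twoPt M u) (hx1 : x ≠ 1) {q : G ⧸ M}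
    (hq : x • q = q) : q = QuotientGroup.mk 1 ∨ q = QuotientGroup.mk u := by
  by_contra hcon
  push Not at hcon
  obtain ⟨hqo, hqp⟩ := hcon
  set o : G ⧸ M := QuotientGroup.mk 1 with ho
  set p : G ⧸ M := QuotientGroup.mk u with hp
  have hxo : x • o = o := smul_one_eq_iff.2 hx.1
  have hxp : x • p = p := smul_mk_eq_iff.2 (mem_twoPt.1 hx).2
  have hswap : ∀ {w : G}, orderOf w = 2 → ∀ {a b : G ⧸ M}, w • a = b → w • b = a := fun hw a b e => by
    rw [← e, smul_smul, invo_sq hw, one_smul]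
  have hup : u • o = p := by rw [ho, MulAction.Quotient.smul_mk, smul_eq_mul, mul_one]
  obtain ⟨v, hv, hvo⟩ := exists_swap hM (Ne.symm hqo)
  obtain ⟨w, hw, hwp⟩ := exists_swap hM (Ne.symm hqp)
  have iv := inverts_of_smul h hM hv (hvo.symm ▸ hqo) hxo (hvo.symm ▸ hq)
  have iw := inverts_of_smul h hM hw (hwp.symm ▸ hqp) hxp (hwp.symm ▸ hq)
  have iu := inverts_twoPt h hM hu huM x hx
  have hmM : u * w * v ∈ M := smul_one_eq_iff.1 <| by
    rw [mul_smul, mul_smul, ← ho, hvo, hswap hw hwp, hswap hu hup]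
  refine hx1 (not_inverted h hM hF huM hx hmM ?_)
  calc u * w * v * x * (u * w * v)⁻¹ = u * (w * (v * x * v⁻¹) * w⁻¹) * u⁻¹ := by group
    _ = u * (w * x * w⁻¹)⁻¹ * u⁻¹ := by rw [iv]; group
    _ = x⁻¹ := by rw [iw, inv_inv, iu]

theorem free_core (hM : Cfsg.IsStronglyEmbedded M) {u a : G} (huM : u ∉ M) (ha : a ∈ core M)
    (hau : a • (QuotientGroup.mk u : G ⧸ M) = QuotientGroup.mk u) : a = 1 :=
  eq_one_of_core_odd ha
    (odd_orderOf_twoPt hM huM (mem_twoPt.2 ⟨core_le ha, smul_mk_eq_iff.1 hau⟩))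

theorem orbit_core (h : IsCIT G) (hM : Cfsg.IsStronglyEmbedded M) (hF : HasFour G) {u : G}
    (hu : orderOf u = 2) (huM : u ∉ M) {q : G ⧸ M} (hq : q ≠ QuotientGroup.mk 1) :
    ∃ a ∈ core M, q = a • QuotientGroup.mk u := by
  set o : G ⧸ M := QuotientGroup.mk 1 with ho
  obtain ⟨v, hv, hvo⟩ := exists_swap hM (Ne.symm hq)
  have hqv : q = QuotientGroup.mk v := by
    rw [← hvo, ho, MulAction.Quotient.smul_mk, smul_eq_mul, mul_one]
  have hvM : v ∉ M := fun e => hq (hvo ▸ smul_one_eq_iff.2 e)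
  obtain ⟨x, hx, hx1⟩ : ∃ x ∈ twoPt M v, x ≠ 1 := by
    by_contra hc
    push Not at hc
    exact twoPt_ne_bot h hM hF hv hvM ((Subgroup.eq_bot_iff_forall _).2 hc)
  obtain ⟨a₀, ha₀, d, hd, hxd⟩ := exists_factor h hM hF hu huM hx.1
  have hd1 : d ≠ 1 := by
    rintro rfl
    rw [mul_one] at hxd
    exact hx1 (eq_one_of_core_odd (hxd ▸ ha₀) (odd_orderOf_twoPt hM hvM hx))
  have hdodd := odd_orderOf_twoPt hM huM hd
  let f : core M → core M := fun a => ⟨(a : G) * (d * (a : G)⁻¹ * d⁻¹),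
    Subgroup.mul_mem _ a.2 (core_conj_mem hd.1 (Subgroup.inv_mem _ a.2))⟩
  have hinj : Function.Injective f := by
    intro a b e
    have e' : (a : G) * (d * (a : G)⁻¹ * d⁻¹) = (b : G) * (d * (b : G)⁻¹ * d⁻¹) :=
      congrArg Subtype.val e
    have e2 : d * ((a : G)⁻¹ * b) = (a : G)⁻¹ * b * d := by
      calc d * ((a : G)⁻¹ * b) = (a : G)⁻¹ * ((a : G) * (d * (a : G)⁻¹ * d⁻¹)) * d * b := by group
        _ = (a : G)⁻¹ * b * d := by rw [e']; group
    exact Subtype.ext (inv_mul_eq_one.1 (h.eq_one_of_mem isPGroup_core hdodd hd1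
      (Subgroup.mul_mem _ (Subgroup.inv_mem _ a.2) b.2) e2))
  obtain ⟨a, ha⟩ := (Finite.injective_iff_surjective.1 hinj) ⟨a₀, ha₀⟩
  have ha' : (a : G) * (d * (a : G)⁻¹ * d⁻¹) = a₀ := congrArg Subtype.val ha
  have hxa : x = (a : G) * d * (a : G)⁻¹ := by rw [hxd, ← ha']; group
  have hxq : x • q = q := hqv ▸ smul_mk_eq_iff.2 (mem_twoPt.1 hx).2
  have hdfix : d • ((a : G)⁻¹ • q) = (a : G)⁻¹ • q := by
    conv_rhs => rw [← hxq, hxa, smul_smul]
    rw [smul_smul]
    congr 1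
    group
  refine ⟨a, a.2, ?_⟩
  rcases fixed_twoPt h hM hF hu huM hd hd1 hdfix with e | e
  · refine absurd ?_ hq
    rw [← smul_inv_smul (a : G) q, e]
    exact smul_one_eq_iff.2 (core_le a.2)
  · rw [← e, smul_inv_smul]

theorem card_quot_core (h : IsCIT G) (hM : Cfsg.IsStronglyEmbedded M) (hF : HasFour G) {u : G}
    (hu : orderOf u = 2) (huM : u ∉ M) : Nat.card (G ⧸ M) = Nat.card (core M) + 1 := by
  classical
  have hne : ∀ a ∈ core M, a • (QuotientGroup.mk u : G ⧸ M) ≠ QuotientGroup.mk 1 := fun a ha e => by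
    have hfix := smul_one_eq_iff.2 ((core M).mem_carrier.1 ha |> fun ha' => M.inv_mem (core_le ha'))
    rw [← e, smul_smul, inv_mul_cancel, one_smul, e] at hfix
    exact huM (smul_one_eq_iff.1 (by
      rw [MulAction.Quotient.smul_mk, smul_eq_mul, mul_one]; exact hfix))
  let f : Option (core M) → G ⧸ M
    | none => QuotientGroup.mk 1
    | some a => (a : G) • QuotientGroup.mk u
  rw [← Finite.card_option]
  refine (Nat.card_eq_of_bijective f ⟨?_, ?_⟩).symm
  · rintro (_ | a) (_ | b) e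
    · rfl
    · exact absurd e.symm (hne b b.2)
    · exact absurd e (hne a a.2)
    · congr 1
      refine Subtype.ext (inv_mul_eq_one.1 (free_core hM huM
        (Subgroup.mul_mem _ (Subgroup.inv_mem _ a.2) b.2) ?_))
      show ((a : G)⁻¹ * b) • (QuotientGroup.mk u : G ⧸ M) = _
      have e' : (a : G) • (QuotientGroup.mk u : G ⧸ M) = (b : G) • QuotientGroup.mk u := e
      rw [mul_smul, ← e', inv_smul_smul]
  · intro q
    by_cases hq : q = QuotientGroup.mk 1
    · exact ⟨none, hq.symm⟩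
    · obtain ⟨a, ha, e⟩ := orbit_core h hM hF hu huM hq
      exact ⟨some ⟨a, ha⟩, e.symm⟩

/-- The structure theorem. -/
theorem seData (h : IsCIT G) (hM : Cfsg.IsStronglyEmbedded M) (hF : HasFour G) {u : G}
    (hu : orderOf u = 2) (huM : u ∉ M) : SEData M (core M) (twoPt M u) u where
  invo := hu
  notMem := huM
  eq_twoPt := rfl
  le := core_le
  isTwoGroup := isPGroup_core
  sylow := exists_sylow_core h hM hF
  conj_mem _ hm _ hx := core_conj_mem hm hx
  normalizer_eq := normalizer_core h hM hF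
  two_mem x hx k hk := two_mem_core h hM hF k x hx hk
  centralizer_eq _ ht htM := centralizer_eq_core h hM hF ht htM
  odd := hM.2.2 u huM
  inverts := inverts_twoPt h hM hu huM
  comm := comm_twoPt h hM hu huM
  card_eq := card_twoPt h hM hu huM
  ne_bot := twoPt_ne_bot h hM hF hu huM
  factor _ hm := exists_factor h hM hF hu huM hm
  centralizer_inf x hx hx1 m hm hc := by
    refine mem_twoPt.2 ⟨hm, smul_mk_eq_iff.1 ?_⟩
    have hfix : x • (m • (QuotientGroup.mk u : G ⧸ M)) = m • QuotientGroup.mk u := by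
      rw [smul_smul, ← hc, mul_smul, smul_mk_eq_iff.2 (mem_twoPt.1 hx).2]
    refine (fixed_twoPt h hM hF hu huM hx hx1 hfix).resolve_left fun e => huM ?_
    refine smul_one_eq_iff.1 ?_
    rw [MulAction.Quotient.smul_mk, smul_eq_mul, mul_one]
    have := congrArg (m⁻¹ • ·) e
    simp only [inv_smul_smul] at this
    rw [this]
    exact smul_one_eq_iff.2 (M.inv_mem hm)
  fixed _ hx hx1 _ hq := fixed_twoPt h hM hF hu huM hx hx1 hq
  orbit _ hq := orbit_core h hM hF hu huM hq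
  free _ ha hau := free_core hM huM ha hau
  card_quot := card_quot_core h hM hF hu huM

theorem exists_seData (h : IsCIT G) (hM : Cfsg.IsStronglyEmbedded M) (hF : HasFour G) :
    ∃ (D : Subgroup G) (u : G), SEData M (core M) D u := by
  obtain ⟨u, hu, huM⟩ := exists_invo_not_mem hM
  exact ⟨_, u, seData h hM hF hu huM⟩

theorem odd_card_quot (h : IsCIT G) (hM : Cfsg.IsStronglyEmbedded M) (hF : HasFour G) :
    Odd (Nat.card (G ⧸ M)) := by
  obtain ⟨u, hu, huM⟩ := exists_invo_not_mem hM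
  obtain ⟨t, ht, htM⟩ := exists_invo_mem hM
  rw [card_quot_core h hM hF hu huM]
  have h2 := orderOf_dvd_natCard (⟨t, (invo_core h hM hF ht htM).1⟩ : core M)
  rw [Subgroup.orderOf_mk, ht] at h2
  exact (even_iff_two_dvd.2 h2).add_one

/-- The action on the cosets of `M` is a Zassenhaus group. -/
theorem isZassenhausGroup_quot (h : IsCIT G) (hM : Cfsg.IsStronglyEmbedded M) (hF : HasFour G) :
    Cfsg.IsZassenhausGroup G (G ⧸ M) := by
  obtain ⟨D, u, S⟩ := exists_seData h hM hF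
  set o : G ⧸ M := QuotientGroup.mk 1 with ho
  set p : G ⧸ M := QuotientGroup.mk u with hp
  have hop : o ≠ p := fun e => S.notMem (smul_one_eq_iff.1 (by
    rw [MulAction.Quotient.smul_mk, smul_eq_mul, mul_one]; exact e.symm))
  have hpair : ∀ a b : G ⧸ M, a ≠ b → ∃ g : G, g • o = a ∧ g • p = b := by
    intro a b hab
    obtain ⟨g₀, rfl⟩ := QuotientGroup.mk_surjective a
    have hg₀ : g₀ • o = (QuotientGroup.mk g₀ : G ⧸ M) := by
      rw [ho, MulAction.Quotient.smul_mk, smul_eq_mul, mul_one]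
    obtain ⟨a', ha', e⟩ := S.orbit (g₀⁻¹ • b) (fun e => hab (by rw [← hg₀, ho, ← e, smul_inv_smul]))
    refine ⟨g₀ * a', ?_, ?_⟩
    · rw [mul_smul, smul_one_eq_iff.2 (S.le ha'), hg₀]
    · rw [mul_smul, ← e, smul_inv_smul]
  have h3 : ∀ g : G, ∀ a b c : G ⧸ M, a ≠ b → b ≠ c → a ≠ c → g • a = a → g • b = b → g • c = c →
      g = 1 := by
    intro g a b c hab hbc hac ha hb hc
    obtain ⟨k, rfl, rfl⟩ := hpair a b hab
    have hxo : (k⁻¹ * g * k) • o = o := by rw [mul_smul, mul_smul, ha, inv_smul_smul]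
    have hxp : (k⁻¹ * g * k) • p = p := by rw [mul_smul, mul_smul, hb, inv_smul_smul]
    have hxD : k⁻¹ * g * k ∈ D :=
      S.eq_twoPt ▸ mem_twoPt.2 ⟨smul_one_eq_iff.1 hxo, smul_mk_eq_iff.1 hxp⟩
    by_contra hg1
    have hx1 : k⁻¹ * g * k ≠ 1 := fun e => hg1 (by
      rw [show g = k * (k⁻¹ * g * k) * k⁻¹ by group, e, mul_one, mul_inv_cancel])
    rcases S.fixed _ hxD hx1 (k⁻¹ • c) (by rw [mul_smul, mul_smul, smul_inv_smul, hc]) with e | e
    · exact hac (by rw [← smul_inv_smul k c, e])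
    · exact hbc (by rw [← smul_inv_smul k c, e])
  obtain ⟨t, ht, htM⟩ := exists_invo_mem hM
  have htU : t ∈ core M := (invo_core h hM hF ht htM).1
  have hthird : ∀ a b : G ⧸ M, ∃ c, c ≠ a ∧ c ≠ b := by
    intro a b
    by_contra hc
    push Not at hc
    classical
    have := Fintype.ofFinite (G ⧸ M)
    have hle : Nat.card (G ⧸ M) ≤ 2 := by
      rw [Nat.card_eq_fintype_card, ← Finset.card_univ]
      refine (Finset.card_le_card (t := {a, b}) fun c _ => ?_).trans Finset.card_le_two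
      rcases em (c = a) with e | e
      · simp [e]
      · simp [hc c e]
    have h2 : 2 ≤ Nat.card (core M) := by
      have : Nontrivial (core M) :=
        ⟨⟨⟨t, htU⟩, 1, fun e => invo_ne_one ht (congrArg Subtype.val e)⟩⟩
      exact Finite.one_lt_card
    rw [S.card_quot] at hle
    omega
  refine ⟨⟨fun {g g'} e => ?_⟩, MulAction.is_two_pretransitive_iff.2 fun hab hcd => ?_, h3, ?_, ?_⟩
  · obtain ⟨c, hc1, hc2⟩ := hthird o p
    have := h3 (g'⁻¹ * g) o p c hop hc2.symm hc1.symm (by rw [mul_smul, e, inv_smul_smul])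
      (by rw [mul_smul, e, inv_smul_smul]) (by rw [mul_smul, e, inv_smul_smul])
    exact (inv_mul_eq_one.1 this).symm
  · obtain ⟨g₁, h11, h12⟩ := hpair _ _ hab
    obtain ⟨g₂, h21, h22⟩ := hpair _ _ hcd
    exact ⟨g₂ * g₁⁻¹, by rw [mul_smul, ← h11, inv_smul_smul, h21],
      by rw [mul_smul, ← h12, inv_smul_smul, h22]⟩
  · obtain ⟨d, hd, hd1⟩ : ∃ d ∈ D, d ≠ 1 := by
      by_contra hc
      push Not at hc
      exact S.ne_bot ((Subgroup.eq_bot_iff_forall _).2 hc)
    rw [S.eq_twoPt] at hd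
    exact ⟨d, hd1, o, p, hop, smul_one_eq_iff.2 hd.1, smul_mk_eq_iff.2 (mem_twoPt.1 hd).2⟩
  · intro N hN htr
    by_contra hc
    push Not at hc
    obtain ⟨s, t, hs, ht, hst, hst', -, -⟩ := exists_pair hM hF
    have hcard : Nat.card N = Nat.card (G ⧸ M) := by
      refine Nat.card_eq_of_bijective (fun n : N => n • o) ⟨fun a b e => ?_, fun q => htr.exists_smul_eq o q⟩
      have : a⁻¹ * b ∈ MulAction.stabilizer N o :=
        MulAction.mem_stabilizer_iff.2 (by
          show (a⁻¹ * b) • o = o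
          rw [mul_smul, ← show a • o = b • o from e, inv_smul_smul])
      exact inv_mul_eq_one.1 ((Subgroup.eq_bot_iff_forall _).1 (hc o) _ this)
    have hN0 : N = ⊥ := eq_bot_of_four h (hcard ▸ odd_card_quot h hM hF) hs ht hst hst'
      (fun x hx => hN.conj_mem x hx s) (fun x hx => hN.conj_mem x hx t)
    subst hN0
    obtain ⟨n, hn⟩ := htr.exists_smul_eq o p
    have : (n : G) = 1 := Subgroup.mem_bot.1 n.2
    exact hop (by rw [← hn]; show o = (n : G) • o; rw [this, one_smul])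

/-- A CIT group with a strongly embedded subgroup and two commuting involutions is simple. -/
theorem isSimpleGroup_of_se (h : IsCIT G) (hM : Cfsg.IsStronglyEmbedded M) (hF : HasFour G) :
    IsSimpleGroup G := by
  have := Fintype.ofFinite (G ⧸ M)
  refine Zassenhaus.isSimpleGroup_of_odd (isZassenhausGroup_quot h hM hF) ?_
  rw [← Nat.card_eq_fintype_card]
  exact odd_card_quot h hM hF

end

end Cfsg.Agent.Lib.CIT
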