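import Mathlib
import Cfsg.Prelude.Def_PLocal
import Cfsg.Prelude.Def_Solvable
import Cfsg.Prelude.Def_Transfer
import Cfsg.Prelude.Def_BaumannBlocks

/-!
Local groups in which involution centralisers are `2`-groups, part 1: counting.

`R = O₂(Y)`, the Sylow `2`-subgroups meet pairwise in `R`, `V = Ω₁Z(R)`.  An elementary abelian
`A` of largest order in a Sylow subgroup `P`, not inside `R`, forces `|V| = q²`, `|P : R| = q`,
`|V ∩ A| = q` and exactly `q + 1` Sylow `2`-subgroups.  Everything is done by counting: the number of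
Sylow subgroups is `≡ 1 (mod |P : R|)` and divides `|V| - 1`.
-/

set_option autoImplicit false
set_option linter.unusedSectionVars false

namespace Cfsg.Agent.Lib.CIT.Offender

open Subgroup

universe u

variable (Y : Type u) [Group Y]

/-- The hypotheses on a local group. -/
structure Setup : Prop where
  cit : ∀ t : Y, orderOf t = 2 → IsPGroup 2 ↥(Subgroup.centralizer ({t} : Set Y))
  cent : Subgroup.centralizer (Cfsg.pCore 2 Y : Set Y) ≤ Cfsg.pCore 2 Y
  two : ∃ P Q : Sylow 2 Y, P ≠ Q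
  ti : ∀ P Q : Sylow 2 Y, P ≠ Q → (P : Subgroup Y) ⊓ Q = Cfsg.pCore 2 Y

/-- `V = Ω₁Z(O₂(Y))`. -/
def omegaV : Subgroup Y := Cfsg.omegaOneCenter 2 (Cfsg.pCore 2 Y)

variable {Y}

theorem mem_omegaV {x : Y} :
    x ∈ omegaV Y ↔ x ∈ Cfsg.pCore 2 Y ∧ (∀ r ∈ Cfsg.pCore 2 Y, Commute x r) ∧ x * x = 1 := by
  constructor
  · intro hx
    induction hx using Subgroup.closure_induction with
    | mem y hy =>
      exact ⟨hy.1.1, fun r hr => (Subgroup.mem_centralizer_iff.mp hy.1.2 r hr).symm,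
        by rw [← sq]; exact hy.2⟩
    | one => exact ⟨one_mem _, fun r _ => Commute.one_left r, mul_one 1⟩
    | mul a b _ _ iha ihb =>
      refine ⟨mul_mem iha.1 ihb.1, fun r hr => (iha.2.1 r hr).mul_left (ihb.2.1 r hr), ?_⟩
      rw [(iha.2.1 b ihb.1).symm.mul_mul_mul_comm a b, iha.2.2, ihb.2.2, mul_one]
    | inv a _ iha =>
      refine ⟨inv_mem iha.1, fun r hr => (iha.2.1 r hr).inv_left, ?_⟩
      rw [← mul_inv_rev, iha.2.2, inv_one]
  · rintro ⟨h1, h2, h3⟩
    refine Subgroup.subset_closure ⟨⟨h1, Subgroup.mem_centralizer_iff.mpr fun r hr => (h2 r hr).symm⟩, ?_⟩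
    rw [sq]; exact h3

theorem inv_eq_self {x : Y} (h : x * x = 1) : x⁻¹ = x := inv_eq_of_mul_eq_one_right h

theorem omegaV_le : omegaV Y ≤ Cfsg.pCore 2 Y := fun _ h => (mem_omegaV.mp h).1

theorem omegaV_comm {x y : Y} (hx : x ∈ omegaV Y) (hy : y ∈ omegaV Y) : Commute x y :=
  (mem_omegaV.mp hx).2.1 y (mem_omegaV.mp hy).1

/-- Conjugation of a membership in a Sylow subgroup. -/
theorem mem_smul_sylow {g x : Y} {P : Sylow 2 Y} :
    x ∈ ((g • P : Sylow 2 Y) : Subgroup Y) ↔ g⁻¹ * x * g ∈ (P : Subgroup Y) := by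
  rw [Sylow.coe_subgroup_smul, Subgroup.mem_pointwise_smul_iff_inv_smul_mem]
  simp

/-- The elements of a subgroup centralised by `x`, as a subgroup. -/
def cent (H : Subgroup Y) (x : Y) : Subgroup Y := H ⊓ Subgroup.centralizer ({x} : Set Y)

theorem mem_cent {H : Subgroup Y} {x v : Y} : v ∈ cent H x ↔ v ∈ H ∧ Commute x v := by
  rw [cent, Subgroup.mem_inf, Subgroup.mem_centralizer_singleton_iff]
  exact Iff.rfl.and ⟨fun h => h.symm, fun h => h.symm⟩

variable [Finite Y]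

theorem pCore_normal : (Cfsg.pCore 2 Y).Normal :=
  Subgroup.sSup_normal _ fun _ h => h.1

theorem omegaV_conj {g x : Y} (hx : x ∈ omegaV Y) : g * x * g⁻¹ ∈ omegaV Y := by
  obtain ⟨h1, h2, h3⟩ := mem_omegaV.mp hx
  haveI := pCore_normal (Y := Y)
  refine mem_omegaV.mpr ⟨this.conj_mem x h1 g, fun r hr => ?_, ?_⟩
  · have h := (h2 (g⁻¹ * r * g) (by simpa using this.conj_mem r hr g⁻¹)).map (MulAut.conj g).toMonoidHom
    simpa [mul_assoc] using h
  · rw [show g * x * g⁻¹ * (g * x * g⁻¹) = g * (x * x) * g⁻¹ by group, h3, mul_one, mul_inv_cancel]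

theorem omegaV_normal : (omegaV Y).Normal := ⟨fun _ hx _ => omegaV_conj hx⟩

/-- Two subgroups meeting trivially: the product of the orders is at most the order of a subgroup
containing both. -/
theorem card_mul_le {H K L : Subgroup Y} (hH : H ≤ L) (hK : K ≤ L) (h : ∀ x ∈ H, x ∈ K → x = 1) :
    Nat.card H * Nat.card K ≤ Nat.card L := by
  rw [← Nat.card_prod]
  refine Nat.card_le_card_of_injective (fun p => (⟨(p.1 : Y) * p.2, mul_mem (hH p.1.2) (hK p.2.2)⟩ : L)) ?_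
  intro p p' e
  have e' : (p.1 : Y) * p.2 = p'.1 * p'.2 := congrArg Subtype.val e
  have h1 : ((p'.1 : Y))⁻¹ * p.1 = p'.2 * ((p.2 : Y))⁻¹ := by
    rw [eq_mul_inv_iff_mul_eq, mul_assoc, e', inv_mul_cancel_left]
  have h2 := h _ (mul_mem (inv_mem p'.1.2) p.1.2) (h1 ▸ mul_mem p'.2.2 (inv_mem p.2.2))
  refine Prod.ext (Subtype.ext (inv_mul_eq_one.mp h2).symm) (Subtype.ext ?_)
  rw [h2] at h1
  exact (mul_inv_eq_one.mp h1.symm).symm

/-- The order of the join of two commuting subgroups. -/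
theorem card_sup_mul_card_inf {H K : Subgroup Y} (hK : H ≤ Subgroup.normalizer (K : Set Y)) :
    Nat.card (H ⊔ K : Subgroup Y) * Nat.card (H ⊓ K : Subgroup Y) = Nat.card H * Nat.card K := by
  have h1 : K.relIndex (H ⊔ K) = K.relIndex H := by
    haveI : (K.subgroupOf (H ⊔ K)).Normal :=
      (Subgroup.normal_subgroupOf_iff_le_normalizer le_sup_right).mpr (sup_le hK Subgroup.le_normalizer)
    rw [← Subgroup.relIndex_subgroupOf (H := K) (le_sup_left : H ≤ H ⊔ K)]
    rw [← Subgroup.relIndex_subgroupOf (H := K) (le_refl (H ⊔ K))]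
    rw [Subgroup.subgroupOf_sup le_sup_left le_sup_right, Subgroup.relIndex_sup_right]
  have h2 := Subgroup.card_mul_index (K.subgroupOf (H ⊔ K))
  have h3 := Subgroup.card_mul_index (K.subgroupOf H)
  rw [Nat.card_congr (Subgroup.subgroupOfEquivOfLe (le_sup_right : K ≤ H ⊔ K)).toEquiv] at h2
  rw [← Subgroup.relIndex, h1] at h2
  rw [← Subgroup.relIndex] at h3
  have h4 : Nat.card (K.subgroupOf H) = Nat.card (H ⊓ K : Subgroup Y) := by
    rw [← Subgroup.inf_subgroupOf_left, Nat.card_congr (Subgroup.subgroupOfEquivOfLe inf_le_left).toEquiv]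
  rw [h4] at h3
  rw [← h2, ← h3]
  ring

/-- The join of two commuting elementary abelian subgroups is elementary abelian. -/
theorem elem_sup {H K : Subgroup Y} (hH : Cfsg.IsElementaryAbelian 2 H) (hK : Cfsg.IsElementaryAbelian 2 K)
    (hc : ∀ h ∈ H, ∀ k ∈ K, Commute h k) : Cfsg.IsElementaryAbelian 2 (H ⊔ K : Subgroup Y) := by
  have hHH : ∀ a ∈ H, ∀ b ∈ H, Commute a b := fun a ha b hb =>
    congrArg Subtype.val (hH.1.is_comm.comm ⟨a, ha⟩ ⟨b, hb⟩)
  have hKK : ∀ a ∈ K, ∀ b ∈ K, Commute a b := fun a ha b hb =>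
    congrArg Subtype.val (hK.1.is_comm.comm ⟨a, ha⟩ ⟨b, hb⟩)
  have hle : (H ⊔ K : Subgroup Y) ≤ Subgroup.centralizer ((H ⊔ K : Subgroup Y) : Set Y) := by
    have h1 : H ≤ Subgroup.centralizer ((H ⊔ K : Subgroup Y) : Set Y) :=
      Subgroup.le_centralizer_iff.mp (sup_le
        (fun a ha => Subgroup.mem_centralizer_iff.mpr fun b hb => (hHH b hb a ha).eq)
        (fun a ha => Subgroup.mem_centralizer_iff.mpr fun b hb => (hc b hb a ha).eq))
    have h2 : K ≤ Subgroup.centralizer ((H ⊔ K : Subgroup Y) : Set Y) :=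
      Subgroup.le_centralizer_iff.mp (sup_le
        (fun a ha => Subgroup.mem_centralizer_iff.mpr fun b hb => (hc a ha b hb).eq.symm)
        (fun a ha => Subgroup.mem_centralizer_iff.mpr fun b hb => (hKK b hb a ha).eq))
    exact sup_le h1 h2
  have hcomm : ∀ a ∈ H ⊔ K, ∀ b ∈ H ⊔ K, Commute a b := fun a ha b hb =>
    (Subgroup.mem_centralizer_iff.mp (hle ha) b hb).symm
  refine ⟨⟨⟨fun a b => Subtype.ext (hcomm a a.2 b b.2).eq⟩⟩, fun a ha => ?_⟩
  rw [Subgroup.sup_eq_closure] at ha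
  induction ha using Subgroup.closure_induction with
  | mem x hx => rcases hx with h | h <;> [exact hH.2 x h; exact hK.2 x h]
  | one => exact one_pow 2
  | mul x y hx hy ihx ihy =>
    rw [← Subgroup.sup_eq_closure] at hx hy
    rw [(hcomm x hx y hy).mul_pow, ihx, ihy, one_mul]
  | inv x _ ih => rw [inv_pow, ih, inv_one]

theorem omegaV_elem : Cfsg.IsElementaryAbelian 2 (omegaV Y) :=
  ⟨⟨⟨fun a b => Subtype.ext (omegaV_comm a.2 b.2).eq⟩⟩, fun a ha => (sq a).trans (mem_omegaV.mp ha).2.2⟩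

theorem card_eq_mul_relIndex {R H : Subgroup Y} (h : R ≤ H) :
    Nat.card H = Nat.card R * R.relIndex H := by
  rw [← Subgroup.card_mul_index (R.subgroupOf H), Subgroup.relIndex,
    Nat.card_congr (Subgroup.subgroupOfEquivOfLe h).toEquiv]

theorem card_inf_mul_relIndex {R H : Subgroup Y} :
    Nat.card (H ⊓ R : Subgroup Y) * R.relIndex H = Nat.card H := by
  rw [card_eq_mul_relIndex (inf_le_left : H ⊓ R ≤ H), Subgroup.inf_relIndex_left]

/-- Conjugating a Sylow subgroup onto another, on elements. -/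
theorem conj_mem_smul {g x : Y} {P Q : Sylow 2 Y} (h : g • P = Q) (hx : x ∈ (P : Subgroup Y)) :
    g * x * g⁻¹ ∈ (Q : Subgroup Y) := by
  subst h
  exact mem_smul_sylow.mpr (by simpa [mul_assoc] using hx)

theorem conj_not_mem_pCore {g x : Y} (hx : x ∉ Cfsg.pCore 2 Y) : g * x * g⁻¹ ∉ Cfsg.pCore 2 Y := by
  intro h
  exact hx (by simpa [mul_assoc] using (pCore_normal (Y := Y)).conj_mem _ h g⁻¹)

/-- A non-trivial `2`-core has a non-trivial `Ω₁Z`. -/
theorem omegaV_ne_bot_of (hp : IsPGroup 2 ↥(Cfsg.pCore 2 Y)) (hR1 : Cfsg.pCore 2 Y ≠ ⊥) :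
    omegaV Y ≠ ⊥ := by
  intro h
  haveI : Fact (Nat.Prime 2) := ⟨Nat.prime_two⟩
  haveI : Nontrivial ↥(Cfsg.pCore 2 Y) := (Subgroup.nontrivial_iff_ne_bot _).mpr hR1
  haveI := hp.center_nontrivial
  obtain ⟨z, hz⟩ := exists_prime_orderOf_dvd_card' (G := Subgroup.center ↥(Cfsg.pCore 2 Y)) 2 (by
    obtain ⟨n, hn⟩ := IsPGroup.iff_card.mp (hp.to_subgroup (Subgroup.center _))
    rcases n with _ | n
    · rw [pow_zero, Nat.card_eq_one_iff_unique] at hn
      exact absurd hn.1 (not_subsingleton _)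
    · rw [hn]; exact dvd_pow_self 2 n.succ_ne_zero)
  have hzV : ((z : ↥(Cfsg.pCore 2 Y)) : Y) ∈ omegaV Y := by
    refine mem_omegaV.mpr ⟨z.1.2, fun r hr => ?_, ?_⟩
    · exact ((Subgroup.mem_center_iff.mp z.2 ⟨r, hr⟩).symm ▸ rfl :
        ((z.1 * ⟨r, hr⟩ : ↥(Cfsg.pCore 2 Y)) : Y) = (⟨r, hr⟩ * z.1 : ↥(Cfsg.pCore 2 Y)))
    · have := pow_orderOf_eq_one z
      rw [hz, sq] at this
      exact congrArg (fun w : Subgroup.center ↥(Cfsg.pCore 2 Y) => ((w : ↥(Cfsg.pCore 2 Y)) : Y)) this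
  rw [h, Subgroup.mem_bot, OneMemClass.coe_eq_one, OneMemClass.coe_eq_one] at hzV
  rw [hzV, orderOf_one] at hz
  exact absurd hz (by norm_num)

namespace Setup

variable (hY : Setup Y)
include hY

theorem pCore_isPGroup : IsPGroup 2 ↥(Cfsg.pCore 2 Y) := by
  obtain ⟨P, Q, hne⟩ := hY.two
  exact P.isPGroup'.to_le (by rw [← hY.ti P Q hne]; exact inf_le_left)

theorem pCore_le (P : Sylow 2 Y) : Cfsg.pCore 2 Y ≤ P := by
  haveI := pCore_normal (Y := Y)
  obtain ⟨P₀, Q, hne⟩ := hY.two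
  rcases eq_or_ne P P₀ with rfl | h
  · rw [← hY.ti P Q hne]; exact inf_le_left
  · rw [← hY.ti P P₀ h]; exact inf_le_left

theorem exists_ne (P : Sylow 2 Y) : ∃ Q : Sylow 2 Y, Q ≠ P := by
  obtain ⟨P₀, Q₀, hne⟩ := hY.two
  rcases eq_or_ne P₀ P with rfl | h
  · exact ⟨Q₀, hne.symm⟩
  · exact ⟨P₀, h⟩

theorem omegaV_ne_bot : omegaV Y ≠ ⊥ := by
  have hR1 : Cfsg.pCore 2 Y ≠ ⊥ := by
    intro h0
    obtain ⟨P, Q, hne⟩ := hY.two
    have htop : (⊤ : Subgroup Y) ≤ ⊥ := fun x _ => by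
      rw [← h0]
      exact hY.cent (Subgroup.mem_centralizer_iff.mpr fun r hr => by
        rw [h0, Subgroup.coe_bot, Set.mem_singleton_iff] at hr
        rw [hr, one_mul, mul_one])
    exact hne (Sylow.ext (by rw [(eq_bot_iff.mpr (le_top.trans htop) : (P : Subgroup Y) = ⊥), (eq_bot_iff.mpr (le_top.trans htop) : (Q : Subgroup Y) = ⊥)]))
  exact omegaV_ne_bot_of hY.pCore_isPGroup hR1

/-- Centralisers of non-trivial elements of `R` are `2`-groups. -/
theorem centralizer_isPGroup {v : Y} (hv : v ∈ Cfsg.pCore 2 Y) (hv1 : v ≠ 1) :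
    IsPGroup 2 ↥(Subgroup.centralizer ({v} : Set Y)) := by
  obtain ⟨n, hn⟩ := IsPGroup.iff_orderOf.mp hY.pCore_isPGroup ⟨v, hv⟩
  rw [Subgroup.orderOf_mk] at hn
  rcases n with _ | n
  · exact absurd (orderOf_eq_one_iff.mp (by simpa using hn)) hv1
  · have ht : orderOf (v ^ (2 ^ n)) = 2 := by
      rw [orderOf_pow_of_dvd (by positivity) (by rw [hn]; exact pow_dvd_pow 2 n.le_succ), hn,
        Nat.pow_div n.le_succ (by norm_num), Nat.succ_sub (le_refl n), Nat.sub_self]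
    refine (hY.cit _ ht).to_le fun x hx => ?_
    rw [Subgroup.mem_centralizer_singleton_iff] at hx ⊢
    exact (Commute.pow_right (show Commute x v from hx) _).eq

/-- An element of odd order centralising a non-trivial element of `R` is trivial. -/
theorem eq_one_of_commute {v y : Y} (hv : v ∈ Cfsg.pCore 2 Y) (hv1 : v ≠ 1) (hc : Commute v y)
    (hy : Odd (orderOf y)) : y = 1 := by
  obtain ⟨n, hn⟩ := IsPGroup.iff_orderOf.mp (hY.centralizer_isPGroup hv hv1)
    ⟨y, Subgroup.mem_centralizer_singleton_iff.mpr hc.symm.eq⟩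
  rw [Subgroup.orderOf_mk] at hn
  rcases n with _ | n
  · exact orderOf_eq_one_iff.mp (by simpa using hn)
  · rw [hn] at hy
    exact absurd hy (by simp [Nat.even_pow, parity_simps])

/-- No non-trivial element of `R` is centralised by outside elements of two Sylow subgroups. -/
theorem disj {P Q : Sylow 2 Y} (hne : P ≠ Q) {x x' v : Y} (hx : x ∈ (P : Subgroup Y))
    (hxR : x ∉ Cfsg.pCore 2 Y) (hx' : x' ∈ (Q : Subgroup Y)) (hx'R : x' ∉ Cfsg.pCore 2 Y)
    (hv : v ∈ Cfsg.pCore 2 Y) (h1 : Commute x v) (h2 : Commute x' v) : v = 1 := by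
  by_contra hv1
  haveI : Fact (Nat.Prime 2) := ⟨Nat.prime_two⟩
  obtain ⟨S, hS⟩ := (hY.centralizer_isPGroup hv hv1).exists_le_sylow
  have e1 : S = P := by
    by_contra h
    exact hxR (hY.ti S P h ▸ ⟨hS (Subgroup.mem_centralizer_singleton_iff.mpr h1.eq), hx⟩)
  have e2 : S = Q := by
    by_contra h
    exact hx'R (hY.ti S Q h ▸ ⟨hS (Subgroup.mem_centralizer_singleton_iff.mpr h2.eq), hx'⟩)
  exact hne (e1.symm.trans e2)

/-- A `2`-element of `P` outside `R` moves every other Sylow subgroup. -/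
theorem mem_pCore_of_fix {P Q : Sylow 2 Y} (hne : P ≠ Q) {x : Y} (hx : x ∈ (P : Subgroup Y))
    (hfix : x • Q = Q) : x ∈ Cfsg.pCore 2 Y := by
  haveI : Fact (Nat.Prime 2) := ⟨Nat.prime_two⟩
  have hxN : x ∈ Subgroup.normalizer ((Q : Subgroup Y) : Set Y) := Sylow.smul_eq_iff_mem_normalizer.mp hfix
  have hz : IsPGroup 2 ↥(Subgroup.zpowers x) := P.isPGroup'.to_le (Subgroup.zpowers_le.mpr hx)
  have hxQ : x ∈ (Q : Subgroup Y) := by
    have h1 : IsPGroup 2 ↥(Subgroup.zpowers x ⊔ (Q : Subgroup Y)) :=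
      hz.to_sup_of_normal_right' Q.isPGroup' (Subgroup.zpowers_le.mpr hxN)
    have h2 := Q.is_maximal' h1 le_sup_right
    exact h2.le (Subgroup.mem_sup_left (Subgroup.mem_zpowers x))
  exact hY.ti P Q hne ▸ ⟨hx, hxQ⟩

theorem smul_eq_of_mem_pCore {x : Y} (hx : x ∈ Cfsg.pCore 2 Y) (Q : Sylow 2 Y) : x • Q = Q :=
  Sylow.smul_eq_iff_mem_normalizer.mpr (Subgroup.le_normalizer (hY.pCore_le Q hx))

/-- The orbit of another Sylow subgroup under `P`. -/
theorem card_orbit {P Q : Sylow 2 Y} (hne : P ≠ Q) :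
    Nat.card (MulAction.orbit ↥(P : Subgroup Y) Q) = (Cfsg.pCore 2 Y).relIndex P := by
  haveI : Fact (Nat.Prime 2) := ⟨Nat.prime_two⟩
  rw [Nat.card_congr (MulAction.orbitEquivQuotientStabilizer ↥(P : Subgroup Y) Q),
    ← Subgroup.index_eq_card]
  show _ = ((Cfsg.pCore 2 Y).subgroupOf P).index
  congr 1
  ext x
  rw [MulAction.mem_stabilizer_iff, Subgroup.mem_subgroupOf, Subgroup.smul_def]
  exact ⟨fun h => hY.mem_pCore_of_fix hne x.2 h, fun h => hY.smul_eq_of_mem_pCore h Q⟩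

/-- The number of Sylow subgroups is `≡ 1` modulo `|P : R|`. -/
theorem card_sylow_mod (P : Sylow 2 Y) :
    ∃ k : ℕ, 1 ≤ k ∧ Nat.card (Sylow 2 Y) = 1 + k * (Cfsg.pCore 2 Y).relIndex P := by
  classical
  haveI : Fact (Nat.Prime 2) := ⟨Nat.prime_two⟩
  let _ : Fintype (Sylow 2 Y) := Fintype.ofFinite _
  let _ : Fintype (MulAction.orbitRel.Quotient ↥(P : Subgroup Y) (Sylow 2 Y)) := Fintype.ofFinite _
  have hfix : ∀ x : ↥(P : Subgroup Y), x • P = P := fun x => by
    rw [Subgroup.smul_def]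
    exact Sylow.smul_eq_iff_mem_normalizer.mpr (Subgroup.le_normalizer x.2)
  have horb : MulAction.orbit ↥(P : Subgroup Y) P = {P} := by
    ext Q
    simp only [MulAction.mem_orbit_iff, Set.mem_singleton_iff, hfix, exists_const_iff]
    exact ⟨fun h => h.2.symm, fun h => ⟨⟨1⟩, h.symm⟩⟩
  have hsum := Nat.card_congr (MulAction.selfEquivSigmaOrbits ↥(P : Subgroup Y) (Sylow 2 Y))
  rw [Nat.card_sigma, ← Finset.add_sum_erase _ _
    (Finset.mem_univ (Quotient.mk'' P : MulAction.orbitRel.Quotient ↥(P : Subgroup Y) (Sylow 2 Y)))]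
    at hsum
  have h1 : Nat.card (MulAction.orbit ↥(P : Subgroup Y) (Quotient.out (Quotient.mk'' P :
      MulAction.orbitRel.Quotient ↥(P : Subgroup Y) (Sylow 2 Y)))) = 1 := by
    rw [MulAction.orbit_eq_iff.mpr (Quotient.mk_out' (s₁ := MulAction.orbitRel _ _) P), horb]
    exact Nat.card_unique
  rw [h1, Finset.sum_congr rfl (g := fun _ => (Cfsg.pCore 2 Y).relIndex P) fun ω hω => by
    refine hY.card_orbit fun h => (Finset.mem_erase.mp hω).1 ?_
    exact (Quotient.out_eq' ω).symm.trans (congrArg _ h.symm), Finset.sum_const, smul_eq_mul] at hsum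
  refine ⟨_, ?_, hsum⟩
  by_contra hk
  obtain ⟨Q, hQ⟩ := hY.exists_ne P
  rw [Nat.lt_one_iff.mp (not_le.mp hk), zero_mul, add_zero, Nat.card_eq_one_iff_unique] at hsum
  exact hQ (hsum.1.elim Q P)

/-- The number of Sylow subgroups divides `|V| - 1`. -/
theorem card_sylow_dvd : Nat.card (Sylow 2 Y) ∣ Nat.card ↥(omegaV Y) - 1 := by
  classical
  haveI : Fact (Nat.Prime 2) := ⟨Nat.prime_two⟩
  let _ : Fintype Y := Fintype.ofFinite _
  obtain ⟨P, -⟩ := hY.two
  have hN2 : (Nat.card (Sylow 2 Y)).Coprime 2 := by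
    rw [Nat.coprime_two_right, Nat.odd_iff]
    exact card_sylow_modEq_one 2 Y
  set s : Finset Y := Finset.univ.filter fun x => x ∈ omegaV Y ∧ x ≠ 1 with hs
  have hcard : s.card = Nat.card ↥(omegaV Y) - 1 := by
    rw [show s = (Finset.univ.filter fun x => x ∈ omegaV Y).erase 1 by
      ext x; simp [hs, and_comm], Finset.card_erase_of_mem (by simp [one_mem]),
      Nat.card_eq_fintype_card, Fintype.card_subtype]
  rw [← hcard, Finset.card_eq_sum_card_fiberwise (f := ConjClasses.mk)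
    (t := s.image ConjClasses.mk) fun x hx => Finset.mem_image_of_mem _ hx]
  refine Finset.dvd_sum fun c hc => ?_
  obtain ⟨v, hv, rfl⟩ := Finset.mem_image.mp hc
  obtain ⟨hvV, hv1⟩ := (Finset.mem_filter.mp hv).2
  have hfib : s.filter (fun x => ConjClasses.mk x = ConjClasses.mk v) =
      Finset.univ.filter fun x => x ∈ MulAction.orbit (ConjAct Y) v := by
    ext x
    simp only [hs, Finset.mem_filter, Finset.mem_univ, true_and, ConjAct.mem_orbit_conjAct,
      ConjClasses.mk_eq_mk_iff_isConj]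
    refine ⟨fun h => h.2, fun h => ⟨?_, h⟩⟩
    obtain ⟨g, hg⟩ := isConj_iff.mp h.symm
    rw [← hg]
    exact ⟨omegaV_conj hvV, fun e => hv1 (by simpa using e)⟩
  rw [hfib, ← Fintype.card_subtype, ← Nat.card_eq_fintype_card]
  have h2 : Nat.card (MulAction.orbit (ConjAct Y) v) *
      Nat.card ↥(Subgroup.centralizer ({v} : Set Y)) = Nat.card Y := by
    rw [← Subgroup.index_mul_card (Subgroup.centralizer ({v} : Set Y))]
    congr 1
    rw [Nat.card_congr (MulAction.orbitEquivQuotientStabilizer (ConjAct Y) v),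
      ← Subgroup.index_eq_card, ConjAct.stabilizer_eq_centralizer]
    rfl
  have h3 : Nat.card (Sylow 2 Y) ∣ Nat.card Y := by
    rw [Sylow.card_eq_index_normalizer P]
    exact Subgroup.index_dvd_card _
  obtain ⟨m, hm⟩ := IsPGroup.iff_card.mp (hY.centralizer_isPGroup (omegaV_le hvV) hv1)
  rw [← h2, hm] at h3
  exact (Nat.Coprime.pow_right m hN2).dvd_of_dvd_mul_right h3

section Fixed

variable (P : Sylow 2 Y) {A : Subgroup Y} (hAP : A ≤ P) (hAe : Cfsg.IsElementaryAbelian 2 A)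
  (hmax : ∀ E : Subgroup Y, E ≤ P → Cfsg.IsElementaryAbelian 2 E → Nat.card E ≤ Nat.card A)
  (hAR : ¬ A ≤ Cfsg.pCore 2 Y)

include hAP hAe hmax hAR

/-- The counting lemma. -/
theorem count : ∃ q : ℕ, 2 ≤ q ∧ Nat.card ↥(omegaV Y) = q * q ∧
    (Cfsg.pCore 2 Y).relIndex P = q ∧ (Cfsg.pCore 2 Y).relIndex A = q ∧
    Nat.card ↥(omegaV Y ⊓ A) = q ∧ Nat.card (Sylow 2 Y) = q + 1 ∧
    A ⊔ Cfsg.pCore 2 Y = P := by
  haveI : Fact (Nat.Prime 2) := ⟨Nat.prime_two⟩
  have hcomm : ∀ a ∈ A, ∀ b ∈ A, Commute a b := fun a ha b hb =>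
    congrArg Subtype.val (hAe.1.is_comm.comm ⟨a, ha⟩ ⟨b, hb⟩)
  -- `|V| ≤ a |Z|`
  have hEe := elem_sup (H := A ⊓ Cfsg.pCore 2 Y) (K := omegaV Y)
    ⟨⟨⟨fun a b => Subtype.ext (hcomm a a.2.1 b b.2.1).eq⟩⟩, fun a ha => hAe.2 a ha.1⟩ omegaV_elem
    fun h hh k hk => ((mem_omegaV.mp hk).2.1 h hh.2).symm
  have hEle := hmax _ (sup_le (inf_le_left.trans hAP) (omegaV_le.trans (hY.pCore_le P))) hEe
  have hEcard := card_sup_mul_card_inf (H := A ⊓ Cfsg.pCore 2 Y) (K := omegaV Y)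
    fun x _ => by
      haveI := omegaV_normal (Y := Y)
      rw [Subgroup.normalizer_eq_top]
      exact Subgroup.mem_top x
  have hinf : (A ⊓ Cfsg.pCore 2 Y) ⊓ omegaV Y = omegaV Y ⊓ A :=
    le_antisymm (fun x hx => ⟨hx.2, hx.1.1⟩) fun x hx => ⟨⟨hx.2, omegaV_le hx.1⟩, hx.1⟩
  rw [hinf] at hEcard
  have hA := card_inf_mul_relIndex (R := Cfsg.pCore 2 Y) (H := A)
  have hPcard := card_eq_mul_relIndex (hY.pCore_le P)
  set a := (Cfsg.pCore 2 Y).relIndex A with ha
  set t := (Cfsg.pCore 2 Y).relIndex (P : Subgroup Y) with ht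
  set z := Nat.card ↥(omegaV Y ⊓ A) with hz
  set v := Nat.card ↥(omegaV Y) with hv
  have hB : 0 < Nat.card (A ⊓ Cfsg.pCore 2 Y : Subgroup Y) := Nat.card_pos
  have hva : v ≤ a * z := by
    refine Nat.le_of_mul_le_mul_left ?_ hB
    calc _ = _ := hEcard.symm
      _ ≤ Nat.card A * z := Nat.mul_le_mul_right z hEle
      _ = _ := by rw [← hA]; ring
  have hat : a ≤ t := Subgroup.relIndex_le_of_le_right hAP Subgroup.index_ne_zero_of_finite
  -- `|Z|² ≤ |V|`
  obtain ⟨τ, hτA, hτR⟩ := SetLike.not_le_iff_exists.mp hAR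
  obtain ⟨Q, hQP⟩ := hY.exists_ne P
  obtain ⟨g, hg⟩ := MulAction.exists_smul_eq Y P Q
  have hzv : z * z ≤ v := by
    have h := card_mul_le (H := omegaV Y ⊓ A) (K := (omegaV Y ⊓ A).map (MulAut.conj g).toMonoidHom)
      (L := omegaV Y) inf_le_left (by
        rintro x ⟨w, hw, rfl⟩
        exact omegaV_conj hw.1) (by
        rintro x hx ⟨w, hw, hwx⟩
        replace hwx : g * w * g⁻¹ = x := hwx
        refine hY.disj hQP.symm (hAP hτA) hτR (conj_mem_smul hg (hAP hτA)) (conj_not_mem_pCore hτR)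
          (omegaV_le hx.1) (hcomm τ hτA x hx.2) ?_
        rw [← hwx]
        exact (hcomm τ hτA w hw.2).map (MulAut.conj g).toMonoidHom)
    rwa [Subgroup.card_map_of_injective (MulAut.conj g).injective] at h
  have hza : z ≤ a := Nat.le_of_mul_le_mul_left (by linarith) (Nat.card_pos : 0 < z)
  have ha2 : 2 ≤ a := by
    have h0 : a ≠ 0 := Subgroup.index_ne_zero_of_finite
    have h1 : a ≠ 1 := fun h => hAR (Subgroup.relIndex_eq_one.mp h)
    omega
  -- `t` and `v` are powers of two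
  obtain ⟨p, hp⟩ := IsPGroup.iff_card.mp P.isPGroup'
  obtain ⟨m, -, hm⟩ := (Nat.dvd_prime_pow Nat.prime_two).mp
    (show t ∣ 2 ^ p from hp ▸ hPcard ▸ dvd_mul_left t _)
  obtain ⟨n, hn⟩ := IsPGroup.iff_card.mp (hY.pCore_isPGroup.to_le omegaV_le)
  rw [← hv] at hn
  obtain ⟨k, hk, hN⟩ := hY.card_sylow_mod P
  rw [← ht] at hN
  obtain ⟨s, hs⟩ := hY.card_sylow_dvd
  rw [← hv] at hs
  have hv2 : 2 ≤ v := by
    haveI : Nontrivial ↥(omegaV Y) := (Subgroup.nontrivial_iff_ne_bot _).mpr hY.omegaV_ne_bot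
    exact Finite.one_lt_card
  have hvN : v = Nat.card (Sylow 2 Y) * s + 1 := by omega
  have hs1 : 1 ≤ s := by rcases Nat.eq_zero_or_pos s with rfl | h <;> omega
  have htN : t + 1 ≤ Nat.card (Sylow 2 Y) := by
    have := Nat.le_mul_of_pos_left t hk
    omega
  have hmn : m ≤ n := by
    by_contra h
    have h1 : v ≤ t := hn ▸ hm ▸ Nat.pow_le_pow_right (by norm_num) (le_of_not_ge h)
    have h2 : Nat.card (Sylow 2 Y) ≤ Nat.card (Sylow 2 Y) * s := Nat.le_mul_of_pos_right _ hs1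
    omega
  have htv : t ∣ v := hn ▸ hm ▸ pow_dvd_pow 2 hmn
  have hts : t ∣ s + 1 := by
    have h1 : v = t * (k * s) + (s + 1) := by rw [hvN, hN]; ring
    exact (Nat.dvd_add_right (dvd_mul_right t _)).mp (h1 ▸ htv)
  have hs2 : t ≤ s + 1 := Nat.le_of_dvd s.succ_pos hts
  have hvt : v ≤ t * t := hva.trans (Nat.mul_le_mul hat (hza.trans hat))
  obtain ⟨r, hr⟩ : ∃ r, t = r + 1 := ⟨t - 1, by omega⟩
  have hveq : v = t * t := by
    refine le_antisymm hvt ?_
    calc t * t = (r + 2) * r + 1 := by rw [hr]; ring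
      _ ≤ Nat.card (Sylow 2 Y) * s + 1 := Nat.add_le_add_right (Nat.mul_le_mul (by omega) (by omega)) 1
      _ = v := hvN.symm
  have hNeq : Nat.card (Sylow 2 Y) = t + 1 := by
    refine le_antisymm (not_lt.mp fun hlt => ?_) htN
    have h1 : (r + 3) * r ≤ Nat.card (Sylow 2 Y) * s := Nat.mul_le_mul (by omega) (by omega)
    have h2 : t * t = (r + 3) * r + 1 - r := by
      rw [hr, show (r + 3) * r + 1 = (r + 1) * (r + 1) + r by ring, Nat.add_sub_cancel]
    omega
  have haeq : a = t := by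
    refine le_antisymm hat (Nat.mul_self_le_mul_self_iff.mp ?_)
    calc t * t = v := hveq.symm
      _ ≤ a * z := hva
      _ ≤ a * a := Nat.mul_le_mul_left a hza
  have hzeq : z = t := by
    refine le_antisymm (haeq ▸ hza) (Nat.le_of_mul_le_mul_left ?_ (show 0 < t by omega))
    calc t * t = v := hveq.symm
      _ ≤ a * z := hva
      _ = t * z := by rw [haeq]
  refine ⟨t, by omega, hveq, rfl, haeq, hzeq, hNeq, ?_⟩
  refine Subgroup.eq_of_le_of_card_ge (sup_le hAP (hY.pCore_le P)) ?_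
  have h := card_sup_mul_card_inf (H := A) (K := Cfsg.pCore 2 Y) fun x _ => by
    haveI := pCore_normal (Y := Y)
    rw [Subgroup.normalizer_eq_top]
    exact Subgroup.mem_top x
  refine Nat.le_of_mul_le_mul_right ?_ hB
  rw [h, ← hA, haeq, hPcard]
  exact le_of_eq (by ring)

end Fixed

end Setup

end Cfsg.Agent.Lib.CIT.Offender
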