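import Cfsg.Agent.Lib.CIT.FlagUpgrade
import Cfsg.Agent.Lib.CIT.OffenderCount

/-!
Two flags `(V, A)` and `(A, V)` at the same Sylow 2-subgroup: `q ≤ 4`, and `q = 4` gives the
configuration of order 64.  Written by helper24.
-/

set_option autoImplicit false

namespace Cfsg.Agent.Lib.CIT

open Cfsg.Agent.Lib.SECount

/-- An abelian group `L` acting regularly on the nontrivial elements of a group `M` of exponent 2,
such that the action twisted by `k ↦ k⁻²` is equivalent to it additively, has order at most 3. -/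
theorem card_le_three_of_twist {M : Type*} [CommGroup M] {L : Type*} [CommGroup L] [Finite L]
    (hsq : ∀ x : M, x * x = 1) (φ : L → M →* M) (hφ : ∀ k l x, φ (k * l) x = φ k (φ l x))
    (hfree : ∀ k x, x ≠ 1 → φ k x = x → k = 1)
    (htrans : ∀ x y : M, x ≠ 1 → y ≠ 1 → ∃ k, φ k x = y)
    (g : M →* M) (hg : ∀ k x, g (φ k x) = φ ((k * k)⁻¹) (g x)) {c₀ : M} (hc₀ : c₀ ≠ 1)
    (hd : g c₀ ≠ 1) : Nat.card L ≤ 3 := by
  classical
  have hcan : ∀ a b : M, a * (a * b) = b := fun a b => by rw [← mul_assoc, hsq, one_mul]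
  have hne : ∀ a b : M, a ≠ b → a * b ≠ 1 := fun a b hab e =>
    hab ((eq_inv_of_mul_eq_one_left e).trans (inv_eq_of_mul_eq_one_right (hsq b)))
  have hswap : ∀ k l x, φ k (φ l x) = φ l (φ k x) := fun k l x => by rw [← hφ, ← hφ, mul_comm]
  have hφ1 : ∀ x, φ 1 x = x := by
    intro x
    by_cases hx : x = 1
    · rw [hx, map_one]
    obtain ⟨k, hk⟩ := htrans x x hx hx
    obtain rfl := hfree k x hx hk
    exact hk
  have hinj : ∀ k x, φ k x = 1 → x = 1 := fun k x e => by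
    have := hφ k⁻¹ k x
    rwa [inv_mul_cancel, hφ1, e, map_one] at this
  -- the relation
  have hrel : ∀ k : L, k ≠ 1 → ∀ c, c * φ k c * φ (k * k) c = 1 := by
    intro k hk c
    obtain ⟨m, hm⟩ := htrans c₀ (c₀ * φ k c₀) hc₀ (hne _ _ fun e => hk (hfree k c₀ hc₀ e.symm))
    have hm' : ∀ c, φ m c = c * φ k c := by
      intro c
      by_cases hc : c = 1
      · rw [hc, map_one, map_one, mul_one]
      obtain ⟨j, rfl⟩ := htrans c₀ c hc₀ hc
      rw [hswap, hm, map_mul, hswap j k]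
    have hd' : φ ((m * m)⁻¹) (g c₀) = g c₀ * φ ((k * k)⁻¹) (g c₀) := by
      rw [← hg, ← hg, hm', map_mul]
    have hn : ∀ c, φ ((m * m)⁻¹) c = c * φ ((k * k)⁻¹) c := by
      intro c
      by_cases hc : c = 1
      · rw [hc, map_one, map_one, mul_one]
      obtain ⟨j, rfl⟩ := htrans (g c₀) c hd hc
      rw [hswap, hd', map_mul, hswap j]
    have hmm : ∀ c, φ (m * m) c = c * φ (k * k) c := by
      intro c
      rw [hφ, hm', hm' c, map_mul, ← hφ]
      calc c * φ k c * (φ k c * φ (k * k) c) = c * φ (k * k) c * (φ k c * φ k c) := by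
            simp only [mul_assoc, mul_comm, mul_left_comm]
        _ = _ := by rw [hsq, mul_one]
    have h2 : ∀ c, c = φ (k * k) c * φ ((k * k)⁻¹) c := by
      intro c
      have h1 : φ (m * m) (φ ((m * m)⁻¹) c) = c := by rw [← hφ, mul_inv_cancel, hφ1]
      rw [hn, hmm, map_mul, ← hφ, mul_inv_cancel, hφ1] at h1
      calc c = c * φ ((k * k)⁻¹) c * (φ (k * k) c * c) := h1.symm
        _ = φ (k * k) c * φ ((k * k)⁻¹) c * (c * c) := by
            simp only [mul_assoc, mul_comm, mul_left_comm]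
        _ = _ := by rw [hsq, mul_one]
    have h4 : ∀ c, c * φ (k * k) c * φ (k * k * (k * k)) c = 1 := by
      intro c
      have h1 := congrArg (φ (k * k)) (h2 c)
      rw [map_mul, ← hφ, ← hφ, mul_inv_cancel, hφ1] at h1
      rw [h1]
      calc c * (φ (k * k * (k * k)) c * c) * φ (k * k * (k * k)) c
          = (φ (k * k * (k * k)) c * φ (k * k * (k * k)) c) * (c * c) := by
            simp only [mul_assoc, mul_comm, mul_left_comm]
        _ = 1 := by rw [hsq, hsq, mul_one]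
    have hop : c₀ * φ k c₀ * φ (k * k) c₀ = 1 := by
      by_contra hne1
      obtain ⟨j, hj⟩ := htrans c₀ _ hc₀ hne1
      have hj' : ∀ c, φ j c = c * φ k c * φ (k * k) c := by
        intro c
        by_cases hc : c = 1
        · simp [hc]
        obtain ⟨i, rfl⟩ := htrans c₀ c hc₀ hc
        rw [hswap, hj, map_mul, map_mul, hswap i k, hswap i (k * k)]
      refine hc₀ (hinj j _ (hinj j _ ?_))
      rw [hj', hj' c₀, map_mul, map_mul, map_mul, map_mul, ← hφ, ← hφ, ← hφ, ← hφ, ← h4 c₀,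
        show k * k * k = k * (k * k) from mul_comm _ _]
      calc c₀ * φ k c₀ * φ (k * k) c₀ * (φ k c₀ * φ (k * k) c₀ * φ (k * (k * k)) c₀) *
            (φ (k * k) c₀ * φ (k * (k * k)) c₀ * φ (k * k * (k * k)) c₀)
          = (φ k c₀ * φ k c₀) * (φ (k * k) c₀ * φ (k * k) c₀) *
              (φ (k * (k * k)) c₀ * φ (k * (k * k)) c₀) *
              (c₀ * φ (k * k) c₀ * φ (k * k * (k * k)) c₀) := by
            simp only [mul_assoc, mul_comm, mul_left_comm]
        _ = _ := by simp only [hsq, one_mul]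
    by_cases hc : c = 1
    · simp [hc]
    obtain ⟨i, rfl⟩ := htrans c₀ c hc₀ hc
    rw [hswap k i, hswap (k * k) i, ← map_mul, ← map_mul, hop, map_one]
  have hrel' : ∀ k : L, k ≠ 1 → ∀ c, φ k c * φ (k * k) c = c := fun k hk c => by
    have h1 := hrel k hk c
    rw [mul_assoc] at h1
    exact (inv_eq_of_mul_eq_one_right h1).symm.trans (inv_eq_of_mul_eq_one_right (hsq c))
  by_cases hL : ∀ k : L, k = 1
  · have : Subsingleton L := ⟨fun a b => (hL a).trans (hL b).symm⟩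
    rw [Nat.card_unique]
    norm_num
  obtain ⟨k₁, hk₁⟩ := not_forall.1 hL
  have hother : ∀ k : L, k ≠ 1 → k ≠ k₁ → φ k c₀ = c₀ * φ k₁ c₀ := by
    intro k hk hkk
    have he : φ k c₀ * φ k₁ c₀ ≠ 1 := hne _ _ fun e => hkk (by
      have := hfree (k₁⁻¹ * k) c₀ hc₀ (by rw [hφ, e, ← hφ, inv_mul_cancel, hφ1])
      exact (inv_mul_eq_one.1 this).symm)
    obtain ⟨j, hj⟩ := htrans c₀ _ hc₀ he
    have hj' : ∀ c, φ j c = φ k c * φ k₁ c := by
      intro c
      by_cases hc : c = 1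
      · simp [hc]
      obtain ⟨i, rfl⟩ := htrans c₀ c hc₀ hc
      rw [hswap, hj, map_mul, hswap i k, hswap i k₁]
    have h0 : φ j (c₀ * (φ k c₀ * φ k₁ c₀)) = 1 := by
      rw [hj', map_mul, map_mul, map_mul, map_mul, ← hφ, ← hφ, ← hφ, ← hφ, mul_comm k₁ k]
      calc φ k c₀ * (φ (k * k) c₀ * φ (k * k₁) c₀) * (φ k₁ c₀ * (φ (k * k₁) c₀ * φ (k₁ * k₁) c₀))
          = (φ k c₀ * φ (k * k) c₀) * (φ k₁ c₀ * φ (k₁ * k₁) c₀) *
              (φ (k * k₁) c₀ * φ (k * k₁) c₀) := by simp only [mul_assoc, mul_comm, mul_left_comm]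
        _ = 1 := by rw [hrel' k hk, hrel' k₁ hk₁, hsq, hsq, one_mul]
    have h2 := hinj j _ h0
    calc φ k c₀ = φ k₁ c₀ * (φ k₁ c₀ * φ k c₀) := (hcan _ _).symm
      _ = φ k₁ c₀ * c₀ := by
          rw [mul_comm (φ k₁ c₀) (φ k c₀)]
          exact congrArg _ ((eq_inv_of_mul_eq_one_right h2).trans (inv_eq_of_mul_eq_one_right (hsq c₀)))
      _ = _ := mul_comm _ _
  have huniq : ∀ k l : L, k ≠ 1 → k ≠ k₁ → l ≠ 1 → l ≠ k₁ → k = l := by
    intro k l hk hkk hl hlk
    have := hfree (l⁻¹ * k) c₀ hc₀ (by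
      rw [hφ, hother k hk hkk, ← hother l hl hlk, ← hφ, inv_mul_cancel, hφ1])
    exact (inv_mul_eq_one.1 this).symm
  let f : L → Fin 3 := fun k => if k = 1 then 0 else if k = k₁ then 1 else 2
  have hf : Function.Injective f := by
    intro a b e
    simp only [f] at e
    split_ifs at e <;> first | subst_vars; rfl | exact absurd e (by decide) | (apply huniq <;> assumption)
  simpa using Nat.card_le_card_of_injective f hf

variable {G : Type*} [Group G] [Finite G] {V A K K' : Subgroup G} {w w' : G} {q q' : ℕ}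

namespace FlagData

variable {Y P : Subgroup G}

/-- The commutator map on `V ⊓ A` given by an element of `A ∖ V` is induced by the torus. -/
theorem exists_torus_comm (hCIT : IsCIT G) (h : FlagData Y P V A K w q) {τ : G} (hτ : τ ∈ A)
    (hτV : τ ∉ V) :
    ∃ k ∈ K, ∀ c ∈ V ⊓ A, (w * c * w⁻¹) * τ * (w * c * w⁻¹)⁻¹ * τ⁻¹ = k * c * k⁻¹ := by
  have hwY := h.weyl_mem
  have hτi : τ⁻¹ = τ := inv_eq_of_sq h.sq_right hτ
  have hgY : w * τ * w ∈ Y := Y.mul_mem (Y.mul_mem hwY (h.right_le_top hτ)) hwY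
  have hg : w * τ * w ∉ Subgroup.normalizer (P : Set G) := by
    intro hn
    have hmem : w⁻¹ * τ * w ∈ P := by
      -- `τ` normalizes the conjugate of `P` by `w`
      have hn2 : w⁻¹ * τ * w ∈ Subgroup.normalizer (P : Set G) := by
        have e : w⁻¹ * τ * w = (w * w)⁻¹ * (w * τ * w) := by group
        rw [e]
        exact mul_mem (inv_mem (Subgroup.le_normalizer (h.left_le h.weyl_sq))) hn
      have hY : w⁻¹ * τ * w ∈ Y := Y.mul_mem (Y.mul_mem (Y.inv_mem hwY) (h.right_le_top hτ)) hwY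
      have hsq : (w⁻¹ * τ * w) * (w⁻¹ * τ * w) = 1 := by
        rw [show (w⁻¹ * τ * w) * (w⁻¹ * τ * w) = w⁻¹ * (τ * τ) * w by group, h.sq_right τ hτ]
        group
      exact le_of_max h.isPGroup h.le_top h.maximal
        (isPGroup_two_of_sq fun x hx => by
          rcases two_mul_of_sq hn2 hsq x hx with rfl | rfl
          · exact one_mul 1
          · exact hsq)
        (Subgroup.zpowers_le.2 hY) (Subgroup.zpowers_le.2 hn2) (Subgroup.mem_zpowers _)
    exact hτV (h.mem_left_of_conj hCIT (h.right_le hτ) hmem)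
  obtain ⟨t, ht, ht'⟩ := h.move _ hgY hg
  have hh : (t * w)⁻¹ * (w * τ * w) ∈ P ⊔ K :=
    h.normalizer_eq ▸ ⟨Y.mul_mem (Y.inv_mem (Y.mul_mem (h.right_le_top ht) hwY)) hgY, ht'⟩
  rw [← SetLike.mem_coe, Subgroup.coe_mul_of_right_le_normalizer_left P K h.torus_nz] at hh
  obtain ⟨p, hp, k, hk, e⟩ := hh
  have eg : w * τ * w = t * w * (p * k) := by rw [show p * k = _ from e]; group
  refine ⟨k, hk, fun c hc => ?_⟩
  set v := w * c * w⁻¹ with hv
  have hvV : v ∈ V := h.conj_inf_mem_left hc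
  set ζ := v * τ * v⁻¹ * τ⁻¹ with hζ
  have hζZ : ζ ∈ V ⊓ A := h.comm_mem hvV hτ
  have hc' := h.torus_conj_inf hk hc
  set c' := k * c * k⁻¹ with hc'def
  have hvτ : τ * v * τ⁻¹ = ζ * v := by
    have hζi : ζ⁻¹ = ζ := inv_eq_of_mul_eq_one_right (h.sq_inf hζZ)
    rw [← hζi, hζ]; group
  have hl : (w * τ * w) * c * (w * τ * w)⁻¹ = (w * ζ * w⁻¹) * c := by
    calc (w * τ * w) * c * (w * τ * w)⁻¹ = w * (τ * v * τ⁻¹) * w⁻¹ := by rw [hv]; group
      _ = (w * ζ * w⁻¹) * ((w * w) * c * (w * w)⁻¹) := by rw [hvτ, hv]; group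
      _ = _ := by rw [← h.inf_comm_left hc h.weyl_sq, mul_inv_cancel_right]
  have hr : (w * τ * w) * c * (w * τ * w)⁻¹ = (t * (w * c' * w⁻¹) * t⁻¹ * (w * c' * w⁻¹)⁻¹) * (w * c' * w⁻¹) := by
    calc (w * τ * w) * c * (w * τ * w)⁻¹ = (t * w) * (p * c' * p⁻¹) * (t * w)⁻¹ := by
          rw [eg, hc'def]; group
      _ = (t * w) * c' * (t * w)⁻¹ := by rw [← h.inf_comm_top hc' hp, mul_inv_cancel_right]
      _ = _ := by group
  have hξ : t * (w * c' * w⁻¹) * t⁻¹ * (w * c' * w⁻¹)⁻¹ ∈ V ⊓ A := by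
    have h1 := h.comm_mem (h.conj_inf_mem_left hc') ht
    rw [show t * (w * c' * w⁻¹) * t⁻¹ * (w * c' * w⁻¹)⁻¹ =
      ((w * c' * w⁻¹) * t * (w * c' * w⁻¹)⁻¹ * t⁻¹)⁻¹ by group]
    exact inv_mem h1
  rw [hl] at hr
  set ξ := t * (w * c' * w⁻¹) * t⁻¹ * (w * c' * w⁻¹)⁻¹
  have hkey : w * (ζ * c'⁻¹) * w⁻¹ = ξ * c⁻¹ := by
    have hξv : ξ * (w * c' * w⁻¹) = (w * c' * w⁻¹) * ξ := h.inf_comm_left hξ (h.conj_inf_mem_left hc')
    calc w * (ζ * c'⁻¹) * w⁻¹ = (w * ζ * w⁻¹) * c * c⁻¹ * (w * c' * w⁻¹)⁻¹ := by group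
      _ = ξ * ((w * c' * w⁻¹) * c⁻¹ * (w * c' * w⁻¹)⁻¹) := by rw [hr]; group
      _ = ξ * c⁻¹ := by
          rw [← h.inf_comm_left (inv_mem hc) (h.conj_inf_mem_left hc'), mul_inv_cancel_right]
  have h1 : w * (ζ * c'⁻¹) * w⁻¹ = 1 := h.inf_conj_eq_one hCIT (hkey ▸ mul_mem hξ (inv_mem hc))
    (by
      rw [show w⁻¹ * (w * (ζ * c'⁻¹) * w⁻¹) * w = ζ * c'⁻¹ by group]
      exact mul_mem hζZ (inv_mem hc'))
  exact mul_inv_eq_one.1 (conj_eq_one_iff.1 h1)

end FlagData

/-- With flags `(V, A)` and `(A, V)` at the same 2-group, `q ≤ 4`. -/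
theorem FlagData.le_four (hCIT : IsCIT G) {S : Subgroup G}
    (h : FlagData (Subgroup.normalizer (V : Set G)) S V A K w q)
    (h' : FlagData (Subgroup.normalizer (A : Set G)) S A V K' w' q') : q ≤ 4 := by
  obtain ⟨c₀, hc₀, hc₀1⟩ := h.exists_ne_one
  have hZ : ∀ {c : G}, c ∈ V ⊓ A → c ∈ A ⊓ V := fun hc => ⟨hc.2, hc.1⟩
  let Z : Subgroup G := V ⊓ A
  letI : CommGroup Z := { (inferInstance : Group Z) with
    mul_comm := fun a b => Subtype.ext (h.inf_comm_left a.2 b.2.1) }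
  letI : CommGroup K := { (inferInstance : Group K) with
    mul_comm := fun a b => Subtype.ext (h.torus_comm _ a.2 _ b.2) }
  let φ : K → Z →* Z := fun k => MonoidHom.mk'
    (fun c => ⟨(k : G) * c * (k : G)⁻¹, h.torus_conj_inf k.2 c.2⟩)
    fun a b => Subtype.ext (by
      show (k : G) * ((a : G) * b) * (k : G)⁻¹ = (k : G) * a * (k : G)⁻¹ * ((k : G) * b * (k : G)⁻¹)
      group)
  have hav : ∀ c : Z, w' * (c : G) * w'⁻¹ ∈ A := fun c => h'.conj_inf_mem_left (hZ c.2)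
  let v₀ := w * c₀ * w⁻¹
  have hv₀ : v₀ ∈ V := h.conj_inf_mem_left hc₀
  let g : Z →* Z := MonoidHom.mk'
    (fun c => ⟨v₀ * (w' * (c : G) * w'⁻¹) * v₀⁻¹ * (w' * (c : G) * w'⁻¹)⁻¹, h.comm_mem hv₀ (hav c)⟩)
    fun a b => Subtype.ext (by
      show v₀ * (w' * ((a : G) * b) * w'⁻¹) * v₀⁻¹ * (w' * ((a : G) * b) * w'⁻¹)⁻¹ =
        v₀ * (w' * (a : G) * w'⁻¹) * v₀⁻¹ * (w' * (a : G) * w'⁻¹)⁻¹ *
          (v₀ * (w' * (b : G) * w'⁻¹) * v₀⁻¹ * (w' * (b : G) * w'⁻¹)⁻¹)
      have hc := h.inf_comm_top (h.comm_mem hv₀ (hav b)) (h.right_le (A.inv_mem (hav a)))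
      calc v₀ * (w' * ((a : G) * b) * w'⁻¹) * v₀⁻¹ * (w' * ((a : G) * b) * w'⁻¹)⁻¹
          = v₀ * (w' * (a : G) * w'⁻¹) * v₀⁻¹ *
            ((v₀ * (w' * (b : G) * w'⁻¹) * v₀⁻¹ * (w' * (b : G) * w'⁻¹)⁻¹) *
              (w' * (a : G) * w'⁻¹)⁻¹) := by group
        _ = _ := by rw [hc]; group)
  have hj : ∀ c : Z, c ≠ 1 → ∃ j ∈ K, ∀ d ∈ V ⊓ A,
      (w * d * w⁻¹) * (w' * (c : G) * w'⁻¹) * (w * d * w⁻¹)⁻¹ * (w' * (c : G) * w'⁻¹)⁻¹ =
        j * d * j⁻¹ := by
    intro c hc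
    refine h.exists_torus_comm hCIT (hav c) fun hV => hc (Subtype.ext ?_)
    exact conj_eq_one_iff.1 (h'.inf_conj_eq_one hCIT (z := w' * (c : G) * w'⁻¹) ⟨hav c, hV⟩ (by
      rw [show w'⁻¹ * (w' * (c : G) * w'⁻¹) * w' = c by group]
      exact hZ c.2))
  have hd : g ⟨c₀, hc₀⟩ ≠ 1 := by
    obtain ⟨j, hj, hjd⟩ := hj ⟨c₀, hc₀⟩ fun e => hc₀1 (congrArg Subtype.val e)
    intro e
    have e' := congrArg Subtype.val e
    exact hc₀1 (conj_eq_one_iff.1 ((hjd c₀ hc₀).symm.trans e'))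
  have hg : ∀ (k : K) (c : Z), g (φ k c) = φ ((k * k)⁻¹) (g c) := by
    intro k c
    by_cases hc1 : c = 1
    · simp [hc1]
    obtain ⟨j, hjK, hjd⟩ := hj c hc1
    have hkN : (k : G) ∈ Subgroup.normalizer (A : Set G) ⊓ Subgroup.normalizer (S : Set G) :=
      ⟨h.torus_nz_right k.2, h.torus_nz k.2⟩
    rw [h'.normalizer_eq, ← SetLike.mem_coe,
      Subgroup.coe_mul_of_right_le_normalizer_left S K' h'.torus_nz] at hkN
    obtain ⟨s, hs, k', hk', (ek : s * k' = k)⟩ := hkN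
    have hk'c := h'.torus_conj_inf hk' (hZ c.2)
    have hcc : (k : G) * c * (k : G)⁻¹ = k' * c * k'⁻¹ := by
      calc (k : G) * c * (k : G)⁻¹ = s * (k' * c * k'⁻¹) * s⁻¹ := by rw [← ek]; group
        _ = k' * c * k'⁻¹ := by rw [← h'.inf_comm_top hk'c hs, mul_inv_cancel_right]
    set a := w' * (c : G) * w'⁻¹ with ha
    have haA : a ∈ A := hav c
    obtain ⟨v, hv, b, hb, es⟩ := h.exists_mul hs
    set ζ := v * a * v⁻¹ * a⁻¹ with hζ
    have hζZ := h.comm_mem hv haA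
    have hsa : s * a * s⁻¹ = ζ * a := by
      rw [es, hζ]
      calc v * b * a * (v * b)⁻¹ = v * (b * a * b⁻¹) * v⁻¹ := by group
        _ = v * a * v⁻¹ := by rw [comm_of_sq_pair h.sq_right hb haA, mul_inv_cancel_right]
        _ = _ := by group
    have hα : w' * (k' * (c : G) * k'⁻¹) * w'⁻¹ = k'⁻¹ * a * k' := by
      have hαA : w' * k' * w'⁻¹ * k' ∈ A := h'.weyl_inv k' hk'
      have hmem : k'⁻¹ * a * k' ∈ A := inv_conj_mem_of_nz (h'.torus_le hk') haA
      calc w' * (k' * (c : G) * k'⁻¹) * w'⁻¹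
          = (w' * k' * w'⁻¹ * k') * (k'⁻¹ * a * k') * (w' * k' * w'⁻¹ * k')⁻¹ := by rw [ha]; group
        _ = k'⁻¹ * a * k' := by rw [comm_of_sq_pair h.sq_right hαA hmem, mul_inv_cancel_right]
    have ha' : w' * ((k : G) * c * (k : G)⁻¹) * w'⁻¹ =
        ((k : G)⁻¹ * ζ * k) * ((k : G)⁻¹ * a * k) := by
      rw [hcc, hα, show k' = s⁻¹ * k by rw [← ek]; group]
      calc (s⁻¹ * (k : G))⁻¹ * a * (s⁻¹ * k) = (k : G)⁻¹ * (s * a * s⁻¹) * k := by group
        _ = _ := by rw [hsa]; group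
    have hv0 : (k : G) * v₀ * (k : G)⁻¹ = w * ((k : G)⁻¹ * c₀ * k) * w⁻¹ := by
      have hβ : w * (k : G)⁻¹ * w⁻¹ * (k : G)⁻¹ ∈ V := h.weyl_inv _ (K.inv_mem k.2)
      set β := w * (k : G)⁻¹ * w⁻¹ * (k : G)⁻¹ with hβdef
      have hin : w * ((k : G)⁻¹ * c₀ * k) * w⁻¹ ∈ V := h.conj_inf_mem_left (by
        have := h.torus_conj_inf (K.inv_mem k.2) hc₀
        rwa [inv_inv] at this)
      calc (k : G) * v₀ * (k : G)⁻¹ = β⁻¹ * (w * ((k : G)⁻¹ * c₀ * k) * w⁻¹) * β⁻¹⁻¹ := by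
            show (k : G) * (w * c₀ * w⁻¹) * (k : G)⁻¹ = _
            rw [hβdef]; group
        _ = _ := by rw [comm_of_sq_pair h.sq_left (V.inv_mem hβ) hin, mul_inv_cancel_right]
    apply Subtype.ext
    show v₀ * (w' * ((k : G) * c * (k : G)⁻¹) * w'⁻¹) * v₀⁻¹ * (w' * ((k : G) * c * (k : G)⁻¹) * w'⁻¹)⁻¹
      = ((k : G) * k)⁻¹ * (v₀ * a * v₀⁻¹ * a⁻¹) * ((k : G) * k)⁻¹⁻¹
    have hζk : (k : G)⁻¹ * ζ * k ∈ V ⊓ A := by
      have := h.torus_conj_inf (K.inv_mem k.2) hζZ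
      rwa [inv_inv] at this
    have hki : (k : G)⁻¹ * c₀ * k ∈ V ⊓ A := by
      have := h.torus_conj_inf (K.inv_mem k.2) hc₀
      rwa [inv_inv] at this
    rw [ha', hjd c₀ hc₀]
    have hz : v₀ * ((k : G)⁻¹ * ζ * k) = (k : G)⁻¹ * ζ * k * v₀ := (h.inf_comm_left hζk hv₀).symm
    have hka : (k : G)⁻¹ * a * k ∈ A := inv_conj_mem_of_nz (h.torus_nz_right k.2) haA
    calc v₀ * ((k : G)⁻¹ * ζ * k * ((k : G)⁻¹ * a * k)) * v₀⁻¹ *
          ((k : G)⁻¹ * ζ * k * ((k : G)⁻¹ * a * k))⁻¹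
        = (v₀ * ((k : G)⁻¹ * ζ * k)) * ((k : G)⁻¹ * a * k * v₀⁻¹ * ((k : G)⁻¹ * a * k)⁻¹) *
            ((k : G)⁻¹ * ζ * k)⁻¹ := by group
      _ = ((k : G)⁻¹ * ζ * k) * (v₀ * ((k : G)⁻¹ * a * k) * v₀⁻¹ * ((k : G)⁻¹ * a * k)⁻¹) *
            ((k : G)⁻¹ * ζ * k)⁻¹ := by rw [hz]; group
      _ = v₀ * ((k : G)⁻¹ * a * k) * v₀⁻¹ * ((k : G)⁻¹ * a * k)⁻¹ := by
          rw [h.inf_comm_left hζk (h.comm_mem hv₀ hka).1, mul_inv_cancel_right]
      _ = (k : G)⁻¹ * (((k : G) * v₀ * (k : G)⁻¹) * a * ((k : G) * v₀ * (k : G)⁻¹)⁻¹ * a⁻¹) * k := by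
          group
      _ = (k : G)⁻¹ * (j * ((k : G)⁻¹ * c₀ * k) * j⁻¹) * k := by rw [hv0, hjd _ hki]
      _ = _ := by
          have hjk : j * (k : G)⁻¹ = (k : G)⁻¹ * j := h.torus_comm _ hjK _ (K.inv_mem k.2)
          rw [show j * ((k : G)⁻¹ * c₀ * k) * j⁻¹ = (j * (k : G)⁻¹) * c₀ * (j * (k : G)⁻¹)⁻¹ by group,
            hjk]
          simp [mul_assoc]
  have h3 := card_le_three_of_twist (M := Z) (L := K) (fun x => Subtype.ext (h.sq_inf x.2)) φ
    (fun k l x => Subtype.ext (by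
      show ((k : G) * l) * x * ((k : G) * l)⁻¹ = (k : G) * ((l : G) * x * (l : G)⁻¹) * (k : G)⁻¹
      group))
    (fun k x hx e => Subtype.ext (h.torus_eq_one hCIT k.2 x.2 (fun e' => hx (Subtype.ext e'))
      (mul_inv_eq_iff_eq_mul.1 (congrArg Subtype.val e))))
    (fun x y hx hy => by
      obtain ⟨k, hk, e⟩ := h.exists_torus_conj hCIT x.2 (fun e' => hx (Subtype.ext e')) y.2
        (fun e' => hy (Subtype.ext e'))
      exact ⟨⟨k, hk⟩, Subtype.ext e⟩)
    g hg (c₀ := ⟨c₀, hc₀⟩) (fun e => hc₀1 (congrArg Subtype.val e)) hd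
  rw [h.torus_card] at h3
  omega

/-- Two flags at a Sylow 2-subgroup give a self-centralising four group or `FlagFour`. -/
theorem FlagData.flagFour_or (hCIT : IsCIT G) (S : Sylow 2 G)
    (h : FlagData (Subgroup.normalizer (V : Set G)) (S : Subgroup G) V A K w q)
    (h' : FlagData (Subgroup.normalizer (A : Set G)) (S : Subgroup G) A V K' w' q') :
    q = 2 ∨ FlagFour S V A := by
  refine or_iff_not_imp_left.2 fun hq2 => ?_
  have h4 := h.le_four hCIT h'
  have hqq : q' = q := Nat.pow_left_injective (n := 2) (by norm_num)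
    (h'.card_right.symm.trans h.card_left)
  subst hqq
  obtain ⟨m, hm⟩ := h.even_q
  have := h.two_le
  obtain rfl : q' = 4 := by omega
  have hS : Nat.card (S : Subgroup G) = 64 := by
    have := Offender.card_sup_mul_card_inf (H := A) (K := V) (h.right_le_top)
    rw [sup_comm, ← h.eq_sup, inf_comm, h.card_inf, h.card_right, h.card_left] at this
    omega
  have hN : ∀ {V A K : Subgroup G} {w : G},
      FlagData (Subgroup.normalizer (V : Set G)) (S : Subgroup G) V A K w 4 →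
      Nat.card (Subgroup.normalizer (V : Set G)) = 960 := by
    intro V A K w h
    set N := Subgroup.normalizer (V : Set G)
    set B := N ⊓ Subgroup.normalizer ((S : Subgroup G) : Set G) with hB
    have hBc : Nat.card B = 192 := by
      have hd : (S : Subgroup G) ⊓ K = ⊥ := by
        refine (Subgroup.eq_bot_iff_forall _).2 fun x hx => ?_
        obtain ⟨n, hn⟩ := S.isPGroup' ⟨x, hx.1⟩
        obtain ⟨i, -, hi⟩ := (Nat.dvd_prime_pow Nat.prime_two).1
          (orderOf_dvd_of_pow_eq_one (congrArg Subtype.val hn : x ^ 2 ^ n = 1))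
        have ho := h.odd_orderOf_torus hx.2
        rw [hi] at ho
        rcases Nat.eq_zero_or_pos i with rfl | hi0
        · exact orderOf_eq_one_iff.1 (by simpa using hi)
        · exact absurd ho (Nat.not_odd_iff_even.2 ((Nat.even_pow).2 ⟨even_two, by omega⟩))
      have := Offender.card_sup_mul_card_inf (H := K) (K := (S : Subgroup G)) h.torus_nz
      rw [sup_comm, ← h.normalizer_eq, show K ⊓ (S : Subgroup G) = ⊥ by rw [inf_comm]; exact hd,
        Subgroup.card_bot, h.torus_card, ← hB] at this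
      have hS4 : Nat.card (S : Subgroup G) = 64 := hS
      rw [hS4] at this
      omega
    have hidx : (B.subgroupOf N).index = 5 := by
      rw [Subgroup.index_eq_card]
      let F : Option (A ⧸ (V ⊓ A).subgroupOf A) → N ⧸ B.subgroupOf N := fun o =>
        o.elim (QuotientGroup.mk 1)
          fun a => QuotientGroup.mk ⟨(a.out : G) * w, N.mul_mem (h.right_le_top a.out.2) h.weyl_mem⟩
      have hF : Function.Bijective F := by
        refine ⟨?_, ?_⟩
        · rintro (_ | a) (_ | b) e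
          · rfl
          · exfalso
            have e' := QuotientGroup.eq.1 e
            rw [Subgroup.mem_subgroupOf] at e'
            have e2 : (b.out : G) * w ∈ B := by simpa using e'
            exact h.weyl_not ((Subgroup.mul_mem_cancel_left _
              (Subgroup.le_normalizer (h.right_le b.out.2))).1 e2.2)
          · exfalso
            have e' := QuotientGroup.eq.1 e.symm
            rw [Subgroup.mem_subgroupOf] at e'
            have e2 : (a.out : G) * w ∈ B := by simpa using e'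
            exact h.weyl_not ((Subgroup.mul_mem_cancel_left _
              (Subgroup.le_normalizer (h.right_le a.out.2))).1 e2.2)
          · have e' := QuotientGroup.eq.1 e
            rw [Subgroup.mem_subgroupOf] at e'
            have hx : ((a.out : G))⁻¹ * b.out ∈ A := A.mul_mem (A.inv_mem a.out.2) b.out.2
            have e2 : w⁻¹ * ((a.out : G)⁻¹ * b.out) * w ∈ B := by
              simpa [mul_assoc] using e'
            have hmem : w⁻¹ * ((a.out : G)⁻¹ * b.out) * w ∈ (S : Subgroup G) := by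
              refine le_of_max h.isPGroup h.le_top h.maximal ?_ (Subgroup.zpowers_le.2 e2.1)
                (Subgroup.zpowers_le.2 e2.2) (Subgroup.mem_zpowers _)
              have hsq : (w⁻¹ * ((a.out : G)⁻¹ * b.out) * w) * (w⁻¹ * ((a.out : G)⁻¹ * b.out) * w) = 1 := by
                calc _ = w⁻¹ * (((a.out : G)⁻¹ * b.out) * ((a.out : G)⁻¹ * b.out)) * w := by group
                  _ = 1 := by rw [h.sq_right _ hx]; group
              exact isPGroup_two_of_sq fun x hx => by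
                rcases two_mul_of_sq e2.2 hsq x hx with rfl | rfl
                · exact one_mul 1
                · exact hsq
            have hV := h.mem_left_of_conj hCIT (h.right_le hx) hmem
            refine congrArg some ?_
            rw [← QuotientGroup.out_eq' a, ← QuotientGroup.out_eq' b, QuotientGroup.eq,
              Subgroup.mem_subgroupOf]
            exact ⟨by simpa using hV, by simpa using hx⟩
        · intro x
          obtain ⟨⟨g, hg⟩, rfl⟩ := QuotientGroup.mk_surjective x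
          by_cases hgn : g ∈ Subgroup.normalizer ((S : Subgroup G) : Set G)
          · refine ⟨none, QuotientGroup.eq.2 ?_⟩
            rw [Subgroup.mem_subgroupOf]
            simp only [inv_one, one_mul]
            exact ⟨hg, hgn⟩
          obtain ⟨a, ha, hag⟩ := h.move g hg hgn
          refine ⟨some (QuotientGroup.mk ⟨a, ha⟩), QuotientGroup.eq.2 ?_⟩
          rw [Subgroup.mem_subgroupOf]
          set o := ((QuotientGroup.mk (⟨a, ha⟩ : A) : A ⧸ (V ⊓ A).subgroupOf A)).out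
          have hz : (o : G)⁻¹ * a ∈ V ⊓ A := by
            have := QuotientGroup.eq.1 (QuotientGroup.out_eq'
              (QuotientGroup.mk (⟨a, ha⟩ : A) : A ⧸ (V ⊓ A).subgroupOf A))
            rwa [Subgroup.mem_subgroupOf] at this
          have hz' : w⁻¹ * ((o : G)⁻¹ * a) * w ∈ B :=
            ⟨N.mul_mem (N.mul_mem (N.inv_mem h.weyl_mem) (h.left_le_top hz.1)) h.weyl_mem,
              Subgroup.le_normalizer (h.left_le (inv_conj_mem_of_nz (h.norm_left h.weyl_mem) hz.1))⟩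
          have hb : (a * w)⁻¹ * g ∈ B :=
            ⟨N.mul_mem (N.inv_mem (N.mul_mem (h.right_le_top ha) h.weyl_mem)) hg, hag⟩
          have := B.mul_mem hz' hb
          simpa [mul_assoc] using this
      rw [← Nat.card_congr (Equiv.ofBijective F hF), Finite.card_option]
      have hi := ((V ⊓ A).subgroupOf A).card_mul_index
      rw [Nat.card_congr (Subgroup.subgroupOfEquivOfLe (inf_le_right (a := V))).toEquiv,
        h.card_inf, h.card_right, Subgroup.index_eq_card] at hi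
      omega
    have := (B.subgroupOf N).card_mul_index
    rw [Nat.card_congr (Subgroup.subgroupOfEquivOfLe (inf_le_left : B ≤ N)).toEquiv, hBc, hidx] at this
    exact this.symm
  refine ⟨hS, h.left_le, h.right_le, by rw [h.card_left]; norm_num, by rw [h.card_right]; norm_num,
    h.card_inf, fun x hx y hy => comm_of_sq_pair h.sq_left hx hy,
    fun x hx y hy => comm_of_sq_pair h.sq_right hx hy, h.sq_left, h.sq_right,
    fun x hx h2 => h.elem_mem hx h2, hN h, hN h'⟩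

end Cfsg.Agent.Lib.CIT
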