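import Cfsg.Agent.Lib.CIT.SpreadBridge
import Cfsg.Agent.Lib.CIT.Shape

/-!
The torus and the Weyl element of the natural module configuration.
-/

set_option autoImplicit false
set_option linter.unusedSectionVars false
set_option linter.style.haveILetI false

namespace Cfsg.Agent.Lib.CIT.Spread

open Cfsg.Agent.Lib
open scoped Pointwise

variable {Y : Type*} [Group Y] [Finite Y] {V : Subgroup Y} {r : ℕ}

namespace LocalSpread

theorem smul_eq_map (g : Y) (P : Sylow 2 Y) :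
    ((g • P : Sylow 2 Y) : Subgroup Y) = (P : Subgroup Y).map (MulAut.conj g).toMonoidHom := by
  rw [Sylow.coe_subgroup_smul]
  rfl

theorem card_others (h : LocalSpread V r) (P : Sylow 2 Y) :
    Nat.card {R : Sylow 2 Y // R ≠ P} = r := by
  classical
  haveI := Fintype.ofFinite (Sylow 2 Y)
  rw [Nat.card_eq_fintype_card, Fintype.card_subtype_compl, Fintype.card_subtype_eq,
    ← Nat.card_eq_fintype_card, h.card_sylow, Nat.add_sub_cancel]

theorem fix_of_mem {P : Sylow 2 Y} {x : Y} (hx : x ∈ (P : Subgroup Y)) : x • P = P :=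
  Sylow.smul_eq_iff_mem_normalizer.2 (Subgroup.le_normalizer hx)

/-- A Sylow subgroup is transitive on the others. -/
theorem exists_smul (h : LocalSpread V r) {P Q R : Sylow 2 Y} (hQ : Q ≠ P) (hR : R ≠ P) :
    ∃ x ∈ (P : Subgroup Y), x • Q = R := by
  classical
  haveI : Fact (Nat.Prime 2) := ⟨Nat.prime_two⟩
  set D := Subgroup.centralizer (V : Set Y) with hD
  have hmove : ∀ x ∈ (P : Subgroup Y), x • Q ≠ P := fun x hx e => hQ (by
    rw [← inv_smul_smul x Q, e]
    exact fix_of_mem ((P : Subgroup Y).inv_mem hx))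
  let f : ↥(P : Subgroup Y) → {R : Sylow 2 Y // R ≠ P} := fun x => ⟨(x : Y) • Q, hmove x x.2⟩
  have hker : ∀ x y : (P : Subgroup Y), f x = f y → x⁻¹ * y ∈ D.subgroupOf P := by
    intro x y e
    have e' : (x : Y) • Q = (y : Y) • Q := congrArg Subtype.val e
    have hn : ((x : Y)⁻¹ * y) • Q = Q := by rw [mul_smul, ← e', inv_smul_smul]
    have hmem : (x : Y)⁻¹ * y ∈
        (P : Subgroup Y) ⊓ Subgroup.normalizer ((Q : Subgroup Y) : Set Y) :=
      ⟨(P : Subgroup Y).mul_mem ((P : Subgroup Y).inv_mem x.2) y.2,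
        Sylow.smul_eq_iff_mem_normalizer.1 hn⟩
    exact (h.ti P Q hQ.symm).le ((P.isPGroup'.inf_normalizer_sylow Q).le hmem)
  let f' : ↥(P : Subgroup Y) ⧸ D.subgroupOf P → {R : Sylow 2 Y // R ≠ P} := fun q => f q.out
  have hinj : Function.Injective f' := by
    intro p q e
    rw [← p.out_eq, ← q.out_eq]
    exact QuotientGroup.eq.2 (hker _ _ e)
  have hcard : Nat.card ((P : Subgroup Y) ⧸ D.subgroupOf P) = r := by
    have h1 := (D.subgroupOf (P : Subgroup Y)).card_eq_card_quotient_mul_card_subgroup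
    rw [h.card_subgroup P, Nat.card_congr (Subgroup.subgroupOfEquivOfLe (h.le_sylow P)).toEquiv,
      mul_comm] at h1
    exact (Nat.eq_of_mul_eq_mul_right Nat.card_pos h1).symm
  obtain ⟨q, hq⟩ := (hinj.bijective_of_nat_card_le (by rw [hcard, h.card_others P])).2 ⟨R, hR⟩
  exact ⟨(q.out : Y), q.out.2, congrArg Subtype.val hq⟩

theorem exists_ne (h : LocalSpread V r) (P : Sylow 2 Y) : ∃ Q : Sylow 2 Y, Q ≠ P := by
  haveI : Nontrivial (Sylow 2 Y) := Finite.one_lt_card_iff_nontrivial.1 (by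
    rw [h.card_sylow]; have := h.two_le; omega)
  exact _root_.exists_ne P

theorem exists_swap (h : LocalSpread V r) {P Q : Sylow 2 Y} (hQ : Q ≠ P) :
    ∃ t : Y, t • P = Q ∧ t • Q = P := by
  haveI : Fact (Nat.Prime 2) := ⟨Nat.prime_two⟩
  obtain ⟨u, hu⟩ := MulAction.exists_smul_eq Y P Q
  have hne : u • Q ≠ Q := fun e => hQ (by
    apply MulAction.injective u
    show u • Q = u • P
    rw [e, hu])
  obtain ⟨b, hb, hbe⟩ := h.exists_smul (P := Q) (R := P) hne hQ.symm
  exact ⟨b * u, by rw [mul_smul, hu, fix_of_mem hb], by rw [mul_smul, hbe]⟩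

theorem card_normalizer (h : LocalSpread V r) (P : Sylow 2 Y) :
    Nat.card (Subgroup.normalizer ((P : Subgroup Y) : Set Y)) =
      Nat.card (Subgroup.centralizer (V : Set Y)) * (r * (r - 1)) := by
  haveI : Fact (Nat.Prime 2) := ⟨Nat.prime_two⟩
  have h1 := Subgroup.index_mul_card (Subgroup.normalizer ((P : Subgroup Y) : Set Y))
  rw [show (Subgroup.normalizer ((P : Subgroup Y) : Set Y)).index = Nat.card (Sylow 2 Y) from
    P.card_eq_index_normalizer.symm, h.card_sylow, h.card_group, mul_left_comm _ (r + 1)] at h1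
  exact Nat.eq_of_mul_eq_mul_left (Nat.succ_pos r) h1

theorem card_two_point (h : LocalSpread V r) {P Q : Sylow 2 Y} (hQ : Q ≠ P) :
    Nat.card (Subgroup.normalizer ((P : Subgroup Y) : Set Y) ⊓
      Subgroup.normalizer ((Q : Subgroup Y) : Set Y) : Subgroup Y) =
      Nat.card (Subgroup.centralizer (V : Set Y)) * (r - 1) := by
  classical
  set N := Subgroup.normalizer ((P : Subgroup Y) : Set Y) with hN
  set L := N ⊓ Subgroup.normalizer ((Q : Subgroup Y) : Set Y) with hL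
  have hmove : ∀ x ∈ N, x • Q ≠ P := fun x hx e => hQ (by
    rw [← inv_smul_smul x Q, e]
    exact Sylow.smul_eq_iff_mem_normalizer.2 (N.inv_mem hx))
  let f : N ⧸ L.subgroupOf N → {R : Sylow 2 Y // R ≠ P} :=
    fun q => ⟨(q.out : Y) • Q, hmove _ q.out.2⟩
  have hbij : Function.Bijective f := by
    constructor
    · intro p q e
      rw [← p.out_eq, ← q.out_eq]
      refine QuotientGroup.eq.2 (Subgroup.mem_subgroupOf.2
        ⟨(p.out⁻¹ * q.out).2, Sylow.smul_eq_iff_mem_normalizer.1 ?_⟩)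
      have e' : (p.out : Y) • Q = (q.out : Y) • Q := congrArg Subtype.val e
      rw [Subgroup.coe_mul, Subgroup.coe_inv, mul_smul, ← e', inv_smul_smul]
    · rintro ⟨R, hR⟩
      obtain ⟨x, hx, he⟩ := h.exists_smul hQ hR
      refine ⟨QuotientGroup.mk ⟨x, Subgroup.le_normalizer hx⟩, Subtype.ext ?_⟩
      obtain ⟨l, hl⟩ := QuotientGroup.mk_out_eq_mul (L.subgroupOf N) ⟨x, Subgroup.le_normalizer hx⟩
      show ((QuotientGroup.mk ⟨x, Subgroup.le_normalizer hx⟩ : N ⧸ L.subgroupOf N).out : Y) • Q = R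
      rw [hl, Subgroup.coe_mul, mul_smul,
        Sylow.smul_eq_iff_mem_normalizer.2 (Subgroup.mem_inf.1 (Subgroup.mem_subgroupOf.1 l.2)).2, he]
  have h1 := (L.subgroupOf N).card_eq_card_quotient_mul_card_subgroup
  rw [Nat.card_eq_of_bijective f hbij, h.card_others P, h.card_normalizer P,
    Nat.card_congr (Subgroup.subgroupOfEquivOfLe (inf_le_left : L ≤ N)).toEquiv,
    mul_left_comm _ r] at h1
  exact (Nat.eq_of_mul_eq_mul_left (by have := h.two_le; omega) h1).symm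

/-- The torus and the Weyl element. -/
theorem exists_torus (h : LocalSpread V r) (hself : Subgroup.centralizer (V : Set Y) = V)
    (P : Sylow 2 Y) (A : Subgroup Y) (hsup : V ⊔ A = (P : Subgroup Y)) :
    ∃ (K : Subgroup Y) (w : Y), (∀ x ∈ K, ∀ y ∈ K, x * y = y * x) ∧ Nat.card K = r - 1 ∧
      Subgroup.normalizer ((P : Subgroup Y) : Set Y) = (P : Subgroup Y) ⊔ K ∧
      w ∉ Subgroup.normalizer ((P : Subgroup Y) : Set Y) ∧ w * w ∈ V ∧
      (∀ k ∈ K, w * k * w⁻¹ * k ∈ V) ∧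
      ∀ g : Y, g ∉ Subgroup.normalizer ((P : Subgroup Y) : Set Y) →
        ∃ a ∈ A, (a * w)⁻¹ * g ∈ Subgroup.normalizer ((P : Subgroup Y) : Set Y) := by
  classical
  have hVn : V.Normal := by
    rw [← hself, h.core_eq]
    infer_instance
  haveI := hVn
  obtain ⟨Q, hQ⟩ := h.exists_ne P
  obtain ⟨t, htP, htQ⟩ := h.exists_swap hQ
  have hinv := h.invert P Q hQ.symm t (by rw [← smul_eq_map, htP]) (by rw [← smul_eq_map, htQ])
  rw [hself] at hinv
  have hVle : ∀ R : Sylow 2 Y, V ≤ (R : Subgroup Y) := fun R => hself ▸ h.le_sylow R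
  set N := Subgroup.normalizer ((P : Subgroup Y) : Set Y) with hN
  set L := N ⊓ Subgroup.normalizer ((Q : Subgroup Y) : Set Y) with hL
  have hVL : V ≤ L :=
    le_inf ((hVle P).trans Subgroup.le_normalizer) ((hVle Q).trans Subgroup.le_normalizer)
  have hcardL : Nat.card L = r * r * (r - 1) := by
    rw [hL, hN, h.card_two_point hQ, hself, h.card_module]
  have hcardV : Nat.card (V.subgroupOf L) = r * r := by
    rw [Nat.card_congr (Subgroup.subgroupOfEquivOfLe hVL).toEquiv, h.card_module]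
  have hr2 := h.two_le
  have hindex : (V.subgroupOf L).index = r - 1 := by
    have h1 := Subgroup.index_mul_card (V.subgroupOf L)
    rw [hcardV, hcardL, mul_comm] at h1
    exact Nat.eq_of_mul_eq_mul_left (Nat.mul_pos (by omega) (by omega)) h1
  obtain ⟨H, hH⟩ := Subgroup.exists_right_complement'_of_coprime (N := V.subgroupOf L) (by
    rw [hcardV, hindex]
    exact Nat.Coprime.mul_left ((Nat.coprime_self_sub_right (by omega)).2 (Nat.coprime_one_right r))
      ((Nat.coprime_self_sub_right (by omega)).2 (Nat.coprime_one_right r)))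
  set K := H.map L.subtype with hK
  have hKL : K ≤ L := Subgroup.map_subtype_le H
  have hKV : ∀ x ∈ K, x ∈ V → x = 1 := by
    rintro _ ⟨x, hx, rfl⟩ hxV
    have h1 : x ∈ V.subgroupOf L ⊓ H := ⟨hxV, hx⟩
    rw [hH.disjoint.eq_bot, Subgroup.mem_bot] at h1
    simp [h1]
  have hdec : L ≤ V ⊔ K := by
    intro x hx
    have h1 : (⟨x, hx⟩ : L) ∈ V.subgroupOf L ⊔ H := hH.sup_eq_top ▸ Subgroup.mem_top _
    obtain ⟨v, hv, k, hk, he⟩ := Subgroup.mem_sup_of_normal_left.1 h1
    rw [← show (v : Y) * k = x from congrArg Subtype.val he]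
    exact (V ⊔ K).mul_mem (Subgroup.mem_sup_left hv)
      (Subgroup.mem_sup_right (Subgroup.mem_map_of_mem L.subtype hk))
  have hcK : Nat.card K = r - 1 := by
    rw [hK, Subgroup.card_subtype, ← hindex, hH.symm.index_eq_card]
  have hbar : ∀ k ∈ L, (t : Y ⧸ V) * k * (t : Y ⧸ V)⁻¹ = (k : Y ⧸ V)⁻¹ := fun k hk => by
    rw [eq_inv_iff_mul_eq_one]
    exact (QuotientGroup.eq_one_iff _).2 (hinv.2 k hk.1 hk.2)
  refine ⟨K, t, fun x hx y hy => ?_, hcK, ?_, ?_, hinv.1,
    fun k hk => hinv.2 k (hKL hk).1 (hKL hk).2, fun g hg => ?_⟩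
  · have h1 : (x : Y ⧸ V)⁻¹ * (y : Y ⧸ V)⁻¹ = (y : Y ⧸ V)⁻¹ * (x : Y ⧸ V)⁻¹ := by
      calc (x : Y ⧸ V)⁻¹ * (y : Y ⧸ V)⁻¹
          = ((t : Y ⧸ V) * x * (t : Y ⧸ V)⁻¹) * ((t : Y ⧸ V) * y * (t : Y ⧸ V)⁻¹) := by
            rw [hbar x (hKL hx), hbar y (hKL hy)]
        _ = (t : Y ⧸ V) * ((x : Y ⧸ V) * y) * (t : Y ⧸ V)⁻¹ := by group
        _ = ((x : Y ⧸ V) * y)⁻¹ := by
            exact hbar (x * y) (L.mul_mem (hKL hx) (hKL hy))
        _ = _ := by rw [mul_inv_rev]
    have h2 : x * y * x⁻¹ * y⁻¹ ∈ V := by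
      rw [← QuotientGroup.eq_one_iff]
      simp only [QuotientGroup.mk_mul, QuotientGroup.mk_inv]
      rw [mul_assoc ((x : Y ⧸ V) * y), h1]
      group
    have h3 := hKV _ (K.mul_mem (K.mul_mem (K.mul_mem hx hy) (K.inv_mem hx)) (K.inv_mem hy)) h2
    calc x * y = (x * y * x⁻¹ * y⁻¹) * (y * x) := by group
      _ = y * x := by rw [h3, one_mul]
  · refine le_antisymm (fun g hg => ?_) (sup_le Subgroup.le_normalizer (hKL.trans inf_le_left))
    have hgQ : g • Q ≠ P := fun e => hQ (by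
      rw [← inv_smul_smul g Q, e]
      exact Sylow.smul_eq_iff_mem_normalizer.2 (N.inv_mem hg))
    obtain ⟨x, hx, he⟩ := h.exists_smul hQ hgQ
    have hl : x⁻¹ * g ∈ L := ⟨N.mul_mem (N.inv_mem (Subgroup.le_normalizer hx)) hg,
      Sylow.smul_eq_iff_mem_normalizer.1 (by rw [mul_smul, ← he, inv_smul_smul])⟩
    have h1 := ((P : Subgroup Y) ⊔ K).mul_mem (Subgroup.mem_sup_left hx)
      (sup_le_sup_right (hVle P) K (hdec hl))
    rwa [mul_inv_cancel_left] at h1
  · intro e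
    exact hQ (htP ▸ Sylow.smul_eq_iff_mem_normalizer.2 e)
  · have hgP : g • P ≠ P := fun e => hg (Sylow.smul_eq_iff_mem_normalizer.1 e)
    obtain ⟨x, hx, he⟩ := h.exists_smul hQ hgP
    obtain ⟨v, hv, a, ha, rfl⟩ := Subgroup.mem_sup_of_normal_left.1 (hsup ▸ hx : x ∈ V ⊔ A)
    refine ⟨a, ha, Sylow.smul_eq_iff_mem_normalizer.1 ?_⟩
    have hva : (v * a) • Q = a • Q := by
      have h1 : a⁻¹ * v * a ∈ V := by simpa using hVn.conj_mem v hv a⁻¹
      rw [show v * a = a * (a⁻¹ * v * a) by group, mul_smul, fix_of_mem (hVle Q h1)]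
    rw [mul_smul, inv_smul_eq_iff, mul_smul, htP, ← hva, he]

end LocalSpread

/-- The natural module configuration from the spread data, inside the ambient group. -/
theorem exists_flagData {G : Type*} [Group G] [Finite G] {Y : Subgroup G} {V A : Subgroup Y}
    {P : Sylow 2 Y} {r : ℕ} (h : LocalSpread V r) (hself : Subgroup.centralizer (V : Set Y) = V)
    (hVsq : ∀ x ∈ V, x * x = 1) (hAsq : ∀ x ∈ A, x * x = 1)
    (hA : A ≤ (P : Subgroup Y)) (hcA : Nat.card A = r * r)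
    (hci : Nat.card (V ⊓ A : Subgroup Y) = r) (hsup : V ⊔ A = (P : Subgroup Y))
    (hconj : ∀ p ∈ (P : Subgroup Y), ∀ a ∈ A, p * a * p⁻¹ ∈ A)
    (hcent : ∀ v ∈ V, ∀ a ∈ A, v * a = a * v → v ∈ A ∨ a ∈ V) :
    ∃ (K : Subgroup G) (w : G), FlagData Y ((P : Subgroup Y).map Y.subtype) (V.map Y.subtype)
      (A.map Y.subtype) K w r := by
  obtain ⟨K, w, hKc, hKcard, hnorm, hwn, hw2, hwinv, hmove⟩ := h.exists_torus hself P A hsup
  have hVn : V.Normal := by
    rw [← hself, h.core_eq]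
    infer_instance
  have hnmap : ∀ x : Y, (x : G) ∈ Subgroup.normalizer
      (((P : Subgroup Y).map Y.subtype : Subgroup G) : Set G) ↔
      x ∈ Subgroup.normalizer ((P : Subgroup Y) : Set Y) := by
    intro x
    rw [Subgroup.mem_normalizer_iff, Subgroup.mem_normalizer_iff]
    constructor
    · intro hx y
      have h1 := hx (y : G)
      rw [← Subgroup.coe_inv, ← Subgroup.coe_mul, ← Subgroup.coe_mul, ← Y.coe_subtype,
        Subgroup.mem_map_iff_mem Y.subtype_injective,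
        Subgroup.mem_map_iff_mem Y.subtype_injective] at h1
      exact h1
    · intro hx g
      constructor
      · rintro ⟨y, hy, rfl⟩
        exact ⟨x * y * x⁻¹, (hx y).1 hy, by simp⟩
      · rintro ⟨y, hy, he⟩
        refine ⟨x⁻¹ * y * x, (hx _).2 ?_, ?_⟩
        · rw [show x * (x⁻¹ * y * x) * x⁻¹ = y by group]; exact hy
        rw [Subgroup.coe_subtype] at he
        simp [he, mul_assoc]
  refine ⟨K.map Y.subtype, (w : G), ?_⟩
  refine
    { two_le := h.two_le
      le_top := Subgroup.map_subtype_le _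
      maximal := ?_
      eq_sup := by rw [← Subgroup.map_sup, hsup]
      sq_left := ?_
      sq_right := ?_
      card_left := by rw [Subgroup.card_subtype, h.card_module, pow_two]
      card_right := by rw [Subgroup.card_subtype, hcA, pow_two]
      card_inf := by rw [← Subgroup.map_inf _ _ _ Y.subtype_injective, Subgroup.card_subtype, hci]
      norm_left := ?_
      norm_right := ?_
      cent := ?_
      selfC := ?_
      torus_le := Subgroup.map_subtype_le _
      torus_comm := ?_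
      torus_card := by rw [Subgroup.card_subtype, hKcard]
      normalizer_eq := ?_
      weyl_mem := w.2
      weyl_not := fun e => hwn ((hnmap w).1 e)
      weyl_sq := ⟨w * w, hw2, rfl⟩
      weyl_inv := ?_
      move := ?_ }
  · intro P' hPP' hP'Y hP'
    refine le_antisymm ?_ hPP'
    have h1 : (P : Subgroup Y) ≤ P'.subgroupOf Y := fun x hx => hPP' ⟨x, hx, rfl⟩
    have h2 : P'.subgroupOf Y = P := P.is_maximal' (hP'.of_equiv (Subgroup.subgroupOfEquivOfLe hP'Y).symm) h1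
    rw [← h2, Subgroup.subgroupOf_map_subtype, inf_eq_left.2 hP'Y]
  · rintro _ ⟨x, hx, rfl⟩
    rw [← map_mul, hVsq x hx, map_one]
  · rintro _ ⟨x, hx, rfl⟩
    rw [← map_mul, hAsq x hx, map_one]
  · intro g hg
    rw [Subgroup.mem_normalizer_iff]
    intro x
    constructor
    · rintro ⟨v, hv, rfl⟩
      exact ⟨⟨g, hg⟩ * v * ⟨g, hg⟩⁻¹, hVn.conj_mem v hv _, by simp⟩
    · rintro ⟨v, hv, he⟩
      refine ⟨⟨g, hg⟩⁻¹ * v * ⟨g, hg⟩, by simpa using hVn.conj_mem v hv (⟨g, hg⟩⁻¹ : Y), ?_⟩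
      rw [Subgroup.coe_subtype] at he
      simp [he, mul_assoc]
  · rintro _ ⟨v, hv, rfl⟩
    have hvP : v ∈ (P : Subgroup Y) := hsup ▸ Subgroup.mem_sup_left hv
    rw [Subgroup.mem_normalizer_iff]
    intro x
    constructor
    · rintro ⟨a, ha, rfl⟩
      exact ⟨v * a * v⁻¹, hconj v hvP a ha, by simp⟩
    · rintro ⟨a, ha, he⟩
      refine ⟨v⁻¹ * a * v, by simpa using hconj v⁻¹ ((P : Subgroup Y).inv_mem hvP) a ha, ?_⟩
      rw [Subgroup.coe_subtype] at he
      simp [he, mul_assoc]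
  · rintro _ ⟨v, hv, rfl⟩ _ ⟨a, ha, rfl⟩ he
    rw [← map_mul, ← map_mul] at he
    exact (hcent v hv a ha (Y.subtype_injective he)).imp (Subgroup.mem_map_of_mem _)
      (Subgroup.mem_map_of_mem _)
  · intro g hg hc
    refine ⟨⟨g, hg⟩, hself ▸ Subgroup.mem_centralizer_iff.2 fun v hv => Subtype.ext ?_, rfl⟩
    exact (hc (v : G) ⟨v, hv, rfl⟩).symm
  · rintro _ ⟨x, hx, rfl⟩ _ ⟨y, hy, rfl⟩
    rw [← map_mul, ← map_mul, hKc x hx y hy]
  · rw [← Subgroup.map_sup, ← hnorm]
    ext g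
    constructor
    · rintro ⟨hgY, hgN⟩
      exact ⟨⟨g, hgY⟩, (hnmap ⟨g, hgY⟩).1 hgN, rfl⟩
    · rintro ⟨y, hy, rfl⟩
      exact ⟨y.2, (hnmap y).2 hy⟩
  · rintro _ ⟨k, hk, rfl⟩
    exact ⟨w * k * w⁻¹ * k, hwinv k hk, by simp⟩
  · intro g hg hgn
    obtain ⟨a, ha, hm⟩ := hmove ⟨g, hg⟩ fun e => hgn ((hnmap ⟨g, hg⟩).2 e)
    refine ⟨(a : G), ⟨a, ha, rfl⟩, ?_⟩
    have h1 := (hnmap _).2 hm
    simpa using h1

end Cfsg.Agent.Lib.CIT.Spread
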