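import Cfsg.Agent.Lib.CIT.GlobalBasic
import Cfsg.Agent.Lib.Puig.Basic

/-!
Flag data of `N(Q)` give flag data, with the same `P`, `V` and `A`, of `N(V)`.
Written by helper24.
-/

set_option autoImplicit false

namespace Cfsg.Agent.Lib.CIT

open Cfsg.Agent.Lib.SECount

variable {G : Type*} [Group G] [Finite G]

theorem odd_of_two_pow_sub_one {q : ℕ} (h2 : 2 ≤ q) (he : Even q) : Odd (q - 1) := by
  rw [Nat.odd_iff]; rw [Nat.even_iff] at he; omega

namespace FlagData

variable {Y P V A K : Subgroup G} {w : G} {q : ℕ} (h : FlagData Y P V A K w q)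
include h

theorem even_q : Even q := by
  have : Fact (Nat.Prime 2) := ⟨Nat.prime_two⟩
  obtain ⟨z, hz, hz1⟩ := h.exists_ne_one
  have h1 := orderOf_dvd_natCard (⟨z, hz⟩ : (V ⊓ A : Subgroup G))
  rw [Subgroup.orderOf_mk, h.card_inf, invo_of_sq hz1 (h.sq_inf hz)] at h1
  exact even_iff_two_dvd.2 h1

theorem odd_orderOf_torus {k : G} (hk : k ∈ K) : Odd (orderOf k) :=
  (h.torus_card.symm ▸ odd_of_two_pow_sub_one h.two_le h.even_q).of_dvd_nat
    (Subgroup.orderOf_mk k hk ▸ orderOf_dvd_natCard (⟨k, hk⟩ : K))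

theorem torus_nz : K ≤ Subgroup.normalizer (P : Set G) :=
  (le_sup_right.trans h.normalizer_eq.ge).trans inf_le_right

theorem torus_nz_right : K ≤ Subgroup.normalizer (A : Set G) := fun k hk => by
  refine nz_of_cj_eq ((h.member_eq (h.isMember_right.of_nz (h.torus_nz hk))).resolve_left fun e => ?_)
  refine h.left_ne_right ?_
  have h1 := congrArg (cj k⁻¹) e
  rw [cj_cj, inv_mul_cancel, cj_one,
    cj_eq_of_nz (h.norm_left (h.torus_le (K.inv_mem hk)))] at h1
  exact h1.symm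

theorem torus_conj_inf {k z : G} (hk : k ∈ K) (hz : z ∈ V ⊓ A) : k * z * k⁻¹ ∈ V ⊓ A :=
  ⟨conj_mem_of_nz (h.norm_left (h.torus_le hk)) hz.1, conj_mem_of_nz (h.torus_nz_right hk) hz.2⟩

theorem torus_eq_one (hCIT : IsCIT G) {k z : G} (hk : k ∈ K) (hz : z ∈ V ⊓ A) (hz1 : z ≠ 1)
    (hc : k * z = z * k) : k = 1 :=
  hCIT.eq_one_of_commute_invo (invo_of_sq hz1 (h.sq_inf hz)) (h.odd_orderOf_torus hk) hc.symm

/-- The torus is transitive on the nontrivial elements of `V ⊓ A`. -/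
theorem exists_torus_conj (hCIT : IsCIT G) {z z' : G} (hz : z ∈ V ⊓ A) (hz1 : z ≠ 1)
    (hz' : z' ∈ V ⊓ A) (hz1' : z' ≠ 1) : ∃ k ∈ K, k * z * k⁻¹ = z' := by
  classical
  let f : Option K → (V ⊓ A : Subgroup G) := fun o =>
    o.elim 1 fun k => ⟨(k : G) * z * (k : G)⁻¹, h.torus_conj_inf k.2 hz⟩
  have hinj : Function.Injective f := by
    rintro (_ | a) (_ | b) e
    · rfl
    · have e' : (1 : G) = b * z * (b : G)⁻¹ := congrArg Subtype.val e
      exact absurd (conj_eq_one_iff.1 e'.symm) hz1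
    · have e' : (a : G) * z * (a : G)⁻¹ = 1 := congrArg Subtype.val e
      exact absurd (conj_eq_one_iff.1 e') hz1
    · have e' : (a : G) * z * (a : G)⁻¹ = b * z * (b : G)⁻¹ := congrArg Subtype.val e
      have := h.torus_eq_one hCIT (K.mul_mem (K.inv_mem b.2) a.2) hz hz1 (by
        calc (b : G)⁻¹ * a * z = (b : G)⁻¹ * (a * z * (a : G)⁻¹) * a := by group
          _ = z * ((b : G)⁻¹ * a) := by rw [e']; group)
      exact congrArg some (Subtype.ext (inv_mul_eq_one.1 this).symm)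
  have hbij := hinj.bijective_of_nat_card_le (by
    rw [Finite.card_option, h.torus_card, h.card_inf]; have := h.two_le; omega)
  obtain ⟨o, ho⟩ := hbij.2 ⟨z', hz'⟩
  rcases o with _ | k
  · exact absurd (congrArg Subtype.val ho).symm hz1'
  · exact ⟨k, k.2, congrArg Subtype.val ho⟩

/-- The only 2-subgroups normalized by `N(V)` lie in `V`. -/
theorem le_left_of_normal' (hCIT : IsCIT G) (hVV : Subgroup.centralizer (V : Set G) = V)
    {R : Subgroup G} (hR : IsPGroup 2 R) (hRV : R ≤ Subgroup.normalizer (V : Set G))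
    (hn : Subgroup.normalizer (V : Set G) ≤ Subgroup.normalizer (R : Set G)) : R ≤ V := by
  have : Fact (Nat.Prime 2) := ⟨Nat.prime_two⟩
  set T := R ⊔ P with hTdef
  have hT : IsPGroup 2 T :=
    hR.to_sup_of_normal_left' h.isPGroup ((h.le_top.trans h.norm_left).trans hn)
  have hTN : T ≤ Subgroup.normalizer (V : Set G) := sup_le hRV (h.le_top.trans h.norm_left)
  have hVT : V ≤ T := h.left_le.trans le_sup_right
  have hVn : (V.subgroupOf T).Normal := (Subgroup.normal_subgroupOf_iff_le_normalizer hVT).2 hTN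
  obtain ⟨⟨z, hzT⟩, ⟨hzV, hzc⟩, hz1⟩ := Puig.exists_mem_center_of_normal hT (V.subgroupOf T) (by
    rw [Ne, Subgroup.subgroupOf_eq_bot]
    intro hd
    have e : V = ⊥ := le_bot_iff.1 (hd le_rfl hVT)
    have := h.card_left
    rw [e, Subgroup.card_bot] at this
    have := h.two_le
    nlinarith)
  have hz1' : z ≠ 1 := fun e => hz1 (Subtype.ext e)
  have hcomm : ∀ g ∈ T, g * z = z * g := fun g hg =>
    congrArg Subtype.val (Subgroup.mem_center_iff.1 hzc ⟨g, hg⟩)
  have hzV' : z ∈ V := hzV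
  have hzA : z ∈ V ⊓ A := by
    refine ⟨hzV', ?_⟩
    obtain ⟨a, ha, haV⟩ := SetLike.not_le_iff_exists.1 (fun e : A ≤ V => h.left_ne_right
      (Subgroup.eq_of_le_of_card_ge e (by rw [h.card_left, h.card_right])).symm)
    exact (h.cent z hzV' a ha (hcomm a (le_sup_right (a := R) (h.right_le ha))).symm).resolve_right haV
  -- `V ⊓ A` and its conjugate centralise `R`
  have hZ : ∀ z' ∈ V ⊓ A, ∀ r ∈ R, r * z' = z' * r := by
    intro z' hz' r hr
    by_cases h1 : z' = 1
    · rw [h1, mul_one, one_mul]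
    obtain ⟨k, hk, rfl⟩ := h.exists_torus_conj hCIT hzA hz1' hz' h1
    have hr' := inv_conj_mem_of_nz (hn (h.norm_left (h.torus_le hk))) hr
    calc r * (k * z * k⁻¹) = k * ((k⁻¹ * r * k) * z) * k⁻¹ := by group
      _ = k * (z * (k⁻¹ * r * k)) * k⁻¹ := by rw [hcomm _ (le_sup_left (b := P) hr')]
      _ = k * z * k⁻¹ * r := by group
  intro r hr
  rw [← hVV]
  refine Subgroup.mem_centralizer_iff.2 fun v hv => ?_
  obtain ⟨z₁, hz₁, z₂, hz₂, rfl⟩ := h.eq_mul_weyl hCIT hv
  have hr' := inv_conj_mem_of_nz (hn (h.norm_left h.weyl_mem)) hr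
  have e : r * (w * z₂ * w⁻¹) = w * z₂ * w⁻¹ * r := by
    calc r * (w * z₂ * w⁻¹) = w * ((w⁻¹ * r * w) * z₂) * w⁻¹ := by group
      _ = w * (z₂ * (w⁻¹ * r * w)) * w⁻¹ := by rw [hZ z₂ hz₂ _ hr']
      _ = w * z₂ * w⁻¹ * r := by group
  rw [mul_assoc, ← e, ← mul_assoc, ← hZ z₁ hz₁ r hr, mul_assoc]

theorem not_right_le_left : ¬ A ≤ V := fun e => h.left_ne_right
  (Subgroup.eq_of_le_of_card_ge e (by rw [h.card_left, h.card_right])).symm

end FlagData

variable {Q P V A K : Subgroup G} {w : G} {q : ℕ}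

theorem FlagData.centralizer_eq (hCIT : IsCIT G)
    (h : FlagData (Subgroup.normalizer (Q : Set G)) P V A K w q) (hQ : IsPGroup 2 Q) :
    Q ≤ V ∧ Subgroup.centralizer (V : Set G) = V := by
  have hQV : Q ≤ V := h.le_left_of_normal hCIT hQ Subgroup.le_normalizer le_rfl
  refine ⟨hQV, le_antisymm (fun g hg => ?_) fun g hg => ?_⟩
  · have hc := Subgroup.mem_centralizer_iff.1 hg
    refine h.selfC g (mem_nz_of_conj fun x hx => ?_) fun v hv => (hc v hv).symm
    rwa [← hc x (hQV hx), mul_inv_cancel_right]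
  · exact Subgroup.mem_centralizer_iff.2 fun v hv => comm_of_sq_pair h.sq_left hv hg

/-- Flag data of `N(Q)` give flag data of `N(V)`. -/
theorem FlagData.upgrade (hCIT : IsCIT G) (hloc : LocalShape G)
    (h : FlagData (Subgroup.normalizer (Q : Set G)) P V A K w q) (hQ : IsPGroup 2 Q) :
    (Q ≤ V ∧ Subgroup.centralizer (V : Set G) = V) ∧
      ∃ K' w', FlagData (Subgroup.normalizer (V : Set G)) P V A K' w' q := by
  obtain ⟨hQV, hVV⟩ := h.centralizer_eq hCIT hQ
  refine ⟨⟨hQV, hVV⟩, ?_⟩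
  obtain ⟨P', hPP', hP'N, hP', hmax⟩ :=
    exists_max_two (h.le_top.trans h.norm_left) h.isPGroup
  have hnot : ¬ Subgroup.normalizer (V : Set G) ≤ Subgroup.normalizer (P' : Set G) := by
    intro hle
    have e : P' ⊓ Subgroup.normalizer (Q : Set G) = P :=
      h.maximal _ (le_inf hPP' h.le_top) inf_le_right hP'.to_inf_left
    refine h.weyl_not (mem_nz_of_conj fun p hp => e.le ⟨?_, ?_⟩)
    · exact conj_mem_of_nz (hle (h.norm_left h.weyl_mem)) (hPP' hp)
    · exact (Subgroup.normalizer (Q : Set G)).mul_mem ((Subgroup.normalizer (Q : Set G)).mul_mem h.weyl_mem (h.le_top hp))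
        ((Subgroup.normalizer (Q : Set G)).inv_mem h.weyl_mem)
  have hV1 : V ≠ ⊥ := fun e => by
    obtain ⟨z, hz, hz1⟩ := h.exists_ne_one
    exact hz1 (Subgroup.mem_bot.1 (e ▸ hz.1))
  have hle : ∀ R, R ≤ P' → Subgroup.normalizer (V : Set G) ≤ Subgroup.normalizer (R : Set G) →
      R ≤ V := fun R hR hn => h.le_left_of_normal' hCIT hVV (hP'.to_le hR) (hR.trans hP'N) hn
  have hVP' : V ≤ P' := h.left_le.trans hPP'
  have hAP' : A ≤ P' := h.right_le.trans hPP'
  have hcVA : Nat.card V = Nat.card A := by rw [h.card_left, h.card_right]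
  rcases hloc V hV1 (isPGroup_two_of_sq h.sq_left) P' hP'N hP' hmax hnot with
    ⟨R, hRn, hRP, hall⟩ | ⟨U, hU, -, hUn, huniq, B, hB, hBU⟩ | ⟨V', A', K', w', q', h'⟩
  · exfalso
    obtain ⟨B, hB⟩ := exists_member P'
    have hBV := (hall B hB).trans (hle R hRP hRn)
    have hBA : IsMember P' A := ⟨hAP', h.sq_right, fun C hC hC2 =>
      (hB.2.2 C hC hC2).trans ((Subgroup.card_le_of_le hBV).trans hcVA.le)⟩
    exact h.not_right_le_left ((hall A hBA).trans (hle R hRP hRn))
  · exfalso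
    have hUV : U = V := Subgroup.eq_of_le_of_card_ge (hle U hU.1 hUn)
      (hU.2.2 V hVP' h.sq_left)
    subst hUV
    have hA' : IsMember P' A :=
      ⟨hAP', h.sq_right, fun C hC hC2 => (hU.2.2 C hC hC2).trans hcVA.le⟩
    rw [hVV, inf_eq_right.2 hVP'] at hBU
    have hdec : ∀ x ∈ P', ∃ v ∈ U, ∃ b ∈ B, x = v * b := fun x hx => by
      rw [← hBU, ← SetLike.mem_coe, Subgroup.coe_mul_of_right_le_normalizer_left U B
        (hB.1.trans hP'N)] at hx
      obtain ⟨v, hv, b, hb, e⟩ := hx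
      exact ⟨v, hv, b, hb, e.symm⟩
    have hPn : P' ≤ Subgroup.normalizer (P : Set G) := by
      intro x hx
      obtain ⟨v, hv, b, hb, rfl⟩ := hdec x hx
      refine mul_mem (Subgroup.le_normalizer (h.left_le hv)) (mem_nz_of_conj fun p hp => ?_)
      obtain ⟨v', hv', b', hb', rfl⟩ := hdec p (hPP' hp)
      have hbv := conj_mem_of_nz (hP'N (hB.1 hb)) hv'
      have e : b * (v' * b') * b⁻¹ = (b * v' * b⁻¹ * v'⁻¹) * (v' * b') := by
        rw [show b * (v' * b') * b⁻¹ = b * v' * (b' * b⁻¹) by group,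
          comm_of_sq_pair hB.2.1 hb' (inv_mem hb)]
        group
      rw [e]
      exact P.mul_mem (h.left_le (U.mul_mem hbv (U.inv_mem hv'))) hp
    refine h.left_ne_right (huniq A hA' fun x hx => nz_of_cj_eq ?_).symm
    refine (h.member_eq (h.isMember_right.of_nz (hPn hx))).resolve_left fun e => ?_
    refine h.left_ne_right ?_
    have h1 := congrArg (cj x⁻¹) e
    rw [cj_cj, inv_mul_cancel, cj_one, cj_eq_of_nz (hP'N (inv_mem hx))] at h1
    exact h1.symm
  · have hV' : V' ≤ V := hle V' h'.left_le h'.norm_left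
    have hqq : q = q' := by
      refine Nat.pow_left_injective (n := 2) (by norm_num) (le_antisymm ?_ ?_)
      · show q ^ 2 ≤ q' ^ 2
        exact h.card_left ▸ h'.member_le hVP' h.sq_left
      · show q' ^ 2 ≤ q ^ 2
        exact h.card_left ▸ h'.card_left ▸ Subgroup.card_le_of_le hV'
    subst hqq
    have hVe : V' = V := Subgroup.eq_of_le_of_card_ge hV' (by rw [h.card_left, h'.card_left])
    subst hVe
    have hA' : A = A' := (h'.member_eq ⟨hAP', h.sq_right, fun C hC hC2 =>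
      h.card_right.symm ▸ h'.member_le hC hC2⟩).resolve_left h.left_ne_right.symm
    subst hA'
    exact ⟨K', w', (h'.eq_sup.trans h.eq_sup.symm) ▸ h'⟩

end Cfsg.Agent.Lib.CIT
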