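import Cfsg.Agent.Lib.CIT.StrongControl
import Cfsg.Agent.Lib.CIT.Deficient
import Cfsg.Agent.Lib.CIT.FlagBound

/-!
The global analysis of a simple CIT group: a strongly embedded subgroup, a self-centralising four
group, or the configuration of order 64.  Written by helper24.
-/

set_option autoImplicit false

namespace Cfsg.Agent.Lib.CIT

open Cfsg.Agent.Lib.SECount

variable {G : Type*} [Group G] [Finite G]

theorem isPGroup_normal_eq_bot [IsSimpleGroup G] (hnc : ∃ a b : G, a * b ≠ b * a) {X : Subgroup G}
    (hX : IsPGroup 2 X) (hn : Subgroup.normalizer (X : Set G) = ⊤) : X = ⊥ := by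
  have : Fact (Nat.Prime 2) := ⟨Nat.prime_two⟩
  refine (Subgroup.normalizer_eq_top_iff.1 hn).eq_bot_or_eq_top.resolve_right fun e => ?_
  subst e
  have hG : IsPGroup 2 G := hX.of_equiv Subgroup.topEquiv
  have := hG.center_nontrivial
  rcases (inferInstance : (Subgroup.center G).Normal).eq_bot_or_eq_top with hc | hc
  · exact (Subgroup.nontrivial_iff_ne_bot _).1 this hc
  · obtain ⟨a, b, hab⟩ := hnc
    exact hab (Subgroup.mem_center_iff.1 (hc.ge (Subgroup.mem_top b)) a)

theorem index_ne_two [IsSimpleGroup G] (hnc : ∃ a b : G, a * b ≠ b * a) (H : Subgroup G) :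
    H.index ≠ 2 := by
  intro hi
  have := Subgroup.normal_of_index_eq_two hi
  rcases this.eq_bot_or_eq_top with rfl | rfl
  · rw [Subgroup.index_bot] at hi
    have : Fact (Nat.Prime 2) := ⟨Nat.prime_two⟩
    have := isCyclic_of_prime_card hi
    letI := IsCyclic.commGroup (α := G)
    obtain ⟨a, b, hab⟩ := hnc
    exact hab (mul_comm a b)
  · rw [Subgroup.index_top] at hi
    omega

/-- **Global analysis.** A nonabelian simple group of even order in which the centralisers of
involutions are 2-groups, whose 2-locals have one of the three shapes, has a strongly embedded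
subgroup, a self-centralising four group, or the configuration of order 64. -/
theorem global_outcome [IsSimpleGroup G] (hnc : ∃ a b : G, a * b ≠ b * a) (h2 : 2 ∣ Nat.card G)
    (hCIT : IsCIT G) (hloc : LocalShape G) : GlobalOutcome G := by
  have : Fact (Nat.Prime 2) := ⟨Nat.prime_two⟩
  by_cases hfour : ∃ (P V A K : Subgroup G) (w : G) (q : ℕ),
      FlagData (Subgroup.normalizer (V : Set G)) P V A K w q ∧
        Subgroup.centralizer (V : Set G) = V ∧ q = 2
  · obtain ⟨P, V, A, K, w, q, h, hVV, rfl⟩ := hfour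
    exact Or.inr (Or.inl ⟨V, by rw [h.card_left]; norm_num, h.sq_left, hVV⟩)
  have hsyl : ∀ (P V A K : Subgroup G) (w : G) (q : ℕ),
      FlagData (Subgroup.normalizer (V : Set G)) P V A K w q →
      Subgroup.centralizer (V : Set G) = V → ∃ S : Sylow 2 G, (S : Subgroup G) = P := by
    intro P V A K w q h hVV
    obtain ⟨S, hS⟩ := h.isPGroup.exists_le_sylow
    exact ⟨S, ((h.eq_sylow_or hCIT (index_ne_two hnc) S hS).resolve_right
      fun e => hfour ⟨P, V, A, K, w, q, h, hVV, e⟩).symm⟩
  have hne : ∀ S : Sylow 2 G, (S : Subgroup G) ≠ ⊥ := fun S => S.ne_bot_of_dvd_card h2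
  have htop : ∀ X : Subgroup G, IsPGroup 2 X → X ≠ ⊥ → Subgroup.normalizer (X : Set G) ≠ ⊤ :=
    fun X hX hX1 e => hX1 (isPGroup_normal_eq_bot hnc hX e)
  by_cases hflagex : ∃ (P V A K : Subgroup G) (w : G) (q : ℕ),
      FlagData (Subgroup.normalizer (V : Set G)) P V A K w q ∧
        Subgroup.centralizer (V : Set G) = V
  · obtain ⟨P, V, A, K, w, q, h, hVV⟩ := hflagex
    obtain ⟨S, rfl⟩ := hsyl P V A K w q h hVV
    have hSA := h.top_le_normalizer_right
    have hVS : (S : Subgroup G) ≤ Subgroup.normalizer (V : Set G) := h.le_top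
    by_cases hA : Subgroup.normalizer (A : Set G) ≤ Subgroup.normalizer ((S : Subgroup G) : Set G)
    · have hSM : (S : Subgroup G) ≤ Subgroup.normalizer (V : Set G) := hVS
      have hV1 : V ≠ ⊥ := h.isMember_left.ne_bot h.isPGroup (hne S)
      refine Or.inl ⟨_, stronglyEmbedded_of_controls hCIT hloc
        (htop V (isPGroup_two_of_sq h.sq_left) hV1) S (hne S) hSM ⟨?_, fun U hU => ?_⟩ ?_⟩
      · rw [h.memberJoin_eq]
        intro x hx
        refine nz_of_cj_eq ((h.member_eq (h.isMember_left.of_nz hx)).resolve_right fun e => ?_)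
        refine h.weyl_not ?_
        have h1 : x * w * x⁻¹ ∈ Subgroup.normalizer (A : Set G) := by
          refine nz_of_cj_eq ?_
          rw [← e, cj_cj, show x * w * x⁻¹ * x = x * w by group, ← cj_cj,
            cj_eq_of_nz h.weyl_mem]
        have h2 := (Subgroup.normalizer ((S : Subgroup G) : Set G)).mul_mem
          ((Subgroup.normalizer ((S : Subgroup G) : Set G)).mul_mem
            ((Subgroup.normalizer ((S : Subgroup G) : Set G)).inv_mem hx) (hA h1)) hx
        simpa [mul_assoc] using h2
      · exact absurd ((hU.2.2 V h.isMember_left hVS).trans (hU.2.2 A h.isMember_right hSA).symm)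
          h.left_ne_right
      · intro P' V' A' K' w' q' hP'M h' hVV'
        obtain ⟨S', rfl⟩ := hsyl P' V' A' K' w' q' h' hVV'
        obtain ⟨m, hm, e⟩ := exists_cj_of_max S hSM hP'M h'.isPGroup
          fun P'' h1 _ h3 => S'.is_maximal' h3 h1
        have hmem := h'.isMember_left.cj m⁻¹
        rw [e, cj_cj, inv_mul_cancel, cj_one] at hmem
        rcases h.member_eq hmem with hV' | hV'
        · have h3 := normalizer_cj_le hm (le_of_eq (congrArg (fun X : Subgroup G =>
            Subgroup.normalizer (X : Set G)) hV'))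
          rwa [cj_cj, mul_inv_cancel, cj_one] at h3
        · refine absurd (nz_of_cj_eq ?_) h'.weyl_not
          have h1 : m⁻¹ * w' * m ∈ Subgroup.normalizer (A : Set G) := by
            refine nz_of_cj_eq ?_
            rw [← hV', cj_cj, show m⁻¹ * w' * m * m⁻¹ = m⁻¹ * w' by group, ← cj_cj,
              cj_eq_of_nz h'.weyl_mem]
          have h2 := cj_eq_of_nz (hA h1)
          calc cj w' (S' : Subgroup G) = cj m (cj (m⁻¹ * w' * m) (S : Subgroup G)) := by
                rw [e, cj_cj, cj_cj]; congr 1; group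
            _ = (S' : Subgroup G) := by rw [h2, ← e]
    · have hA1 : A ≠ ⊥ := h.isMember_right.ne_bot h.isPGroup (hne S)
      rcases hloc A hA1 (isPGroup_two_of_sq h.sq_right) S hSA S.isPGroup'
          (fun P' h1 _ h3 => S.is_maximal' h3 h1) hA with
        ⟨R, hRn, hRS, hall⟩ | ⟨U, hU, hUS, -, huniq, -⟩ | ⟨V', A', K', w', q', h'⟩
      · refine absurd ?_ hA
        have : R = (S : Subgroup G) := le_antisymm hRS
          (h.eq_sup.le.trans (sup_le (hall V h.isMember_left) (hall A h.isMember_right)))
        exact this ▸ hRn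
      · exact absurd ((huniq V h.isMember_left hVS).trans (huniq A h.isMember_right hSA).symm)
          h.left_ne_right
      · obtain ⟨⟨hAV', hVV'⟩, K'', w'', h''⟩ := h'.upgrade hCIT hloc (isPGroup_two_of_sq h.sq_right)
        obtain rfl : A = V' := by
          rcases h.member_eq h''.isMember_left with e | e
          · exact absurd (e ▸ hAV') h.not_right_le_left
          · exact e.symm
        obtain rfl : V = A' := by
          rcases h.member_eq h''.isMember_right with e | e
          · exact e.symm
          · exact absurd e.symm h''.left_ne_right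
        rcases h.flagFour_or hCIT S h'' with e | e
        · exact absurd ⟨_, V, A, K, w, q, h, hVV, e⟩ hfour
        · exact Or.inr (Or.inr ⟨S, V, A, e⟩)
  · obtain ⟨S⟩ := (inferInstance : Nonempty (Sylow 2 G))
    have hS := hne S
    have hSN : ∀ X : Subgroup G, Subgroup.normalizer ((S : Subgroup G) : Set G) ≤
        Subgroup.normalizer (X : Set G) → (S : Subgroup G) ≤ Subgroup.normalizer (X : Set G) :=
      fun X hX => Subgroup.le_normalizer.trans hX
    have hnoflag : ∀ (Q P V A K : Subgroup G) (w : G) (q : ℕ), IsPGroup 2 Q →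
        ¬ FlagData (Subgroup.normalizer (Q : Set G)) P V A K w q := by
      intro Q P V A K w q hQ h
      obtain ⟨⟨-, hVV⟩, K', w', h'⟩ := h.upgrade hCIT hloc hQ
      exact hflagex ⟨P, V, A, K', w', q, h', hVV⟩
    set J := memberJoin (S : Subgroup G) with hJdef
    have hJ : IsPGroup 2 J := S.isPGroup'.to_le (memberJoin_le _)
    have hJ1 : J ≠ ⊥ := memberJoin_ne_bot S.isPGroup' hS
    have hSJ := hSN J (normalizer_le_normalizer_memberJoin _)
    -- a proper subgroup containing both normalisers
    have hex : ∃ M : Subgroup G, M ≠ ⊤ ∧ Controls M (S : Subgroup G) := by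
      by_cases hU : ∃ U, IsUnique (S : Subgroup G) U
      swap
      · exact ⟨_, htop J hJ hJ1, le_rfl, fun U hU' => absurd ⟨U, hU'⟩ hU⟩
      obtain ⟨U, hU⟩ := hU
      have hUp : IsPGroup 2 U := S.isPGroup'.to_le hU.1.1
      have hU1 : U ≠ ⊥ := hU.1.ne_bot S.isPGroup' hS
      have hMU : Subgroup.normalizer (J : Set G) ≤ Subgroup.normalizer (U : Set G) →
          ∃ M : Subgroup G, M ≠ ⊤ ∧ Controls M (S : Subgroup G) := fun hle =>
        ⟨_, htop U hUp hU1, hle, fun U' hU' => by rw [hU'.eq hU]⟩
      have hMJ : Subgroup.normalizer (U : Set G) ≤ Subgroup.normalizer (J : Set G) →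
          ∃ M : Subgroup G, M ≠ ⊤ ∧ Controls M (S : Subgroup G) := fun hle =>
        ⟨_, htop J hJ hJ1, le_rfl, fun U' hU' => by rw [hU'.eq hU]; exact hle⟩
      by_cases hJS : Subgroup.normalizer (J : Set G) ≤ Subgroup.normalizer ((S : Subgroup G) : Set G)
      · exact hMU (hJS.trans hU.normalizer_le)
      by_cases hUS : Subgroup.normalizer (U : Set G) ≤ Subgroup.normalizer ((S : Subgroup G) : Set G)
      · exact hMJ (hUS.trans (normalizer_le_normalizer_memberJoin _))
      have hmax : ∀ X : Subgroup G, ∀ P' : Subgroup G, (S : Subgroup G) ≤ P' → P' ≤ X →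
          IsPGroup 2 P' → P' = (S : Subgroup G) := fun X P' h1 _ h3 => S.is_maximal' h3 h1
      rcases hloc J hJ1 hJ S hSJ S.isPGroup' (hmax _) hJS with
        ⟨R, hRn, hRS, hall⟩ | ⟨U', hU', hU'S, hU'n, huniq', -⟩ | ⟨V, A, K, w, q, h⟩
      rotate_left
      · exact hMU (IsUnique.eq ⟨hU', hU'S, huniq'⟩ hU ▸ hU'n)
      · exact absurd h (hnoflag J _ V A K w q hJ)
      rcases hloc U hU1 hUp S hU.2.1 S.isPGroup' (hmax _) hUS with
        ⟨R', hR'n, hR'S, hall'⟩ | ⟨U', hU', hU'S, -, huniq', B, hB, hBU⟩ | ⟨V, A, K, w, q, h⟩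
      · exact hMJ (le_normalizer_memberJoin hR'n hR'S hall')
      · exfalso
        obtain rfl : U' = U := IsUnique.eq ⟨hU', hU'S, huniq'⟩ hU
        have hcen : ∀ z ∈ R, z * z = 1 → (∀ r ∈ R, r * z = z * r) →
            (S : Subgroup G) ≤ Subgroup.centralizer ({z} : Set G) := by
          intro z hz hz2 hzc
          have hzn : Subgroup.zpowers z ≤ Subgroup.normalizer (U' : Set G) :=
            Subgroup.zpowers_le.2 (mem_nz_of_conj fun u hu => by
              rwa [← hzc u (hall U' hU' hu), mul_inv_cancel_right])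
          have hzU : z ∈ U' := by
            have hC : U' ⊔ Subgroup.zpowers z = U' := by
              refine le_antisymm ?_ le_sup_left
              refine (Subgroup.eq_of_le_of_card_ge le_sup_left (hU'.2.2 _
                (sup_le hU'.1 (Subgroup.zpowers_le.2 (hRS hz))) fun x hx => ?_)).ge
              rw [← SetLike.mem_coe, Subgroup.coe_mul_of_right_le_normalizer_left _ _ hzn] at hx
              obtain ⟨u, hu, y, hy, (rfl : u * y = x)⟩ := hx
              rcases two_mul_of_sq hz hz2 y hy with rfl | rfl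
              · rw [mul_one]; exact hU'.2.1 u hu
              · calc u * y * (u * y) = u * (y * u) * y := by group
                  _ = u * (u * y) * y := by rw [hzc u (hall U' hU' hu)]
                  _ = (u * u) * (y * y) := by group
                  _ = 1 := by rw [hU'.2.1 u hu, hz2, one_mul]
            exact hC.le (Subgroup.mem_sup_right (Subgroup.mem_zpowers z))
          refine hBU.ge.trans (sup_le (fun x hx => ?_) fun x hx => ?_)
          · exact Subgroup.mem_centralizer_singleton_iff.2
              (Subgroup.mem_centralizer_iff.1 hx.2 z hzU).symm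
          · exact Subgroup.mem_centralizer_singleton_iff.2 (hzc x (hall B hB hx))
        have hR : IsPGroup 2 R := S.isPGroup'.to_le hRS
        have : Nontrivial R := (Subgroup.nontrivial_iff_ne_bot _).2
          (ne_bot_of_le_ne_bot hU1 (hall U' hU'))
        have := hR.center_nontrivial
        obtain ⟨n, hn0, hn⟩ := (hR.to_subgroup (Subgroup.center R)).nontrivial_iff_card.1 this
        obtain ⟨z, hz⟩ := exists_prime_orderOf_dvd_card' (G := Subgroup.center R) 2
          (hn ▸ dvd_pow_self 2 hn0.ne')
        rw [← Subgroup.orderOf_coe, ← Subgroup.orderOf_coe] at hz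
        set z₀ : G := ((z : R) : G)
        have hz₀R : z₀ ∈ R := (z : R).2
        have hzc : ∀ r ∈ R, r * z₀ = z₀ * r := fun r hr =>
          congrArg Subtype.val (Subgroup.mem_center_iff.1 z.2 ⟨r, hr⟩)
        obtain ⟨y, hy, hyS⟩ := SetLike.not_le_iff_exists.1 hJS
        have hyR := hRn hy
        set z' := y * z₀ * y⁻¹ with hz'
        have hz'o : orderOf z' = 2 := (orderOf_conj_eq y z₀).trans hz
        have hz'c : ∀ r ∈ R, r * z' = z' * r := fun r hr => by
          calc r * z' = y * ((y⁻¹ * r * y) * z₀) * y⁻¹ := by rw [hz']; group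
            _ = y * (z₀ * (y⁻¹ * r * y)) * y⁻¹ := by rw [hzc _ (inv_conj_mem_of_nz hyR hr)]
            _ = z' * r := by rw [hz']; group
        have hS' := S.is_maximal' (hCIT z' hz'o)
          (hcen z' (conj_mem_of_nz hyR hz₀R) (invo_sq hz'o) hz'c)
        refine hyS (mem_nz_of_conj fun s hs => hS'.le ?_)
        refine Subgroup.mem_centralizer_singleton_iff.2 ?_
        have hsz := Subgroup.mem_centralizer_singleton_iff.1
          (hcen z₀ hz₀R (invo_sq hz) hzc hs)
        calc y * s * y⁻¹ * z' = y * (s * z₀) * y⁻¹ := by rw [hz']; group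
          _ = y * (z₀ * s) * y⁻¹ := by rw [hsz]
          _ = z' * (y * s * y⁻¹) := by rw [hz']; group
      · exact absurd h (hnoflag U _ V A K w q hUp)
    obtain ⟨M, hM, hc⟩ := hex
    refine Or.inl ⟨M, stronglyEmbedded_of_controls hCIT hloc hM S hS (hSJ.trans hc.1) hc ?_⟩
    intro P V A K w q _ h hVV
    exact absurd ⟨P, V, A, K, w, q, h, hVV⟩ hflagex

end Cfsg.Agent.Lib.CIT
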