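import Cfsg.Agent.Lib.CIT.Shape

/-!
Global analysis of CIT groups, basic lemmas: maximal 2-subgroups, members, and consequences of
`FlagData`.  Written by helper24.
-/

set_option autoImplicit false

namespace Cfsg.Agent.Lib.CIT

open Cfsg.Agent.Lib.SECount

variable {G : Type*} [Group G]

theorem conj_mem_of_nz {H : Subgroup G} {g x : G} (hg : g ∈ Subgroup.normalizer (H : Set G))
    (hx : x ∈ H) : g * x * g⁻¹ ∈ H :=
  (Subgroup.mem_normalizer_iff.1 hg x).1 hx

theorem inv_conj_mem_of_nz {H : Subgroup G} {g x : G} (hg : g ∈ Subgroup.normalizer (H : Set G))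
    (hx : x ∈ H) : g⁻¹ * x * g ∈ H := by
  simpa using conj_mem_of_nz ((Subgroup.normalizer (H : Set G)).inv_mem hg) hx

theorem mem_nz_of_conj [Finite G] {H : Subgroup G} {g : G} (h : ∀ x ∈ H, g * x * g⁻¹ ∈ H) :
    g ∈ Subgroup.normalizer (H : Set G) := by
  have hsurj := (Finite.injective_iff_surjective (f := fun x : H => (⟨g * x * g⁻¹, h x x.2⟩ : H))).1
    (fun a b e => Subtype.ext (by simpa using congrArg Subtype.val e))
  refine Subgroup.mem_normalizer_iff.2 fun x => ⟨h x, fun hx => ?_⟩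
  obtain ⟨y, hy⟩ := hsurj ⟨_, hx⟩
  have : (y : G) = x := by simpa using congrArg Subtype.val hy
  exact this ▸ y.2

/-- The conjugate `g H g⁻¹`. -/
abbrev cj (g : G) (H : Subgroup G) : Subgroup G := H.map (MulAut.conj g).toMonoidHom

theorem mem_cj {H : Subgroup G} {g x : G} : x ∈ cj g H ↔ g⁻¹ * x * g ∈ H :=
  mem_map_conj

theorem card_cj (H : Subgroup G) (g : G) : Nat.card (cj g H) = Nat.card H :=
  Subgroup.card_map_of_injective (MulAut.conj g).injective

theorem cj_eq_of_nz {H : Subgroup G} {g : G} (hg : g ∈ Subgroup.normalizer (H : Set G)) :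
    cj g H = H :=
  Subgroup.mem_normalizer_iff_map_conj_eq.1 hg

theorem nz_of_cj_eq {H : Subgroup G} {g : G} (hg : cj g H = H) :
    g ∈ Subgroup.normalizer (H : Set G) :=
  Subgroup.mem_normalizer_iff_map_conj_eq.2 hg

theorem cj_cj (H : Subgroup G) (g h : G) : cj g (cj h H) = cj (g * h) H := by
  ext x
  simp only [mem_cj]
  group

theorem cj_one (H : Subgroup G) : cj 1 H = H := by
  ext x
  simp [mem_cj]

theorem mem_nz_cj {H : Subgroup G} {g x : G}
    (hx : x ∈ Subgroup.normalizer (cj g H : Set G)) :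
    g⁻¹ * x * g ∈ Subgroup.normalizer (H : Set G) := by
  refine nz_of_cj_eq ?_
  have h := congrArg (cj g⁻¹) (cj_eq_of_nz hx)
  rw [cj_cj, cj_cj, cj_cj, inv_mul_cancel, cj_one] at h
  simpa [mul_assoc] using h

theorem isPGroup_two_of_sq {H : Subgroup G} (h : ∀ x ∈ H, x * x = 1) : IsPGroup 2 H :=
  fun x => ⟨1, Subtype.ext (by simpa [pow_two] using h x x.2)⟩

theorem inv_eq_of_sq {H : Subgroup G} (h : ∀ x ∈ H, x * x = 1) {x : G} (hx : x ∈ H) : x⁻¹ = x :=
  inv_eq_of_mul_eq_one_right (h x hx)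

theorem comm_of_sq_pair {H : Subgroup G} (h : ∀ x ∈ H, x * x = 1) {x y : G} (hx : x ∈ H) (hy : y ∈ H) :
    x * y = y * x := by
  have h1 := inv_eq_of_sq h (H.mul_mem hx hy)
  rwa [mul_inv_rev, inv_eq_of_sq h hx, inv_eq_of_sq h hy, eq_comm] at h1

theorem two_mul_of_sq {H : Subgroup G} {x : G} (hx : x ∈ H) (h : x * x = 1) :
    ∀ y ∈ Subgroup.zpowers x, y = 1 ∨ y = x := by
  rintro y ⟨k, rfl⟩
  obtain ⟨j, rfl | rfl⟩ := Int.even_or_odd' k
  · exact Or.inl (by simp [zpow_mul, zpow_two, pow_two, h])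
  · exact Or.inr (by simp [zpow_add, zpow_mul, zpow_two, pow_two, h])

theorem exists_max_two [Finite G] {P H : Subgroup G} (hPH : P ≤ H) (hP : IsPGroup 2 P) :
    ∃ P' : Subgroup G, P ≤ P' ∧ P' ≤ H ∧ IsPGroup 2 P' ∧
      ∀ P'' : Subgroup G, P' ≤ P'' → P'' ≤ H → IsPGroup 2 P'' → P'' = P' := by
  obtain ⟨P', hP', hmax⟩ := (Set.toFinite {X : Subgroup G | P ≤ X ∧ X ≤ H ∧ IsPGroup 2 X}).exists_maximal
    ⟨P, le_rfl, hPH, hP⟩
  exact ⟨P', hP'.1, hP'.2.1, hP'.2.2,
    fun P'' h1 h2 h3 => le_antisymm (hmax ⟨hP'.1.trans h1, h2, h3⟩ h1) h1⟩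

theorem lt_inf_nz [Finite G] {S T : Subgroup G} (hS : IsPGroup 2 S) (hT : T < S) :
    T < S ⊓ Subgroup.normalizer (T : Set G) := by
  have : Fact (Nat.Prime 2) := ⟨Nat.prime_two⟩
  have : Group.IsNilpotent S := hS.isNilpotent
  refine lt_of_le_of_ne (le_inf hT.le Subgroup.le_normalizer) fun he => ?_
  have h1 : T.subgroupOf S < ⊤ :=
    lt_top_iff_ne_top.mpr fun h => hT.not_ge (Subgroup.subgroupOf_eq_top.mp h)
  obtain ⟨x, hx, hxT⟩ := SetLike.exists_of_lt (Group.normalizerCondition_of_isNilpotent (G := S) _ h1)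
  refine hxT ?_
  rw [Subgroup.mem_subgroupOf, he]
  refine ⟨x.2, mem_nz_of_conj fun y hy => ?_⟩
  simpa [Subgroup.mem_subgroupOf] using
    conj_mem_of_nz hx (show (⟨y, hT.le hy⟩ : S) ∈ T.subgroupOf S from hy)

/-- A 2-group inside `Y` normalizing a maximal 2-subgroup `P` of `Y` lies in it. -/
theorem le_of_max [Finite G] {P Y H : Subgroup G} (hP : IsPGroup 2 P) (hPY : P ≤ Y)
    (hmax : ∀ P' : Subgroup G, P ≤ P' → P' ≤ Y → IsPGroup 2 P' → P' = P) (hH : IsPGroup 2 H)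
    (hHY : H ≤ Y) (hn : H ≤ Subgroup.normalizer (P : Set G)) : H ≤ P :=
  (hmax (H ⊔ P) le_sup_right (sup_le hHY hPY) (hH.to_sup_of_normal_right' hP hn)) ▸ le_sup_left

/-! ## Members -/

theorem exists_member [Finite G] (P : Subgroup G) : ∃ B, IsMember P B := by
  obtain ⟨B, hB, hmax⟩ := Set.exists_max_image {C : Subgroup G | C ≤ P ∧ ∀ x ∈ C, x * x = 1}
    (fun C => Nat.card C) (Set.toFinite _) ⟨⊥, bot_le, fun x hx => by simp [Subgroup.mem_bot.1 hx]⟩
  exact ⟨B, hB.1, hB.2, fun C h1 h2 => hmax C ⟨h1, h2⟩⟩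

theorem IsMember.card_eq {P B C : Subgroup G} (hB : IsMember P B) (hC : IsMember P C) :
    Nat.card B = Nat.card C :=
  le_antisymm (hC.2.2 B hB.1 hB.2.1) (hB.2.2 C hC.1 hC.2.1)

theorem IsMember.cj {P B : Subgroup G} (h : IsMember P B) (g : G) :
    IsMember (cj g P) (cj g B) := by
  refine ⟨Subgroup.map_mono h.1, fun x hx => ?_, fun C hC hC2 => ?_⟩
  · have h1 := h.2.1 _ (mem_cj.1 hx)
    calc x * x = g * ((g⁻¹ * x * g) * (g⁻¹ * x * g)) * g⁻¹ := by group
      _ = 1 := by rw [h1]; group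
  · rw [card_cj]
    refine le_of_eq_of_le (card_cj C g⁻¹).symm (h.2.2 _ (fun x hx => ?_) fun x hx => ?_)
    · simpa [mul_assoc] using mem_cj.1 (hC (mem_cj.1 hx))
    · have h1 := hC2 _ (mem_cj.1 hx)
      calc x * x = g⁻¹ * ((g⁻¹⁻¹ * x * g⁻¹) * (g⁻¹⁻¹ * x * g⁻¹)) * g := by group
        _ = 1 := by rw [h1]; group

theorem IsMember.of_nz {P B : Subgroup G} {g : G} (h : IsMember P B)
    (hg : g ∈ Subgroup.normalizer (P : Set G)) : IsMember P (CIT.cj g B) := by
  have := h.cj g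
  rwa [cj_eq_of_nz hg] at this

theorem IsMember.ne_bot [Finite G] {P B : Subgroup G} (h : IsMember P B) (hP : IsPGroup 2 P)
    (hP1 : P ≠ ⊥) : B ≠ ⊥ := by
  intro hB
  have : Fact (Nat.Prime 2) := ⟨Nat.prime_two⟩
  have : Nontrivial P := (Subgroup.nontrivial_iff_ne_bot P).2 hP1
  obtain ⟨n, hn0, hn⟩ := hP.nontrivial_iff_card.1 this
  obtain ⟨x, hx⟩ := exists_prime_orderOf_dvd_card' (G := P) 2 (hn ▸ dvd_pow_self 2 hn0.ne')
  rw [← Subgroup.orderOf_coe] at hx
  have h1 := h.2.2 (Subgroup.zpowers (x : G)) (Subgroup.zpowers_le.2 x.2) fun y hy => by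
    rcases two_mul_of_sq x.2 (invo_sq hx) y hy with rfl | rfl
    · exact one_mul 1
    · exact invo_sq hx
  rw [Nat.card_zpowers, hx, hB, Subgroup.card_bot] at h1
  omega

/-- The join of all members. -/
def memberJoin (P : Subgroup G) : Subgroup G := sSup {B | IsMember P B}

theorem memberJoin_le (P : Subgroup G) : memberJoin P ≤ P := sSup_le fun _ hB => hB.1

theorem IsMember.le_join {P B : Subgroup G} (h : IsMember P B) : B ≤ memberJoin P := le_sSup h

theorem memberJoin_ne_bot [Finite G] {P : Subgroup G} (hP : IsPGroup 2 P) (hP1 : P ≠ ⊥) :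
    memberJoin P ≠ ⊥ := by
  obtain ⟨B, hB⟩ := exists_member P
  exact fun h => hB.ne_bot hP hP1 (le_bot_iff.1 (h ▸ hB.le_join))

theorem cj_memberJoin (P : Subgroup G) (g : G) : cj g (memberJoin P) = memberJoin (cj g P) := by
  have key : ∀ (Q : Subgroup G) (a : G), cj a (memberJoin Q) ≤ memberJoin (cj a Q) := fun Q a =>
    Subgroup.map_le_iff_le_comap.2 <| sSup_le fun B hB =>
      Subgroup.map_le_iff_le_comap.1 (hB.cj a).le_join
  refine le_antisymm (key P g) ?_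
  have := Subgroup.map_mono (f := (MulAut.conj g).toMonoidHom) (key (cj g P) g⁻¹)
  change cj g (cj g⁻¹ (memberJoin (cj g P))) ≤ cj g (memberJoin (cj g⁻¹ (cj g P))) at this
  rwa [cj_cj, cj_cj, mul_inv_cancel, inv_mul_cancel, cj_one, cj_one] at this

theorem normalizer_le_normalizer_memberJoin (P : Subgroup G) :
    Subgroup.normalizer (P : Set G) ≤ Subgroup.normalizer (memberJoin P : Set G) :=
  fun g hg => nz_of_cj_eq (by rw [cj_memberJoin, cj_eq_of_nz hg])

/-- If a subgroup `R` normalized by `Y` contains all members of `P ≥ R`, the join of the members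
of `P` is normalized by `Y`. -/
theorem le_normalizer_memberJoin [Finite G] {P R Y : Subgroup G}
    (hY : Y ≤ Subgroup.normalizer (R : Set G)) (hRP : R ≤ P) (hall : ∀ B, IsMember P B → B ≤ R) :
    Y ≤ Subgroup.normalizer (memberJoin P : Set G) := by
  have hR : ∀ B, IsMember P B ↔ IsMember R B := fun B =>
    ⟨fun h => ⟨hall B h, h.2.1, fun C hC => h.2.2 C (hC.trans hRP)⟩,
      fun h => ⟨h.1.trans hRP, h.2.1, fun C hC hC2 => by
        by_contra hlt
        obtain ⟨D, hD, hmax⟩ := Set.exists_max_image {D : Subgroup G | D ≤ P ∧ ∀ x ∈ D, x * x = 1}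
          (fun D => Nat.card D) (Set.toFinite _) ⟨C, hC, hC2⟩
        have hDm : IsMember P D := ⟨hD.1, hD.2, fun E h1 h2 => hmax E ⟨h1, h2⟩⟩
        exact hlt ((hDm.2.2 C hC hC2).trans (h.2.2 D (hall D hDm) hD.2))⟩⟩
  have : memberJoin P = memberJoin R := by simp only [memberJoin, hR]
  rw [this]
  exact hY.trans (normalizer_le_normalizer_memberJoin R)

/-- `U` is the unique normal member of `P`. -/
def IsUnique (P U : Subgroup G) : Prop :=
  IsMember P U ∧ P ≤ Subgroup.normalizer (U : Set G) ∧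
    ∀ B, IsMember P B → P ≤ Subgroup.normalizer (B : Set G) → B = U

theorem le_normalizer_cj {H K : Subgroup G} (h : H ≤ Subgroup.normalizer (K : Set G)) (g : G) :
    cj g H ≤ Subgroup.normalizer (cj g K : Set G) := by
  intro x hx
  refine nz_of_cj_eq ?_
  have hb := cj_eq_of_nz (h (mem_cj.1 hx))
  calc cj x (cj g K) = cj g (cj (g⁻¹ * x * g) K) := by
        rw [cj_cj, cj_cj]; congr 1; group
    _ = cj g K := by rw [hb]

theorem IsUnique.cj {P U : Subgroup G} (h : IsUnique P U) (g : G) :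
    IsUnique (CIT.cj g P) (CIT.cj g U) := by
  refine ⟨h.1.cj g, le_normalizer_cj h.2.1 g, fun B hB hBn => ?_⟩
  have h1 := hB.cj g⁻¹
  have h2 := le_normalizer_cj hBn g⁻¹
  rw [cj_cj, inv_mul_cancel, cj_one] at h1 h2
  rw [← h.2.2 _ h1 h2, cj_cj, mul_inv_cancel, cj_one]

theorem IsUnique.eq {P U U' : Subgroup G} (h : IsUnique P U) (h' : IsUnique P U') : U = U' :=
  h'.2.2 U h.1 h.2.1

theorem IsUnique.normalizer_le {P U : Subgroup G} (h : IsUnique P U) :
    Subgroup.normalizer (P : Set G) ≤ Subgroup.normalizer (U : Set G) := fun g hg =>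
  nz_of_cj_eq (IsUnique.eq (by have := h.cj g; rwa [cj_eq_of_nz hg] at this) h)

/-! ## Consequences of the flag data -/

namespace FlagData

variable {Y P V A K : Subgroup G} {w : G} {q : ℕ} (h : FlagData Y P V A K w q)
include h

theorem left_le : V ≤ P := h.eq_sup ▸ le_sup_left

theorem right_le : A ≤ P := h.eq_sup ▸ le_sup_right

theorem right_le_top : A ≤ Y := h.right_le.trans h.le_top

theorem left_le_top : V ≤ Y := h.left_le.trans h.le_top

theorem isPGroup : IsPGroup 2 P :=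
  h.eq_sup ▸ (isPGroup_two_of_sq h.sq_left).to_sup_of_normal_left'
    (isPGroup_two_of_sq h.sq_right) (h.right_le_top.trans h.norm_left)

theorem exists_mul {p : G} (hp : p ∈ P) : ∃ v ∈ V, ∃ a ∈ A, p = v * a := by
  rw [h.eq_sup, ← SetLike.mem_coe,
    Subgroup.coe_mul_of_right_le_normalizer_left V A (h.right_le_top.trans h.norm_left)] at hp
  obtain ⟨v, hv, a, ha, e⟩ := hp
  exact ⟨v, hv, a, ha, e.symm⟩

theorem inf_comm_left {z v : G} (hz : z ∈ V ⊓ A) (hv : v ∈ V) : z * v = v * z :=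
  comm_of_sq_pair h.sq_left hz.1 hv

theorem inf_comm_top {z p : G} (hz : z ∈ V ⊓ A) (hp : p ∈ P) : z * p = p * z := by
  obtain ⟨v, hv, a, ha, rfl⟩ := h.exists_mul hp
  rw [← mul_assoc, h.inf_comm_left hz hv, mul_assoc, comm_of_sq_pair h.sq_right hz.2 ha, mul_assoc]

theorem sq_inf {z : G} (hz : z ∈ V ⊓ A) : z * z = 1 := h.sq_left z hz.1

theorem exists_ne_one : ∃ z ∈ V ⊓ A, z ≠ 1 :=
  (V ⊓ A).ne_bot_iff_exists_ne_one.1 (fun e => by
    have := h.card_inf
    rw [e, Subgroup.card_bot] at this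
    have := h.two_le
    omega) |>.elim fun z hz => ⟨z, z.2, fun e => hz (Subtype.ext e)⟩

theorem comm_mem {v a : G} (hv : v ∈ V) (ha : a ∈ A) : v * a * v⁻¹ * a⁻¹ ∈ V ⊓ A :=
  ⟨by
    rw [show v * a * v⁻¹ * a⁻¹ = v * (a * v⁻¹ * a⁻¹) by group]
    exact V.mul_mem hv (conj_mem_of_nz (h.norm_left (h.right_le_top ha)) (V.inv_mem hv)),
   A.mul_mem (conj_mem_of_nz (h.norm_right hv) ha) (A.inv_mem ha)⟩

theorem sq_mem {p : G} (hp : p ∈ P) : p * p ∈ V ⊓ A := by
  obtain ⟨v, hv, a, ha, rfl⟩ := h.exists_mul hp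
  have e : v * a * (v * a) = v * a * v⁻¹ * a⁻¹ := by
    rw [inv_eq_of_sq h.sq_left hv, inv_eq_of_sq h.sq_right ha]; group
  rw [e]
  exact h.comm_mem hv ha

theorem elem_mem {x : G} (hx : x ∈ P) (h2 : x * x = 1) : x ∈ V ∨ x ∈ A := by
  obtain ⟨v, hv, a, ha, rfl⟩ := h.exists_mul hx
  have e : v * a = a * v := by
    have := inv_eq_of_mul_eq_one_right h2
    rwa [mul_inv_rev, inv_eq_of_sq h.sq_left hv, inv_eq_of_sq h.sq_right ha, eq_comm] at this
  rcases h.cent v hv a ha e with h1 | h1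
  · exact Or.inr (A.mul_mem h1 ha)
  · exact Or.inl (V.mul_mem hv h1)

theorem elem_le {B : Subgroup G} (hB : B ≤ P) (h2 : ∀ x ∈ B, x * x = 1) : B ≤ V ∨ B ≤ A := by
  by_contra hcon
  simp only [not_or, SetLike.not_le_iff_exists] at hcon
  obtain ⟨⟨x, hx, hxV⟩, y, hy, hyA⟩ := hcon
  have hxA := (h.elem_mem (hB hx) (h2 x hx)).resolve_left hxV
  have hyV := (h.elem_mem (hB hy) (h2 y hy)).resolve_right hyA
  rcases h.elem_mem (hB (B.mul_mem hx hy)) (h2 _ (B.mul_mem hx hy)) with h1 | h1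
  · exact hxV ((Subgroup.mul_mem_cancel_right V hyV).1 h1)
  · exact hyA ((Subgroup.mul_mem_cancel_left A hxA).1 h1)

theorem left_ne_right : V ≠ A := fun e => by
  have h1 : Nat.card (V ⊓ A : Subgroup G) = Nat.card V := by rw [← e, inf_idem]
  rw [h.card_inf, h.card_left] at h1
  have := h.two_le
  nlinarith

theorem member_le [Finite G] {B : Subgroup G} (hB : B ≤ P) (h2 : ∀ x ∈ B, x * x = 1) :
    Nat.card B ≤ q ^ 2 := by
  rcases h.elem_le hB h2 with h1 | h1
  · exact h.card_left ▸ Subgroup.card_le_of_le h1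
  · exact h.card_right ▸ Subgroup.card_le_of_le h1

theorem isMember_left [Finite G] : IsMember P V :=
  ⟨h.left_le, h.sq_left, fun C hC h2 => h.card_left.symm ▸ h.member_le hC h2⟩

theorem isMember_right [Finite G] : IsMember P A :=
  ⟨h.right_le, h.sq_right, fun C hC h2 => h.card_right.symm ▸ h.member_le hC h2⟩

theorem member_eq [Finite G] {B : Subgroup G} (hB : IsMember P B) : B = V ∨ B = A := by
  rcases h.elem_le hB.1 hB.2.1 with h1 | h1
  · exact Or.inl (Subgroup.eq_of_le_of_card_ge h1 (hB.card_eq h.isMember_left).ge)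
  · exact Or.inr (Subgroup.eq_of_le_of_card_ge h1 (hB.card_eq h.isMember_right).ge)

theorem memberJoin_eq [Finite G] : memberJoin P = P :=
  le_antisymm (memberJoin_le P)
    (h.eq_sup.le.trans (sup_le h.isMember_left.le_join h.isMember_right.le_join))

theorem top_le_normalizer_right [Finite G] : P ≤ Subgroup.normalizer (A : Set G) :=
  h.eq_sup.le.trans (sup_le h.norm_right Subgroup.le_normalizer)

/-- `V ⊓ A` meets its conjugate by `w` trivially. -/
theorem inf_conj_eq_one [Finite G] (hCIT : IsCIT G) {z : G} (hz : z ∈ V ⊓ A)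
    (hz' : w⁻¹ * z * w ∈ V ⊓ A) : z = 1 := by
  by_contra hz1
  have hC : IsPGroup 2 ↥(Subgroup.centralizer ({z} : Set G)) :=
    hCIT.centralizer_twoElem (k := 1) (by rw [pow_one, pow_two]; exact h.sq_inf hz) hz1
  have heq : Subgroup.centralizer ({z} : Set G) ⊓ Y = P :=
    h.maximal _ (le_inf (fun p hp => Subgroup.mem_centralizer_singleton_iff.2
      (h.inf_comm_top hz hp).symm) h.le_top) inf_le_right hC.to_inf_left
  refine h.weyl_not (mem_nz_of_conj fun p hp => heq.le ⟨?_, ?_⟩)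
  · refine Subgroup.mem_centralizer_singleton_iff.2 ?_
    calc w * p * w⁻¹ * z = w * (p * (w⁻¹ * z * w)) * w⁻¹ := by group
      _ = w * ((w⁻¹ * z * w) * p) * w⁻¹ := by rw [h.inf_comm_top hz' hp]
      _ = z * (w * p * w⁻¹) := by group
  · exact Y.mul_mem (Y.mul_mem h.weyl_mem (h.le_top hp)) (Y.inv_mem h.weyl_mem)

theorem conj_inf_mem_left {c : G} (hc : c ∈ V ⊓ A) : w * c * w⁻¹ ∈ V :=
  conj_mem_of_nz (h.norm_left h.weyl_mem) hc.1

/-- Every element of `V` is a product of an element of `V ⊓ A` and of one of its conjugate. -/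
theorem eq_mul_weyl [Finite G] (hCIT : IsCIT G) {v : G} (hv : v ∈ V) :
    ∃ z₁ ∈ V ⊓ A, ∃ z₂ ∈ V ⊓ A, v = z₁ * (w * z₂ * w⁻¹) := by
  let f : (V ⊓ A : Subgroup G) × (V ⊓ A : Subgroup G) → V := fun z =>
    ⟨z.1 * (w * z.2 * w⁻¹), V.mul_mem z.1.2.1 (h.conj_inf_mem_left z.2.2)⟩
  have hinj : Function.Injective f := by
    rintro ⟨a, b⟩ ⟨a', b'⟩ e
    have e' : (a : G) * (w * b * w⁻¹) = a' * (w * b' * w⁻¹) := congrArg Subtype.val e
    have e2 : (a' : G)⁻¹ * a = w * ((b' : G) * (b : G)⁻¹) * w⁻¹ := by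
      calc (a' : G)⁻¹ * a = (a' : G)⁻¹ * (a * (w * b * w⁻¹)) * (w * (b : G)⁻¹ * w⁻¹) := by group
        _ = w * ((b' : G) * (b : G)⁻¹) * w⁻¹ := by rw [e']; group
    have h1 : (a' : G)⁻¹ * a = 1 := h.inf_conj_eq_one hCIT (mul_mem (inv_mem a'.2) a.2) (by
      rw [e2, show w⁻¹ * (w * ((b' : G) * (b : G)⁻¹) * w⁻¹) * w = (b' : G) * (b : G)⁻¹ by group]
      exact mul_mem b'.2 (inv_mem b.2))
    rw [h1, eq_comm, conj_eq_one_iff, mul_inv_eq_one] at e2
    exact Prod.ext (Subtype.ext (inv_mul_eq_one.1 h1).symm) (Subtype.ext e2.symm)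
  obtain ⟨⟨a, b⟩, hab⟩ := (hinj.bijective_of_nat_card_le (by
    rw [Nat.card_prod, h.card_inf, h.card_left, pow_two])).2 ⟨v, hv⟩
  exact ⟨a, a.2, b, b.2, (congrArg Subtype.val hab).symm⟩

/-- An element of `P` whose conjugate by `w` is in `P` lies in `V`. -/
theorem mem_left_of_conj [Finite G] (hCIT : IsCIT G) {g : G} (hg : g ∈ P)
    (hg' : w⁻¹ * g * w ∈ P) : g ∈ V := by
  refine h.selfC g (h.le_top hg) fun v hv => ?_
  obtain ⟨z₁, hz₁, z₂, hz₂, rfl⟩ := h.eq_mul_weyl hCIT hv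
  have e : g * (w * z₂ * w⁻¹) = w * z₂ * w⁻¹ * g := by
    calc g * (w * z₂ * w⁻¹) = w * ((w⁻¹ * g * w) * z₂) * w⁻¹ := by group
      _ = w * (z₂ * (w⁻¹ * g * w)) * w⁻¹ := by rw [h.inf_comm_top hz₂ hg']
      _ = w * z₂ * w⁻¹ * g := by group
  rw [← mul_assoc, ← h.inf_comm_top hz₁ hg, mul_assoc, e, ← mul_assoc]

/-- Every 2-subgroup of `Y` normalized by `Y` lies in `V`. -/
theorem le_left_of_normal [Finite G] (hCIT : IsCIT G) {R : Subgroup G} (hR : IsPGroup 2 R)
    (hRY : R ≤ Y) (hn : Y ≤ Subgroup.normalizer (R : Set G)) : R ≤ V := by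
  have hRP : R ≤ P := h.maximal _ le_sup_right (sup_le hRY h.le_top)
    (hR.to_sup_of_normal_left' h.isPGroup (h.le_top.trans hn)) ▸ le_sup_left
  exact fun g hg => h.mem_left_of_conj hCIT (hRP hg) (hRP (inv_conj_mem_of_nz (hn h.weyl_mem) hg))

end FlagData

end Cfsg.Agent.Lib.CIT
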