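import Cfsg.Agent.Lib.CIT.Members
import Cfsg.Agent.Lib.CIT.FlagTorus

/-!
Every normalizer of a nontrivial 2-subgroup of a CIT group, with non-normal Sylow 2-subgroup, has
one of the three shapes.  Written by helper73.
-/

set_option autoImplicit false

namespace Cfsg.Agent.Lib.CIT

variable {G : Type*} [Group G] [Finite G]

omit [Finite G] in
theorem isMember_map {Y : Subgroup G} {P' B' : Subgroup Y} (hB : IsMember P' B') :
    IsMember (P'.map Y.subtype) (B'.map Y.subtype) := by
  refine ⟨Subgroup.map_mono hB.1, ?_, fun C hC hsq => ?_⟩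
  · rintro _ ⟨x, hx, rfl⟩
    rw [← map_mul, hB.2.1 x hx, map_one]
  · have hCY : C ≤ Y := hC.trans (Subgroup.map_subtype_le _)
    have h1 := hB.2.2 (C.subgroupOf Y) (fun x hx => by
        obtain ⟨z, hz, e⟩ := hC hx
        exact Subtype.ext e ▸ hz)
      (fun x hx => Subtype.ext (hsq _ hx))
    rw [Nat.card_congr (Subgroup.subgroupOfEquivOfLe hCY).toEquiv] at h1
    rw [Subgroup.card_map_of_injective Y.subtype_injective]
    exact h1

omit [Finite G] in
theorem isMember_subgroupOf {Y P B : Subgroup G} (hPY : P ≤ Y) (hB : IsMember P B) :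
    IsMember (P.subgroupOf Y) (B.subgroupOf Y) := by
  refine ⟨fun x hx => hB.1 hx, fun x hx => Subtype.ext (hB.2.1 _ hx), fun C hC hsq => ?_⟩
  rw [Nat.card_congr (Subgroup.subgroupOfEquivOfLe (hB.1.trans hPY)).toEquiv,
    ← Subgroup.card_map_of_injective Y.subtype_injective]
  refine hB.2.2 _ ?_ ?_
  · rintro _ ⟨x, hx, rfl⟩
    exact hC hx
  · rintro _ ⟨x, hx, rfl⟩
    rw [← map_mul, hsq x hx, map_one]

omit [Finite G] in
theorem le_normalizer_map_of_normal {Y : Subgroup G} (H : Subgroup Y) [hH : H.Normal] :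
    Y ≤ Subgroup.normalizer (H.map Y.subtype : Set G) := by
  intro g hg
  refine Subgroup.mem_normalizer_iff.2 fun x => ⟨?_, ?_⟩
  · rintro ⟨v, hv, rfl⟩
    exact ⟨⟨g, hg⟩ * v * ⟨g, hg⟩⁻¹, hH.conj_mem v hv _, rfl⟩
  · rintro ⟨v, hv, he⟩
    refine ⟨⟨g, hg⟩⁻¹ * v * ⟨g, hg⟩, hH.conj_mem' v hv _, ?_⟩
    have he' : (v : G) = g * x * g⁻¹ := he
    show g⁻¹ * (v : G) * g = x
    rw [he']; group

/-- The local shape of a CIT group. -/
theorem localShape (h : IsCIT G) : LocalShape G := by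
  intro Q hQ hQp P hPY hPp hmax _
  have : Fact (Nat.Prime 2) := ⟨Nat.prime_two⟩
  set Y := Subgroup.normalizer (Q : Set G) with hYdef
  have hQn : (Q.subgroupOf Y).Normal :=
    Subgroup.normal_subgroupOf_of_le_normalizer le_rfl
  have hR : Cfsg.pCore 2 ↥Y ≠ ⊥ := by
    intro e
    have hle := PSolvable.le_pCore (p := 2) (N := Q.subgroupOf Y)
      (hQp.of_equiv (Subgroup.subgroupOfEquivOfLe Subgroup.le_normalizer).symm)
    rw [e, le_bot_iff, Subgroup.subgroupOf_eq_bot] at hle
    exact hQ (disjoint_self.1 (hle.mono_right Subgroup.le_normalizer))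
  let P' : Sylow 2 Y :=
    { toSubgroup := P.subgroupOf Y
      isPGroup' := hPp.of_equiv (Subgroup.subgroupOfEquivOfLe hPY).symm
      is_maximal' := fun {H} hH hle => by
        have e : H.map Y.subtype = P := hmax (H.map Y.subtype) (fun x hx => ⟨⟨x, hPY hx⟩, hle hx, rfl⟩)
          (Subgroup.map_subtype_le _) (hH.map _)
        refine le_antisymm (fun x hx => ?_) hle
        show (x : G) ∈ P
        rw [← e]
        exact ⟨x, hx, rfl⟩ }
  have hP' : (P' : Subgroup Y).map Y.subtype = P := by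
    show (P.subgroupOf Y).map Y.subtype = P
    rw [Subgroup.subgroupOf_map_subtype, inf_eq_left.2 hPY]
  have hmapB : ∀ {B : Subgroup G}, IsMember P B → (B.subgroupOf Y).map Y.subtype = B := fun {B} hB => by
    rw [Subgroup.subgroupOf_map_subtype, inf_eq_left.2 (hB.1.trans hPY)]
  have hVn : (omegaCore Y).Normal := omegaCore_normal
  have hRn : (Cfsg.pCore 2 ↥Y).Normal := pCore_two_normal
  rcases members_trichotomy (P := P') (h.subgroup Y) hR (fun r hS τ hτ hτ2 hτR => by
      rw [← hS.core_eq] at hτR ⊢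
      exact hS.three P' τ hτ hτR) with hJ | ⟨hVmem, huniq, B, hB, hBeq⟩ | ⟨A, r, hF⟩
  · refine Or.inl ⟨(Cfsg.pCore 2 ↥Y).map Y.subtype, le_normalizer_map_of_normal _, ?_, fun B hB => ?_⟩
    · exact (Subgroup.map_mono (PSolvable.pCore_le_sylow P')).trans hP'.le
    · exact (hmapB hB).ge.trans (Subgroup.map_mono (hJ _ (isMember_subgroupOf hPY hB)))
  · refine Or.inr (Or.inl ⟨(omegaCore Y).map Y.subtype, hP' ▸ isMember_map hVmem,
      hPY.trans (le_normalizer_map_of_normal _), le_normalizer_map_of_normal _, fun C hC hCn => ?_,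
      B.map Y.subtype, hP' ▸ isMember_map hB, ?_⟩)
    · rw [← hmapB hC, huniq _ (isMember_subgroupOf hPY hC) fun p hp => ?_]
      refine Subgroup.mem_normalizer_iff.2 fun x => ?_
      exact Subgroup.mem_normalizer_iff.1 (hCn hp) (x : G)
    · have e : P ⊓ Subgroup.centralizer (((omegaCore Y).map Y.subtype : Subgroup G) : Set G) =
          ((P' : Subgroup Y) ⊓ Subgroup.centralizer (omegaCore Y : Set Y)).map Y.subtype := by
        ext g
        constructor
        · rintro ⟨hgP, hgC⟩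
          refine ⟨⟨g, hPY hgP⟩, ⟨hgP, Subgroup.mem_centralizer_iff.2 fun v hv => Subtype.ext ?_⟩, rfl⟩
          exact Subgroup.mem_centralizer_iff.1 hgC (v : G) ⟨v, hv, rfl⟩
        · rintro ⟨x, ⟨hxP, hxC⟩, rfl⟩
          refine ⟨hxP, Subgroup.mem_centralizer_iff.2 ?_⟩
          rintro _ ⟨v, hv, rfl⟩
          exact congrArg Subtype.val (Subgroup.mem_centralizer_iff.1 hxC v hv)
      rw [e, ← Subgroup.map_sup, hBeq]
      exact hP'
  · have := hF.normal
    obtain ⟨K, w, hKw⟩ := Spread.exists_flagData hF.spread hF.selfC hF.sq_left hF.sq_right hF.le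
      hF.card_right hF.card_inf hF.eq_sup hF.conj_mem hF.cent
    exact Or.inr (Or.inr ⟨_, _, K, w, r, hP' ▸ hKw⟩)

end Cfsg.Agent.Lib.CIT
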