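import Cfsg.Agent.Lib.CIT.SpreadCount

/-!
Every element without a fixed member is inverted by an involution; in particular some element of
order 3 is inverted by an involution.
-/

set_option autoImplicit false
set_option linter.unusedSectionVars false
set_option linter.style.haveILetI false

namespace Cfsg.Agent.Lib.CIT.Spread

open Cfsg.Agent.Lib

variable {X V : Type*} [Group X] [CommGroup V] [MulDistribMulAction X V] [Finite X] [Finite V]

/-- The members fixed by `x`. -/
def fixedMembers (V : Type*) [CommGroup V] [MulDistribMulAction X V] (x : X) :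
    Set (Subgroup X) :=
  {C | IsQuadOffender V C ∧ cjBy x C = C}

namespace IsQuadOffender

variable {A B C : Subgroup X}

/-- A non-trivial element fixes at most two members. -/
theorem eq_one_of_three (h : FpfRep X V) (hA : IsQuadOffender V A) (hB : IsQuadOffender V B)
    (hC : IsQuadOffender V C) (hBA : B ≠ A) (hCA : C ≠ A) (hCB : C ≠ B) {x : X}
    (hxA : cjBy x A = A) (hxB : cjBy x B = B) (hxC : cjBy x C = C) : x = 1 := by
  obtain ⟨a, ha, he⟩ := hA.exists_cjBy h hB hC hBA hCA
  have ha1 : a ≠ 1 := by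
    rintro rfl
    rw [cjBy_one] at he
    exact hCB he.symm
  have hxa : x * a * x⁻¹ ∈ A := by
    have h1 : (MulAut.conj x).toMonoidHom a ∈ cjBy x A := Subgroup.mem_map_of_mem _ ha
    rwa [hxA] at h1
  have hxBi : cjBy x⁻¹ B = B := by
    conv_lhs => rw [← hxB, cjBy_cjBy, inv_mul_cancel, cjBy_one]
  have hcomm : x * a * x⁻¹ = a := hA.eq_of_cjBy_eq h hB hBA hxa ha (by
    rw [← cjBy_cjBy, hxBi, ← cjBy_cjBy, he, hxC])
  by_contra hx1
  have hxmem : x ∈ A := by
    refine (hA.centralizer_eq h ha ha1).le (Subgroup.mem_centralizer_singleton_iff.2 ?_)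
    rw [mul_inv_eq_iff_eq_mul] at hcomm
    exact hcomm
  exact hBA (hA.eq_of_mem_normalizes h hB hxmem hx1 hxB).symm

/-- Double counting: the elements fixing no member. -/
theorem two_mul_card_fpf (h : FpfRep X V) (hA : IsQuadOffender V A) :
    2 * {x : X | fixedMembers V x = ∅}.ncard + Nat.card A * Nat.card A =
      Nat.card A * Nat.card A * Nat.card A := by
  classical
  haveI := Fintype.ofFinite X
  set r := Nat.card A with hr
  have hfin : (members X V).Finite := Set.toFinite _
  set M := hfin.toFinset with hM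
  have hMcard : M.card = r + 1 := by
    rw [hM, ← Set.ncard_eq_toFinset_card _ hfin, hA.ncard_members h]
  let F : X → Finset (Subgroup X) := fun x => M.filter fun C => cjBy x C = C
  have hstab : ∀ C ∈ M, (Finset.univ.filter fun x : X => cjBy x C = C).card = r * (r - 1) := by
    intro C hC
    have hC' : IsQuadOffender V C := hfin.mem_toFinset.1 hC
    obtain ⟨D, hD, hDC⟩ := hC'.exists_other h
    rw [hr, ← hC'.card_eq_card h hA, ← hC'.card_normalizer h hD hDC, Nat.card_eq_fintype_card,
      Fintype.card_subtype]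
    congr 1
    ext x
    simp only [Finset.mem_filter, Finset.mem_univ, true_and]
    exact Subgroup.mem_normalizer_iff_map_conj_eq.symm
  have hpair : ∀ C ∈ M, ∀ D ∈ M, D ≠ C →
      (Finset.univ.filter fun x : X => cjBy x C = C ∧ cjBy x D = D).card = r - 1 := by
    intro C hC D hD hDC
    have hC' : IsQuadOffender V C := hfin.mem_toFinset.1 hC
    have hD' : IsQuadOffender V D := hfin.mem_toFinset.1 hD
    rw [hr, ← hC'.card_eq_card h hA, ← hC'.card_twoStab h hD' hDC, Nat.card_eq_fintype_card,
      Fintype.card_subtype]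
    congr 1
    ext x
    simp only [Finset.mem_filter, Finset.mem_univ, true_and, mem_twoStab]
  have hsum1 : ∑ x : X, (F x).card = (r + 1) * (r * (r - 1)) := by
    simp only [F, Finset.card_filter]
    rw [Finset.sum_comm, Finset.sum_congr rfl (g := fun _ => r * (r - 1)), Finset.sum_const,
      smul_eq_mul, hMcard]
    intro C hC
    rw [← hstab C hC, Finset.card_filter]
  have hsum2 : ∑ x : X, (F x).card * ((F x).card - 1) = (r + 1) * (r * (r - 1)) := by
    have hoff : ∀ x : X, (F x).card * ((F x).card - 1) =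
        (M.offDiag.filter fun p => cjBy x p.1 = p.1 ∧ cjBy x p.2 = p.2).card := by
      intro x
      have : (M.offDiag.filter fun p => cjBy x p.1 = p.1 ∧ cjBy x p.2 = p.2) = (F x).offDiag := by
        ext ⟨C, D⟩
        simp only [F, Finset.mem_filter, Finset.mem_offDiag]
        tauto
      rw [this, Finset.offDiag_card, Nat.mul_sub, mul_one]
    simp only [hoff, Finset.card_filter]
    rw [Finset.sum_comm, Finset.sum_congr rfl (g := fun _ => r - 1), Finset.sum_const,
      smul_eq_mul, Finset.offDiag_card, hMcard]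
    · have hsq : (r + 1) * (r + 1) - (r + 1) = (r + 1) * r := by
        rw [Nat.sub_eq_iff_eq_add (Nat.le_mul_self _)]; ring
      rw [hsq, mul_assoc]
    · intro p hp
      rw [Finset.mem_offDiag] at hp
      rw [← hpair p.1 hp.1 p.2 hp.2.1 (Ne.symm hp.2.2), Finset.card_filter]
  have hle2 : ∀ x : X, x ≠ 1 → (F x).card ≤ 2 := by
    intro x hx
    by_contra hc
    obtain ⟨C, D, E', hC, hD, hE, hCD, hCE, hDE⟩ := Finset.two_lt_card_iff.1 (not_le.1 hc)
    simp only [F, Finset.mem_filter] at hC hD hE
    exact hx (eq_one_of_three h (hfin.mem_toFinset.1 hC.1) (hfin.mem_toFinset.1 hD.1)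
      (hfin.mem_toFinset.1 hE.1) hCD.symm hCE.symm hDE.symm hC.2 hD.2 hE.2)
  have hone : F 1 = M := Finset.filter_true_of_mem fun C _ => cjBy_one C
  have hzero : {x : X | fixedMembers V x = ∅}.ncard =
      (Finset.univ.filter fun x : X => (F x).card = 0).card := by
    rw [← Set.ncard_coe_finset]
    congr 1
    ext x
    simp only [Set.mem_setOf_eq, Finset.coe_filter, Finset.mem_univ, true_and,
      Finset.card_eq_zero, F, Finset.filter_eq_empty_iff, Set.eq_empty_iff_forall_notMem,
      fixedMembers, not_and, hM, Set.Finite.mem_toFinset]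
    rfl
  -- `2 [F = 0] + 2 F = 2 + F (F - 1)` away from `1`
  have hpt : ∀ x ∈ Finset.univ.erase (1 : X), 2 * (if (F x).card = 0 then 1 else 0) + 2 * (F x).card
      = 2 + (F x).card * ((F x).card - 1) := by
    intro x hx
    have := hle2 x (Finset.ne_of_mem_erase hx)
    interval_cases (F x).card <;> simp
  have hs := Finset.sum_congr (rfl : (Finset.univ.erase (1 : X)) = _) hpt
  rw [Finset.sum_add_distrib, Finset.sum_add_distrib, ← Finset.mul_sum, ← Finset.mul_sum,
    Finset.sum_const, smul_eq_mul, Finset.card_erase_of_mem (Finset.mem_univ _),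
    Finset.card_univ, ← Nat.card_eq_fintype_card, hA.card_group h, ← hr] at hs
  have e1 := Finset.add_sum_erase Finset.univ (fun x : X => if (F x).card = 0 then 1 else 0)
    (Finset.mem_univ 1)
  have e2 := Finset.add_sum_erase Finset.univ (fun x : X => (F x).card) (Finset.mem_univ 1)
  have e3 := Finset.add_sum_erase Finset.univ (fun x : X => (F x).card * ((F x).card - 1))
    (Finset.mem_univ 1)
  simp only [hone, hMcard, Nat.succ_ne_zero, if_false, zero_add, Nat.add_sub_cancel,
    ← Finset.card_filter] at e1 e2 e3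
  rw [hsum1] at e2
  rw [hsum2] at e3
  rw [hzero, ← e1]
  have hr2 : 2 ≤ r := hA.one_lt_card
  obtain ⟨k, hk⟩ : ∃ k, r = k + 1 := ⟨r - 1, by omega⟩
  set s0 := ∑ x ∈ Finset.univ.erase (1 : X), if (F x).card = 0 then 1 else 0
  set s1 := ∑ x ∈ Finset.univ.erase (1 : X), (F x).card
  set s2 := ∑ x ∈ Finset.univ.erase (1 : X), (F x).card * ((F x).card - 1)
  set N := (r + 1) * (r * (r - 1)) with hN
  have hN1 : 1 ≤ N := Nat.mul_pos (by omega) (Nat.mul_pos (by omega) (by omega))
  have hpoly : N + r = r * r * r := by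
    rw [hN, hk, Nat.add_sub_cancel]; ring
  have hq : (r + 1) * r = r * r + r := by ring
  rw [hq] at e3
  simp only [Finset.card_filter] at hs ⊢
  omega

theorem odd_orderOf_of_fpf (h : FpfRep X V) (hA : IsQuadOffender V A) {x : X}
    (hx : fixedMembers V x = ∅) : Odd (orderOf x) := by
  by_contra hne
  rw [Nat.not_odd_iff_even] at hne
  obtain ⟨m, hm⟩ := hne
  have hpos := orderOf_pos x
  have ht : orderOf (x ^ m) = 2 := by
    rw [orderOf_pow_of_dvd (by omega) ⟨2, by omega⟩, hm, ← two_mul,
      Nat.mul_div_cancel _ (by omega : 0 < m)]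
  obtain ⟨C, hC, htC⟩ := hA.exists_member_mem h ht
  have hxC : x ∈ C := (hC.centralizer_eq h htC (fun e => by simp [e] at ht)).le
    (Subgroup.mem_centralizer_singleton_iff.2 ((Commute.refl x).pow_right m).eq)
  exact Set.eq_empty_iff_forall_notMem.1 hx C ⟨hC, cjBy_eq_self_of_mem hxC⟩

/-- The centraliser of a fixed-member-free element is semiregular on the members. -/
theorem card_centralizer_le (h : FpfRep X V) (hA : IsQuadOffender V A) {x : X}
    (hx : fixedMembers V x = ∅) :
    Nat.card (Subgroup.centralizer ({x} : Set X)) ≤ Nat.card A + 1 := by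
  have hno := Set.eq_empty_iff_forall_notMem.1 hx
  have hodd := hA.odd_orderOf_of_fpf h hx
  rw [← hA.ncard_members h, ← Nat.card_coe_set_eq]
  refine Nat.card_le_card_of_injective
    (fun c : Subgroup.centralizer ({x} : Set X) =>
      (⟨cjBy (c : X) A, hA.conj _⟩ : members X V)) fun c d e => ?_
  have e' : cjBy (c : X) A = cjBy (d : X) A := congrArg Subtype.val e
  set u : X := (d : X)⁻¹ * c with hu
  have hxu : x * u = u * x :=
    (Subgroup.mem_centralizer_singleton_iff.1
      ((Subgroup.centralizer ({x} : Set X)).mul_mem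
        ((Subgroup.centralizer ({x} : Set X)).inv_mem d.2) c.2)).symm
  have huA : cjBy u A = A := by
    rw [hu, ← cjBy_cjBy, e', cjBy_cjBy, inv_mul_cancel, cjBy_one]
  by_contra hne
  have hu1 : u ≠ 1 := by
    rw [hu, Ne, inv_mul_eq_one]
    exact fun e => hne (Subtype.ext e.symm)
  have huxA : cjBy u (cjBy x A) = cjBy x A := by
    rw [cjBy_cjBy, ← hxu, ← cjBy_cjBy, huA]
  have huxxA : cjBy u (cjBy (x * x) A) = cjBy (x * x) A := by
    rw [cjBy_cjBy, show u * (x * x) = x * x * u by
      rw [← mul_assoc, ← hxu, mul_assoc, ← hxu, mul_assoc], ← cjBy_cjBy, huA]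
  have hne1 : cjBy x A ≠ A := fun e => hno A ⟨hA, e⟩
  have hne2 : cjBy (x * x) A ≠ cjBy x A := fun e =>
    hne1 (cjBy_injective x (by rw [cjBy_cjBy, e]))
  by_cases hne3 : cjBy (x * x) A = A
  · apply hne1
    have hmem : x * x ∈ Subgroup.normalizer (A : Set X) :=
      Subgroup.mem_normalizer_iff_map_conj_eq.2 hne3
    obtain ⟨m, hm⟩ := hodd
    have : x = (x * x) ^ (m + 1) := by
      rw [← pow_two, ← pow_mul, show 2 * (m + 1) = orderOf x + 1 by omega, pow_succ,
        pow_orderOf_eq_one, one_mul]
    rw [this]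
    exact Subgroup.mem_normalizer_iff_map_conj_eq.1 (Subgroup.pow_mem _ hmem _)
  · exact hu1 (eq_one_of_three h hA (hA.conj x) (hA.conj (x * x)) hne1 hne3 hne2 huA huxA huxxA)

/-- The number of involutions. -/
theorem ncard_involutions (h : FpfRep X V) (hA : IsQuadOffender V A) :
    {t : X | orderOf t = 2}.ncard = (Nat.card A + 1) * (Nat.card A - 1) := by
  classical
  haveI := Fintype.ofFinite X
  have hfin : (members X V).Finite := Set.toFinite _
  have hdisj : (hfin.toFinset : Set (Subgroup X)).PairwiseDisjoint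
      fun C => ((C : Set X) \ {1}).toFinset := by
    intro C hC D hD hne
    rw [Function.onFun, Finset.disjoint_left]
    intro v hv hv'
    simp only [Set.mem_toFinset, Set.mem_sdiff, SetLike.mem_coe, Set.mem_singleton_iff] at hv hv'
    have := (hfin.mem_toFinset.1 hC).inf_eq_bot h (hfin.mem_toFinset.1 hD) hne
    exact hv.2 ((Subgroup.eq_bot_iff_forall _).1 this v ⟨hv.1, hv'.1⟩)
  have heq : {t : X | orderOf t = 2} =
      ↑(hfin.toFinset.biUnion fun C => ((C : Set X) \ {1}).toFinset) := by
    ext t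
    simp only [Set.mem_setOf_eq, Finset.coe_biUnion, Set.mem_iUnion, Finset.mem_coe,
      Set.mem_toFinset, Set.mem_sdiff, Set.mem_singleton_iff, SetLike.mem_coe, exists_prop]
    constructor
    · intro ht
      obtain ⟨C, hC, htC⟩ := hA.exists_member_mem h ht
      exact ⟨C, hfin.mem_toFinset.2 hC, htC, fun e => by simp [e] at ht⟩
    · rintro ⟨C, hC, htC, ht1⟩
      exact orderOf_two ht1 ((hfin.mem_toFinset.1 hC).sq t htC)
  rw [heq, Set.ncard_coe_finset, Finset.card_biUnion hdisj,
    Finset.sum_congr rfl (g := fun _ => Nat.card A - 1), Finset.sum_const, smul_eq_mul,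
    ← Set.ncard_eq_toFinset_card _ hfin, hA.ncard_members h]
  intro C hC
  rw [← Set.ncard_eq_toFinset_card', Set.ncard_sdiff_singleton_of_mem C.one_mem,
    ← Nat.card_coe_set_eq]
  exact congrArg (· - 1) ((hfin.mem_toFinset.1 hC).card_eq_card h hA)

/-- An involution inverts at least `r² / 2` fixed-member-free elements. -/
theorem le_two_mul_inverted (h : FpfRep X V) (hA : IsQuadOffender V A) {a : X}
    (ha : a ∈ A) (ha1 : a ≠ 1) :
    Nat.card A * Nat.card A ≤
      2 * {x : X | fixedMembers V x = ∅ ∧ a * x * a⁻¹ = x⁻¹}.ncard := by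
  classical
  haveI := Fintype.ofFinite X
  set r := Nat.card A with hr
  have haa := hA.sq a ha
  have hai : a⁻¹ = a := inv_eq_of_mul_eq_one_right haa
  set O : Set X := {t : X | orderOf t = 2} \ (A : Set X) with hO
  set Bad : Finset X := O.toFinset.filter fun b => fixedMembers V (a * b) ≠ ∅ with hBad
  set Good : Finset X := O.toFinset.filter fun b => ¬ fixedMembers V (a * b) ≠ ∅ with hGood
  have hsplit : Bad.card + Good.card = r * (r - 1) := by
    rw [hBad, hGood, Finset.card_filter_add_card_filter_not, ← Set.ncard_eq_toFinset_card',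
      hO, ← Set.sdiff_inter_self_eq_sdiff, Set.ncard_sdiff Set.inter_subset_right (Set.toFinite _)]
    have hint : ((A : Set X) ∩ {t : X | orderOf t = 2}) = (A : Set X) \ {1} := by
      ext t
      simp only [Set.mem_inter_iff, SetLike.mem_coe, Set.mem_setOf_eq, Set.mem_sdiff,
        Set.mem_singleton_iff]
      exact ⟨fun ⟨h1, h2⟩ => ⟨h1, fun e => by simp [e] at h2⟩,
        fun ⟨h1, h2⟩ => ⟨h1, orderOf_two h2 (hA.sq t h1)⟩⟩
    rw [hint, Set.ncard_sdiff_singleton_of_mem A.one_mem, hA.ncard_involutions h, ← hr,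
      show (A : Set X).ncard = r from (Nat.card_coe_set_eq _).symm, Nat.add_mul, one_mul,
      Nat.add_sub_cancel]
  have hfin : (members X V).Finite := Set.toFinite _
  set M := hfin.toFinset.erase A with hM
  have hMcard : M.card = r := by
    rw [hM, Finset.card_erase_of_mem (hfin.mem_toFinset.2 hA),
      ← Set.ncard_eq_toFinset_card _ hfin, hA.ncard_members h, Nat.add_sub_cancel]
  have hno : ∀ b ∈ O, cjBy b A ≠ A := by
    intro b hb e
    have hz : IsPGroup 2 (Subgroup.zpowers b) := IsPGroup.of_card (n := 1) (by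
      rw [Nat.card_zpowers, hb.1, pow_one])
    haveI : Fact (Nat.Prime 2) := ⟨Nat.prime_two⟩
    have := hA.eq_of_le h (IsPGroup.to_sup_of_normal_left' hA.isPGroup hz
      (Subgroup.zpowers_le.2 (Subgroup.mem_normalizer_iff_map_conj_eq.2 e))) le_sup_left
    exact hb.2 (this.le (Subgroup.mem_sup_right (Subgroup.mem_zpowers b)))
  -- a fixed member of `a b` is swapped by `a`
  have hkey : ∀ b ∈ O, ∀ C, IsQuadOffender V C → cjBy (a * b) C = C →
      C ≠ A ∧ cjBy a C ≠ C ∧ cjBy (a * b) (cjBy a C) = cjBy a C := by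
    intro b hb C hC hfix
    have hbb := mul_self_of_orderOf_two hb.1
    have hCA : C ≠ A := by
      intro e
      rw [e] at hfix
      refine hno b hb ?_
      have := congrArg (cjBy a⁻¹) hfix
      rwa [cjBy_cjBy, inv_mul_cancel_left, cjBy_eq_self_of_mem (A.inv_mem ha)] at this
    refine ⟨hCA, fun e => hCA (hA.eq_of_mem_normalizes h hC ha ha1 e).symm, ?_⟩
    rw [cjBy_cjBy]
    calc cjBy (a * b * a) C = cjBy (a * b * a) (cjBy (a * b) C) := by rw [hfix]
      _ = cjBy a C := by
        rw [cjBy_cjBy]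
        congr 1
        simp [mul_assoc, ← mul_assoc a a b, haa, hbb]
  have hbad : 2 * Bad.card ≤ r * (r - 2) := by
    have hcount : ∀ C ∈ M, (Bad.filter fun b => cjBy (a * b) C = C).card ≤ r - 2 := by
      intro C hC
      obtain ⟨hCA, hC'⟩ := Finset.mem_erase.1 hC
      have hCo : IsQuadOffender V C := hfin.mem_toFinset.1 hC'
      have hne : cjBy a C ≠ C := fun e => hCA (hA.eq_of_mem_normalizes h hCo ha ha1 e).symm
      have haC : IsQuadOffender V (cjBy a C) := hCo.conj a
      calc (Bad.filter fun b => cjBy (a * b) C = C).card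
          ≤ ((twoStab C (cjBy a C) : Set X) \ {1}).toFinset.card := by
            refine Finset.card_le_card_of_injOn (fun b => a * b) (fun b hb => ?_)
              (fun b _ b' _ e => mul_left_cancel e)
            simp only [Finset.coe_filter, Set.mem_setOf_eq, hBad, Finset.mem_filter,
              Set.mem_toFinset] at hb
            simp only [Set.coe_toFinset, Set.mem_sdiff, SetLike.mem_coe, Set.mem_singleton_iff]
            refine ⟨mem_twoStab.2 ⟨hb.2, (hkey b hb.1.1 C hCo hb.2).2.2⟩, fun e => hb.1.1.2 ?_⟩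
            rw [← inv_eq_of_mul_eq_one_right e]
            exact A.inv_mem ha
        _ = r - 2 := by
            rw [← Set.ncard_eq_toFinset_card', Set.ncard_sdiff_singleton_of_mem
              (Subgroup.one_mem _), ← Nat.card_coe_set_eq, SetLike.coe_sort_coe,
              hCo.card_twoStab h haC hne, hCo.card_eq_card h hA, ← hr]
            omega
    calc 2 * Bad.card = ∑ _b ∈ Bad, 2 := by rw [Finset.sum_const, smul_eq_mul, mul_comm]
      _ ≤ ∑ b ∈ Bad, (M.filter fun C => cjBy (a * b) C = C).card := by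
        refine Finset.sum_le_sum fun b hb => ?_
        simp only [hBad, Finset.mem_filter, Set.mem_toFinset] at hb
        obtain ⟨C, hC, hfix⟩ := Set.nonempty_iff_ne_empty.2 hb.2
        obtain ⟨hCA, hne, hfix'⟩ := hkey b hb.1 C hC hfix
        refine le_trans (b := ({C, cjBy a C} : Finset (Subgroup X)).card)
          (Finset.card_pair (Ne.symm hne)).ge (Finset.card_le_card ?_)
        intro D hD
        simp only [Finset.mem_insert, Finset.mem_singleton] at hD
        simp only [hM, Finset.mem_filter, Finset.mem_erase, hfin.mem_toFinset]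
        rcases hD with rfl | rfl
        · exact ⟨⟨hCA, hC⟩, hfix⟩
        · exact ⟨⟨fun e => hCA (cjBy_injective a (e.trans (cjBy_eq_self_of_mem ha).symm)),
            hC.conj a⟩, hfix'⟩
      _ = ∑ C ∈ M, (Bad.filter fun b => cjBy (a * b) C = C).card := by
        simp only [Finset.card_filter]; rw [Finset.sum_comm]
      _ ≤ ∑ _C ∈ M, (r - 2) := Finset.sum_le_sum hcount
      _ = r * (r - 2) := by rw [Finset.sum_const, smul_eq_mul, hMcard]
  have hgood : Good.card ≤ {x : X | fixedMembers V x = ∅ ∧ a * x * a⁻¹ = x⁻¹}.ncard := by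
    rw [← Set.ncard_coe_finset]
    refine Set.ncard_le_ncard_of_injOn (fun b => a * b) (fun b hb => ?_)
      (fun b _ b' _ e => mul_left_cancel e) (Set.toFinite _)
    simp only [Finset.coe_filter, Set.mem_setOf_eq, hGood, Set.mem_toFinset, Decidable.not_not] at hb
    refine ⟨hb.2, ?_⟩
    rw [mul_inv_rev, inv_eq_of_mul_eq_one_right (mul_self_of_orderOf_two hb.1.1), hai,
      ← mul_assoc a a b, haa, one_mul]
  have hr2 : 2 ≤ r := hA.one_lt_card
  obtain ⟨k, hk⟩ : ∃ k, r = k + 2 := ⟨r - 2, by omega⟩
  have e1 : r * (r - 1) = k * k + 3 * k + 2 := by rw [hk, show k + 2 - 1 = k + 1 from rfl]; ring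
  have e2 : r * (r - 2) = k * k + 2 * k := by rw [hk, show k + 2 - 2 = k from rfl]; ring
  have e3 : r * r = k * k + 4 * k + 4 := by rw [hk]; ring
  omega

/-- Every element fixing no member is inverted by an involution. -/
theorem exists_inverting (h : FpfRep X V) (hA : IsQuadOffender V A) {y : X}
    (hy : fixedMembers V y = ∅) : ∃ t : X, orderOf t = 2 ∧ t * y * t⁻¹ = y⁻¹ := by
  classical
  haveI := Fintype.ofFinite X
  set r := Nat.card A with hr
  by_contra hne
  push Not at hne
  set FP : Finset X := Finset.univ.filter fun x : X => fixedMembers V x = ∅ with hFP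
  set I : Finset X := Finset.univ.filter fun t : X => orderOf t = 2 with hI
  have hlow : I.card * (r * r) ≤ 2 * ∑ t ∈ I, (FP.filter fun x => t * x * t⁻¹ = x⁻¹).card := by
    rw [Finset.mul_sum, ← smul_eq_mul, ← Finset.sum_const]
    refine Finset.sum_le_sum fun t ht => ?_
    simp only [hI, Finset.mem_filter, Finset.mem_univ, true_and] at ht
    obtain ⟨C, hC, htC⟩ := hA.exists_member_mem h ht
    have := hC.le_two_mul_inverted h htC (fun e => by simp [e] at ht)
    rw [hC.card_eq_card h hA] at this
    refine this.trans (le_of_eq ?_)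
    rw [← Set.ncard_coe_finset]
    congr 2
    ext x
    simp [hFP]
  have hswap : ∑ t ∈ I, (FP.filter fun x => t * x * t⁻¹ = x⁻¹).card =
      ∑ x ∈ FP, (I.filter fun t => t * x * t⁻¹ = x⁻¹).card := by
    simp only [Finset.card_filter]; rw [Finset.sum_comm]
  have hup : ∀ x ∈ FP, (I.filter fun t => t * x * t⁻¹ = x⁻¹).card ≤ r + 1 := by
    intro x hx
    simp only [hFP, Finset.mem_filter, Finset.mem_univ, true_and] at hx
    refine le_trans ?_ (hA.card_centralizer_le h hx)
    rcases (I.filter fun t => t * x * t⁻¹ = x⁻¹).eq_empty_or_nonempty with he | ⟨t0, ht0⟩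
    · rw [he]; simp
    · rw [← Fintype.card_coe, ← Nat.card_eq_fintype_card]
      refine Nat.card_le_card_of_injective (fun t => (⟨t0⁻¹ * (t : X), ?_⟩ :
        Subgroup.centralizer ({x} : Set X)))
        fun t t' e => Subtype.ext (mul_left_cancel (congrArg Subtype.val e))
      simp only [Finset.mem_filter] at ht0
      have ht := (Finset.mem_filter.1 t.2).2
      rw [Subgroup.mem_centralizer_singleton_iff]
      calc t0⁻¹ * t * x = t0⁻¹ * ((t : X) * x * (t : X)⁻¹) * t := by group
        _ = t0⁻¹ * (t0 * x * t0⁻¹) * t := by rw [ht, ht0.2]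
        _ = x * (t0⁻¹ * t) := by group
  have hyFP : y ∈ FP := by simp [hFP, hy]
  have hy0 : (I.filter fun t => t * y * t⁻¹ = y⁻¹).card = 0 := by
    rw [Finset.card_eq_zero, Finset.filter_eq_empty_iff]
    intro t ht
    exact hne t (Finset.mem_filter.1 ht).2
  have hlt : ∑ x ∈ FP, (I.filter fun t => t * x * t⁻¹ = x⁻¹).card < FP.card * (r + 1) := by
    rw [← smul_eq_mul, ← Finset.sum_const]
    exact Finset.sum_lt_sum hup ⟨y, hyFP, by omega⟩
  have hIcard : I.card = (r + 1) * (r - 1) := by
    rw [← hA.ncard_involutions h, ← Set.ncard_coe_finset, hI]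
    congr 1
    ext t
    simp
  have hFPcard : 2 * FP.card + r * r = r * r * r := by
    rw [← hA.two_mul_card_fpf h, ← Set.ncard_coe_finset, hFP]
    congr 3
    ext x
    simp
  rw [hswap, hIcard] at hlow
  have hr2 : 2 ≤ r := hA.one_lt_card
  obtain ⟨k, hk⟩ : ∃ k, r = k + 1 := ⟨r - 1, by omega⟩
  have hFP2 : 2 * FP.card = k * (r * r) := by
    have : r * r * r = k * (r * r) + r * r := by rw [hk]; ring
    omega
  have h1 : (r + 1) * (r - 1) * (r * r) = (2 * FP.card) * (r + 1) := by
    rw [hFP2, hk, Nat.add_sub_cancel]; ring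
  have h2 : 2 * (FP.card * (r + 1)) = (2 * FP.card) * (r + 1) := by ring
  omega

/-- Some element of order 3 is inverted by an involution. -/
theorem exists_order_three (h : FpfRep X V) (hA : IsQuadOffender V A) :
    ∃ y t : X, orderOf y = 3 ∧ orderOf t = 2 ∧ t * y * t⁻¹ = y⁻¹ := by
  haveI : Fact (Nat.Prime 3) := ⟨Nat.prime_three⟩
  set r := Nat.card A with hr
  obtain ⟨n, hn⟩ := hA.isPGroup.exists_card_eq
  have hr3 : ¬ 3 ∣ r := by
    rw [hr, hn]
    exact fun hd => absurd ((Nat.prime_dvd_prime_iff_eq Nat.prime_three Nat.prime_two).1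
      (Nat.prime_three.dvd_of_dvd_pow hd)) (by norm_num)
  obtain ⟨B, hB, hne⟩ := hA.exists_other h
  by_cases h3 : 3 ∣ r - 1
  · rw [hr, ← hA.card_twoStab h hB hne] at h3
    obtain ⟨y, hy⟩ := exists_prime_orderOf_dvd_card' 3 h3
    obtain ⟨t, ht, hts⟩ := hA.exists_swap h hB hne
    exact ⟨y, t, by rw [Subgroup.orderOf_coe, hy], ht, hA.swap_inverts h hB hne hts y.2⟩
  · have hdX : 3 ∣ Nat.card X := by
      rw [hA.card_group h, ← hr]
      have hr1 : 1 ≤ r := Nat.card_pos
      have : 3 ∣ r + 1 := by omega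
      exact this.mul_right _
    obtain ⟨y, hy⟩ := exists_prime_orderOf_dvd_card' 3 hdX
    obtain ⟨t, ht, hti⟩ := hA.exists_inverting h (y := y) (by
      refine Set.eq_empty_iff_forall_notMem.2 fun C ⟨hC, hfix⟩ => ?_
      obtain ⟨D, hD, hDC⟩ := hC.exists_other h
      have hmem : y ∈ Subgroup.normalizer (C : Set X) :=
        Subgroup.mem_normalizer_iff_map_conj_eq.2 hfix
      have h1 : 3 ∣ r * (r - 1) := by
        rw [hr, ← hC.card_eq_card h hA, ← hC.card_normalizer h hD hDC, ← hy]
        exact Subgroup.orderOf_dvd_natCard _ hmem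
      exact (Nat.prime_three.dvd_mul.1 h1).elim hr3 h3)
    exact ⟨y, t, hy, ht, hti⟩

end IsQuadOffender

end Cfsg.Agent.Lib.CIT.Spread
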