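import Cfsg.Agent.Lib.CIT.SpreadExists
import Cfsg.Agent.Lib.CIT.SpreadThree
import Cfsg.Agent.Lib.CIT.Basic

/-!
The spread lemma for a local group: a CIT group `Y` with a normal elementary abelian subgroup `V`
centralised by its 2-core and an offender on `V`.
-/

set_option autoImplicit false
set_option linter.unusedSectionVars false
set_option linter.style.haveILetI false

namespace Cfsg.Agent.Lib.CIT.Spread

open Cfsg.Agent.Lib
open scoped IsMulCommutative

variable {Y : Type*} [Group Y] [Finite Y]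

/-- The conclusions of the spread lemma, `r ^ 2` being the order of `V`. -/
structure LocalSpread (V : Subgroup Y) (r : ℕ) : Prop where
  two_le : 2 ≤ r
  card_module : Nat.card V = r * r
  core_eq : Subgroup.centralizer (V : Set Y) = Cfsg.pCore 2 Y
  card_sylow : Nat.card (Sylow 2 Y) = r + 1
  le_sylow : ∀ P : Sylow 2 Y, Subgroup.centralizer (V : Set Y) ≤ P
  card_subgroup : ∀ P : Sylow 2 Y,
    Nat.card (P : Subgroup Y) = Nat.card (Subgroup.centralizer (V : Set Y)) * r
  sq_mem : ∀ P : Sylow 2 Y, ∀ x ∈ (P : Subgroup Y), x * x ∈ Subgroup.centralizer (V : Set Y)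
  ti : ∀ P Q : Sylow 2 Y, P ≠ Q →
    (P : Subgroup Y) ⊓ (Q : Subgroup Y) = Subgroup.centralizer (V : Set Y)
  card_group : Nat.card Y =
    Nat.card (Subgroup.centralizer (V : Set Y)) * ((r + 1) * (r * (r - 1)))
  card_fix : ∀ P : Sylow 2 Y,
    Nat.card (V ⊓ Subgroup.centralizer ((P : Subgroup Y) : Set Y) : Subgroup Y) = r
  fix_eq : ∀ P : Sylow 2 Y, ∀ x ∈ (P : Subgroup Y), x ∉ Subgroup.centralizer (V : Set Y) →
    V ⊓ Subgroup.centralizer ({x} : Set Y) = V ⊓ Subgroup.centralizer ((P : Subgroup Y) : Set Y)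
  common : ∀ P Q : Sylow 2 Y, P ≠ Q → ∀ v ∈ V,
    v ∈ Subgroup.centralizer ((P : Subgroup Y) : Set Y) →
    v ∈ Subgroup.centralizer ((Q : Subgroup Y) : Set Y) → v = 1
  three : ∀ P : Sylow 2 Y, ∀ τ ∈ (P : Subgroup Y), τ ∉ Subgroup.centralizer (V : Set Y) →
    ∃ y : Y, orderOf y = 3 ∧ τ * y * τ⁻¹ * y ∈ Subgroup.centralizer (V : Set Y)
  invert : ∀ P Q : Sylow 2 Y, P ≠ Q → ∀ t : Y,
    (P : Subgroup Y).map (MulAut.conj t).toMonoidHom = Q →
    (Q : Subgroup Y).map (MulAut.conj t).toMonoidHom = P →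
    t * t ∈ Subgroup.centralizer (V : Set Y) ∧
    ∀ k : Y, k ∈ Subgroup.normalizer ((P : Subgroup Y) : Set Y) →
      k ∈ Subgroup.normalizer ((Q : Subgroup Y) : Set Y) →
      t * k * t⁻¹ * k ∈ Subgroup.centralizer (V : Set Y)

theorem centralizer_isPGroup (hY : IsCIT Y) {V : Subgroup Y} (hV : ∀ v ∈ V, v * v = 1)
    (hV1 : V ≠ ⊥) : IsPGroup 2 (Subgroup.centralizer (V : Set Y)) := by
  obtain ⟨v, hv⟩ := Subgroup.ne_bot_iff_exists_ne_one.1 hV1
  refine (hY (v : Y) ?_).to_le fun x hx => Subgroup.mem_centralizer_singleton_iff.2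
    (Subgroup.mem_centralizer_iff.1 hx v v.2).symm
  exact orderOf_eq_prime (by rw [pow_two, hV _ v.2]) fun e => hv (Subtype.ext e)

/-- **The spread lemma for a local group.** -/
theorem localSpread (hY : IsCIT Y) {V : Subgroup Y} [V.Normal] (hV : ∀ v ∈ V, v * v = 1)
    (hV1 : V ≠ ⊥) (hcore : Cfsg.pCore 2 Y ≤ Subgroup.centralizer (V : Set Y))
    {A : Subgroup Y} (hA : ∀ a ∈ A, a * a = 1) (hAV : ¬ A ≤ Subgroup.centralizer (V : Set Y))
    (hoff : Nat.card V * Nat.card (A ⊓ Subgroup.centralizer (V : Set Y) : Subgroup Y) ≤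
      Nat.card A * Nat.card (V ⊓ Subgroup.centralizer (A : Set Y) : Subgroup Y)) :
    ∃ r, LocalSpread V r := by
  classical
  haveI : Fact (Nat.Prime 2) := ⟨Nat.prime_two⟩
  haveI : IsMulCommutative V := ⟨⟨fun a b => Subtype.ext (commute_of_sq hV a.2 b.2)⟩⟩
  set D : Subgroup Y := Subgroup.centralizer (V : Set Y) with hD
  haveI : D.Normal := hD ▸ Subgroup.normal_centralizer
  have hD2 : IsPGroup 2 D := hD ▸ centralizer_isPGroup hY hV hV1
  have hcoreEq : D = Cfsg.pCore 2 Y := le_antisymm (PSolvable.le_pCore hD2) hcore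
  let φ : Y →* MulAut V := MulAut.conjNormal
  have hφ : D ≤ φ.ker := fun d hd => by
    refine MonoidHom.mem_ker.2 (MulEquiv.ext fun v => Subtype.ext ?_)
    show d * (v : Y) * d⁻¹ = v
    rw [← Subgroup.mem_centralizer_iff.1 hd v v.2, mul_inv_cancel_right]
  letI : MulDistribMulAction (Y ⧸ D) V := MulDistribMulAction.compHom _ (QuotientGroup.lift D φ hφ)
  have hsmul : ∀ (y : Y) (v : V), ((((y : Y ⧸ D) • v : V)) : Y) = y * v * y⁻¹ := fun y v => rfl
  have hfixed : ∀ (y : Y) (v : V), (y : Y ⧸ D) • v = v ↔ y * (v : Y) = v * y := by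
    intro y v
    rw [Subtype.ext_iff, hsmul, mul_inv_eq_iff_eq_mul]
  have hcit : IsCIT (Y ⧸ D) := hY.quotient hD2
  have hrep : FpfRep (Y ⧸ D) V := by
    refine ⟨fun v => Subtype.ext (hV v v.2), fun x hx => ?_, fun x hx hx1 v hv => ?_, hcit, ?_⟩
    · obtain ⟨y, rfl⟩ := QuotientGroup.mk_surjective x
      refine (QuotientGroup.eq_one_iff y).2 (Subgroup.mem_centralizer_iff.2 fun v hv => ?_)
      exact ((hfixed y ⟨v, hv⟩).1 (hx ⟨v, hv⟩)).symm
    · obtain ⟨y, rfl⟩ := QuotientGroup.mk_surjective x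
      by_contra hv1
      have hv1' : (v : Y) ≠ 1 := fun e => hv1 (Subtype.ext e)
      have hC : IsPGroup 2 (Subgroup.centralizer ({(v : Y)} : Set Y)) :=
        hY _ (orderOf_eq_prime (by rw [pow_two, hV _ v.2]) hv1')
      obtain ⟨k, hk⟩ := hC ⟨y, Subgroup.mem_centralizer_singleton_iff.2 ((hfixed y v).1 hv)⟩
      have hk' : y ^ 2 ^ k = 1 := congrArg Subtype.val hk
      have hd : orderOf (y : Y ⧸ D) ∣ 2 ^ k := orderOf_dvd_of_pow_eq_one (by
        rw [← QuotientGroup.mk_pow, hk', QuotientGroup.mk_one])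
      obtain ⟨j, -, hj⟩ := (Nat.dvd_prime_pow Nat.prime_two).1 hd
      refine hx1 (orderOf_eq_one_iff.1 ?_)
      rw [hj] at hx ⊢
      rcases Nat.eq_zero_or_pos j with rfl | hj0
      · simp
      · exact absurd hx (Nat.not_odd_iff_even.2 ((Nat.even_pow).2 ⟨even_two, by omega⟩))
    · haveI : (Cfsg.pCore 2 (Y ⧸ D)).Normal := inferInstance
      have h1 : (Cfsg.pCore 2 (Y ⧸ D)).comap (QuotientGroup.mk' D) ≤ D := by
        refine le_trans ?_ hcoreEq.ge
        refine PSolvable.le_pCore ?_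
        refine PSolvable.pCore_isPGroup.comap_of_ker_isPGroup _ ?_
        rw [QuotientGroup.ker_mk']
        exact hD2
      refine le_bot_iff.1 fun x hx => ?_
      obtain ⟨y, rfl⟩ := QuotientGroup.mk_surjective x
      exact Subgroup.mem_bot.2 ((QuotientGroup.eq_one_iff y).2 (h1 hx))
  set π : Y →* Y ⧸ D := QuotientGroup.mk' D with hπ
  have hπs : Function.Surjective π := QuotientGroup.mk'_surjective D
  -- fixed points of an image
  have hfixcard : ∀ H : Subgroup Y,
      Nat.card (fix ((H.map π : Subgroup (Y ⧸ D)) : Set (Y ⧸ D)) : Subgroup V) =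
        Nat.card (V ⊓ Subgroup.centralizer (H : Set Y) : Subgroup Y) := by
    intro H
    refine Nat.card_congr
      { toFun := fun v => ⟨((v : V) : Y), (v : V).2, Subgroup.mem_centralizer_iff.2 fun h hh => ?_⟩
        invFun := fun v => ⟨⟨(v : Y), v.2.1⟩, ?_⟩
        left_inv := fun v => rfl
        right_inv := fun v => rfl }
    · exact (hfixed h v).1 (v.2 _ ⟨h, hh, rfl⟩)
    · rintro _ ⟨h, hh, rfl⟩
      exact (hfixed h _).2 (Subgroup.mem_centralizer_iff.1 v.2.2 h hh)
  have hcardA : Nat.card (A.map π) * Nat.card (A ⊓ D : Subgroup Y) = Nat.card A := by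
    have h1 := ((π.comp A.subtype).ker).card_eq_card_quotient_mul_card_subgroup
    rw [Nat.card_congr (QuotientGroup.quotientKerEquivRange _).toEquiv] at h1
    have hr : (π.comp A.subtype).range = A.map π := by
      rw [MonoidHom.range_comp, Subgroup.range_subtype]
    have hk : (π.comp A.subtype).ker = (A ⊓ D).subgroupOf A := by
      ext x
      simp [MonoidHom.mem_ker, Subgroup.mem_subgroupOf, hπ]
    rw [hr, hk, Nat.card_congr (Subgroup.subgroupOfEquivOfLe inf_le_left).toEquiv] at h1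
    exact h1.symm
  have hQ : IsQuadOffender V (A.map π) := by
    refine hrep.isQuadOffender ?_ ?_ ?_
    · rw [Ne, Subgroup.map_eq_bot_iff, QuotientGroup.ker_mk']
      exact hAV
    · rintro _ ⟨a, ha, rfl⟩
      rw [← map_mul, hA a ha, map_one]
    · rw [hfixcard]
      refine Nat.le_of_mul_le_mul_right ?_ (Nat.card_pos (α := (A ⊓ D : Subgroup Y)))
      calc Nat.card V * Nat.card (A ⊓ D : Subgroup Y)
          ≤ Nat.card A * Nat.card (V ⊓ Subgroup.centralizer (A : Set Y) : Subgroup Y) := hoff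
        _ = _ := by rw [← hcardA]; ring
  set r := Nat.card (A.map π) with hr
  have hrV : Nat.card V = r * r := by
    rw [← hQ.card_fix_sq hrep, ← hQ.card_eq hrep]
  have hDle : ∀ P : Sylow 2 Y, D ≤ P := fun P => by
    rw [hcoreEq]; exact PSolvable.pCore_le_sylow P
  have himg : ∀ P : Sylow 2 Y, IsQuadOffender V ((P : Subgroup Y).map π) := fun P => by
    have h1 := hQ.of_sylow hrep (P.mapSurjective hπs)
    rwa [Sylow.coe_mapSurjective] at h1
  have hcomap : ∀ P : Sylow 2 Y, ((P : Subgroup Y).map π).comap π = P := fun P => by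
    refine Subgroup.comap_map_eq_self ?_
    rw [QuotientGroup.ker_mk']
    exact hDle P
  have hne : ∀ P Q : Sylow 2 Y, P ≠ Q → (P : Subgroup Y).map π ≠ (Q : Subgroup Y).map π :=
    fun P Q h e => h (Sylow.ext (by rw [← hcomap P, e, hcomap Q]))
  refine ⟨r, ?_, hrV, hcoreEq, ?_, hDle, fun P => ?_, fun P x hx => ?_, fun P Q hPQ => ?_, ?_,
    fun P => ?_, fun P x hx hxD => ?_, fun P Q hPQ v hv hvP hvQ => ?_, fun P τ hτ hτD => ?_,
    fun P Q hPQ t ht1 ht2 => ?_⟩
  · exact hQ.one_lt_card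
  · rw [← hQ.card_sylow hrep]
    refine Nat.card_eq_of_bijective (fun P => P.mapSurjective hπs) ⟨fun P Q e => ?_, ?_⟩
    · refine Sylow.ext ?_
      rw [← hcomap P, ← hcomap Q, ← Sylow.coe_mapSurjective hπs P, ← Sylow.coe_mapSurjective hπs Q]
      exact congrArg (fun R : Sylow 2 (Y ⧸ D) => (R : Subgroup (Y ⧸ D)).comap π) e
    · exact Sylow.mapSurjective_surjective hπs 2
  · have h1 := ((π.comp (P : Subgroup Y).subtype).ker).card_eq_card_quotient_mul_card_subgroup
    rw [Nat.card_congr (QuotientGroup.quotientKerEquivRange _).toEquiv] at h1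
    have hr' : (π.comp (P : Subgroup Y).subtype).range = (P : Subgroup Y).map π := by
      rw [MonoidHom.range_comp, Subgroup.range_subtype]
    have hk : (π.comp (P : Subgroup Y).subtype).ker = D.subgroupOf P := by
      ext x
      simp [MonoidHom.mem_ker, Subgroup.mem_subgroupOf, hπ]
    rw [hr', hk, Nat.card_congr (Subgroup.subgroupOfEquivOfLe (hDle P)).toEquiv,
      IsQuadOffender.card_eq_card hrep (himg P) hQ] at h1
    rw [h1, mul_comm]
  · rw [← QuotientGroup.eq_one_iff, QuotientGroup.mk_mul]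
    exact (himg P).sq _ (Subgroup.mem_map_of_mem π hx)
  · refine le_antisymm (fun x hx => ?_) (le_inf (hDle P) (hDle Q))
    have h1 := (himg P).inf_eq_bot hrep (himg Q) (hne P Q hPQ)
    have h2 : π x ∈ (P : Subgroup Y).map π ⊓ (Q : Subgroup Y).map π :=
      ⟨Subgroup.mem_map_of_mem π hx.1, Subgroup.mem_map_of_mem π hx.2⟩
    rw [h1, Subgroup.mem_bot] at h2
    exact (QuotientGroup.eq_one_iff x).1 h2
  · rw [D.card_eq_card_quotient_mul_card_subgroup, hQ.card_group hrep, mul_comm]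
  · rw [← hfixcard, ← (himg P).card_eq hrep, IsQuadOffender.card_eq_card hrep (himg P) hQ]
  · have h1 := (himg P).same (π x) (Subgroup.mem_map_of_mem π hx)
      (fun e => hxD ((QuotientGroup.eq_one_iff x).1 e))
    refine le_antisymm (fun v hv => ⟨hv.1, Subgroup.mem_centralizer_iff.2 fun p hp => ?_⟩)
      (inf_le_inf_left _ (Subgroup.centralizer_le (Set.singleton_subset_iff.2 hx)))
    have h2 : (⟨v, hv.1⟩ : V) ∈ (fix {π x} : Subgroup V) :=
      mem_fix_singleton.2 ((hfixed x _).2 (Subgroup.mem_centralizer_singleton_iff.1 hv.2).symm)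
    rw [h1] at h2
    exact (hfixed p _).1 (h2 _ (Subgroup.mem_map_of_mem π hp))
  · by_contra hv1
    refine hne P Q hPQ ((himg P).eq_of_common_fix hrep (himg Q) (z := (⟨v, hv⟩ : V))
      (fun e => hv1 (congrArg Subtype.val e)) ?_ ?_)
    · rintro _ ⟨p, hp, rfl⟩
      exact (hfixed p _).2 (Subgroup.mem_centralizer_iff.1 hvP p hp)
    · rintro _ ⟨p, hp, rfl⟩
      exact (hfixed p _).2 (Subgroup.mem_centralizer_iff.1 hvQ p hp)
  · -- an element of order three inverted modulo `D`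
    obtain ⟨y', t', hy', ht', hinv'⟩ := hQ.exists_order_three hrep
    have hτ2 : orderOf (π τ) = 2 := orderOf_two (fun e => hτD ((QuotientGroup.eq_one_iff τ).1 e))
      ((himg P).sq _ (Subgroup.mem_map_of_mem π hτ))
    obtain ⟨g, hg⟩ := isConj_iff.1 (hQ.isConj hrep ht' hτ2)
    have hyτ : π τ * (g * y' * g⁻¹) * (π τ)⁻¹ = (g * y' * g⁻¹)⁻¹ := by
      rw [← hg]
      calc g * t' * g⁻¹ * (g * y' * g⁻¹) * (g * t' * g⁻¹)⁻¹
          = g * (t' * y' * t'⁻¹) * g⁻¹ := by group
        _ = (g * y' * g⁻¹)⁻¹ := by rw [hinv']; group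
    obtain ⟨y₀, hy₀⟩ := hπs (g * y' * g⁻¹)
    have hy₀o : orderOf (π y₀) = 3 := by
      rw [hy₀]
      exact ((MulAut.conj g).orderOf_eq y').trans hy'
    obtain ⟨k, hk⟩ := hD2 ⟨y₀ ^ 3, (QuotientGroup.eq_one_iff _).1 (by
      show π (y₀ ^ 3) = 1
      rw [map_pow, ← hy₀o, pow_orderOf_eq_one])⟩
    have hk' : (y₀ ^ 3) ^ 2 ^ k = 1 := congrArg Subtype.val hk
    set y := y₀ ^ 4 ^ k with hydef
    have hπy : π y = π y₀ := by
      rw [hydef, map_pow, ← pow_mod_orderOf, hy₀o, Nat.pow_mod]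
      simp
    refine ⟨y, orderOf_eq_prime (p := 3) (hp := ⟨Nat.prime_three⟩) ?_ ?_, ?_⟩
    · rw [hydef, ← pow_mul, show 4 ^ k * 3 = 3 * (2 ^ k * 2 ^ k) by
        rw [← mul_pow]; norm_num; ring, pow_mul, pow_mul, hk', one_pow]
    · intro e
      rw [e, map_one] at hπy
      rw [← hπy, orderOf_one] at hy₀o
      omega
    · refine (QuotientGroup.eq_one_iff _).1 ?_
      show π (τ * y * τ⁻¹ * y) = 1
      rw [map_mul, map_mul, map_mul, map_inv, hπy, hy₀, hyτ, inv_mul_cancel]
  · -- swapping two Sylow subgroups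
    have himgconj : ∀ (R : Sylow 2 Y) (u : Y), cjBy (π u) ((R : Subgroup Y).map π) =
        ((R : Subgroup Y).map (MulAut.conj u).toMonoidHom).map π := by
      intro R u
      rw [cjBy, Subgroup.map_map, Subgroup.map_map]
      congr 1
    have hsw : π t ∈ IsQuadOffender.swaps ((P : Subgroup Y).map π) ((Q : Subgroup Y).map π) :=
      ⟨by rw [himgconj, ht1], by rw [himgconj, ht2]⟩
    refine ⟨(QuotientGroup.eq_one_iff _).1 ?_, fun k hkP hkQ => (QuotientGroup.eq_one_iff _).1 ?_⟩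
    · show π (t * t) = 1
      rw [map_mul]
      exact (himg P).swap_sq hrep (himg Q) (hne P Q hPQ).symm hsw
    · show π (t * k * t⁻¹ * k) = 1
      rw [map_mul, map_mul, map_mul, map_inv, (himg P).swap_inverts hrep (himg Q)
        (hne P Q hPQ).symm hsw (IsQuadOffender.mem_twoStab.2 ⟨(himgconj P k).trans
          (congrArg (Subgroup.map π) (Subgroup.mem_normalizer_iff_map_conj_eq.1 hkP)),
          (himgconj Q k).trans
          (congrArg (Subgroup.map π) (Subgroup.mem_normalizer_iff_map_conj_eq.1 hkQ))⟩), inv_mul_cancel]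

end Cfsg.Agent.Lib.CIT.Spread
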