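import Cfsg.Agent.Lib.CIT.Basic
import Cfsg.Agent.Lib.CIT.Shape
import Cfsg.Agent.Lib.CIT.SpreadBridge
import Cfsg.Agent.Lib.Elem69.EngelTwo
import Cfsg.Agent.Lib.CentralElement.Offender
import Cfsg.Agent.Lib.PSolvable.Core

/-!
The elementary abelian subgroups of maximal order of a Sylow 2-subgroup of a CIT group with
nontrivial 2-core: either all lie in the 2-core, or the normal one is unique and normal in the
whole group, or the group is in the natural module configuration.  Written by helper73.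
-/

set_option autoImplicit false

namespace Cfsg.Agent.Lib.CIT

open Cfsg.Agent.Lib.SECount
open scoped commutatorElement

variable {Y : Type*} [Group Y]

/-- The natural module configuration, before the choice of a torus. -/
structure FlagPre (V : Subgroup Y) (P : Sylow 2 Y) (A : Subgroup Y) (r : ℕ) : Prop where
  spread : Spread.LocalSpread V r
  normal : V.Normal
  selfC : Subgroup.centralizer (V : Set Y) = V
  sq_left : ∀ x ∈ V, x * x = 1
  sq_right : ∀ x ∈ A, x * x = 1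
  le : A ≤ (P : Subgroup Y)
  card_right : Nat.card A = r * r
  card_inf : Nat.card (V ⊓ A : Subgroup Y) = r
  eq_sup : V ⊔ A = (P : Subgroup Y)
  conj_mem : ∀ p ∈ (P : Subgroup Y), ∀ a ∈ A, p * a * p⁻¹ ∈ A
  cent : ∀ v ∈ V, ∀ a ∈ A, v * a = a * v → v ∈ A ∨ a ∈ V

/-- The involutions in the centre of the 2-core, with the identity. -/
def omegaCore (Y : Type*) [Group Y] : Subgroup Y where
  carrier := {x | x ∈ Cfsg.pCore 2 Y ∧ x * x = 1 ∧ ∀ z ∈ Cfsg.pCore 2 Y, x * z = z * x}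
  one_mem' := ⟨one_mem _, one_mul 1, fun z _ => by rw [one_mul, mul_one]⟩
  mul_mem' := fun {a b} ha hb => ⟨mul_mem ha.1 hb.1, by
      calc a * b * (a * b) = a * (b * a) * b := by group
        _ = a * a * (b * b) := by rw [← ha.2.2 b hb.1]; group
        _ = 1 := by rw [ha.2.1, hb.2.1, mul_one],
    fun z hz => by rw [mul_assoc, hb.2.2 z hz, ← mul_assoc, ha.2.2 z hz, mul_assoc]⟩
  inv_mem' := fun {a} ha => by
    rw [show a⁻¹ = a from inv_eq_of_mul_eq_one_right ha.2.1]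
    exact ha

section

variable [Finite Y]

omit [Finite Y] in
theorem pCore_two_normal : (Cfsg.pCore 2 Y).Normal := Subgroup.sSup_normal _ fun _ h => h.1

omit [Finite Y] in
theorem omegaCore_normal : (omegaCore Y).Normal := by
  refine ⟨fun x hx g => ⟨pCore_two_normal.conj_mem x hx.1 g, ?_, fun z hz => ?_⟩⟩
  · calc g * x * g⁻¹ * (g * x * g⁻¹) = g * (x * x) * g⁻¹ := by group
      _ = 1 := by rw [hx.2.1, mul_one, mul_inv_cancel]
  · have := hx.2.2 (g⁻¹ * z * g) (pCore_two_normal.conj_mem' z hz g)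
    calc g * x * g⁻¹ * z = g * (x * (g⁻¹ * z * g)) * g⁻¹ := by group
      _ = z * (g * x * g⁻¹) := by rw [this]; group

theorem omegaCore_ne_bot (hR : Cfsg.pCore 2 Y ≠ ⊥) : omegaCore Y ≠ ⊥ := by
  have : Fact (Nat.Prime 2) := ⟨Nat.prime_two⟩
  have : Nontrivial (Cfsg.pCore 2 Y) := (Subgroup.nontrivial_iff_ne_bot _).2 hR
  have hp : IsPGroup 2 (Cfsg.pCore 2 Y) := PSolvable.pCore_isPGroup
  have hnt := hp.center_nontrivial
  obtain ⟨n, hn0, hn⟩ :=
    (hp.to_subgroup (Subgroup.center (Cfsg.pCore 2 Y))).nontrivial_iff_card.1 hnt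
  obtain ⟨z, hz⟩ := exists_prime_orderOf_dvd_card' (G := Subgroup.center (Cfsg.pCore 2 Y)) 2
    (by rw [hn]; exact dvd_pow_self 2 hn0.ne')
  have hz' : orderOf ((z : Cfsg.pCore 2 Y) : Y) = 2 := by
    rw [Subgroup.orderOf_coe, Subgroup.orderOf_coe, hz]
  have hmem : ((z : Cfsg.pCore 2 Y) : Y) ∈ omegaCore Y := ⟨(z : Cfsg.pCore 2 Y).2, invo_sq hz',
    fun w hw => (congrArg Subtype.val (Subgroup.mem_center_iff.1 z.2 ⟨w, hw⟩)).symm⟩
  intro hb
  rw [hb, Subgroup.mem_bot] at hmem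
  exact invo_ne_one hz' hmem

omit [Finite Y] in
theorem comm_of_sq {H : Subgroup Y} (h : ∀ x ∈ H, x * x = 1) {a b : Y} (ha : a ∈ H) (hb : b ∈ H) :
    a * b = b * a := by
  have h1 := inv_eq_of_mul_eq_one_right (h _ (H.mul_mem ha hb))
  rw [mul_inv_rev, inv_eq_of_mul_eq_one_right (h _ ha), inv_eq_of_mul_eq_one_right (h _ hb)] at h1
  exact h1.symm

/-- The identities of a 2-group with a fixed-point-free automorphism of order three, for conjugation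
by an element of order three. -/
theorem fpf_three (hY : IsCIT Y) {y : Y} (hy : orderOf y = 3) :
    (∀ x ∈ Cfsg.pCore 2 Y, x * (y * x * y⁻¹) * (y⁻¹ * x * y) = 1 ∧
      x * (y * x * y⁻¹) = y * x * y⁻¹ * x) ∧
    ∀ a ∈ Cfsg.pCore 2 Y, ∀ b ∈ Cfsg.pCore 2 Y, ∀ c ∈ Cfsg.pCore 2 Y,
      ⁅a, b⁆ * c = c * ⁅a, b⁆ := by
  set R := Cfsg.pCore 2 Y with hR
  have hRn : R.Normal := pCore_two_normal
  have hRp : IsPGroup 2 R := PSolvable.pCore_isPGroup
  have hy3 : y * y * y = 1 := by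
    rw [← pow_three', ← hy, pow_orderOf_eq_one]
  have hy1 : y ≠ 1 := fun e => by simp [e] at hy
  have hyodd : Odd (orderOf y) := hy ▸ (by decide)
  have hfix : ∀ x ∈ R, y * x * y⁻¹ = x → x = 1 := fun x hx e =>
    hY.eq_one_of_mem hRp hyodd hy1 hx (mul_inv_eq_iff_eq_mul.1 e)
  let φ : R ≃* R :=
    { toFun := fun x => ⟨y * x * y⁻¹, hRn.conj_mem _ x.2 y⟩
      invFun := fun x => ⟨y⁻¹ * x * y, hRn.conj_mem' _ x.2 y⟩
      left_inv := fun x => Subtype.ext (by simp only; group)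
      right_inv := fun x => Subtype.ext (by simp only; group)
      map_mul' := fun a b => Subtype.ext (by simp only [Subgroup.coe_mul]; group) }
  have hφ : ∀ x : R, ((φ x : R) : Y) = y * x * y⁻¹ := fun _ => rfl
  have h3 : ∀ x, φ (φ (φ x)) = x := fun x => Subtype.ext (by
    rw [hφ, hφ, hφ]
    calc y * (y * (y * (x : Y) * y⁻¹) * y⁻¹) * y⁻¹ = (y * y * y) * x * (y * y * y)⁻¹ := by group
      _ = x := by rw [hy3]; group)
  have hfix' : ∀ x, φ x = x → x = 1 := fun x e =>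
    Subtype.ext (hfix x x.2 (congrArg Subtype.val e))
  have hprod : ∀ x ∈ R, x * (y * x * y⁻¹) * (y⁻¹ * x * y) = 1 := by
    intro x hx
    have hinj : Function.Injective fun a : R => a⁻¹ * φ a := by
      intro a b e
      have e' : a⁻¹ * φ a = b⁻¹ * φ b := e
      refine (mul_inv_eq_one.1 (hfix' (b * a⁻¹) ?_)).symm
      rw [map_mul, map_inv]
      calc φ b * (φ a)⁻¹ = b * (b⁻¹ * φ b) * (a⁻¹ * φ a)⁻¹ * a⁻¹ := by group
        _ = b * a⁻¹ := by rw [e']; group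
    obtain ⟨a, ha⟩ := (Finite.injective_iff_surjective.1 hinj) ⟨x, hx⟩
    have ha' : (a : Y)⁻¹ * (y * a * y⁻¹) = x := congrArg Subtype.val ha
    rw [← ha']
    calc (a : Y)⁻¹ * (y * a * y⁻¹) * (y * ((a : Y)⁻¹ * (y * a * y⁻¹)) * y⁻¹) *
          (y⁻¹ * ((a : Y)⁻¹ * (y * a * y⁻¹)) * y)
        = (a : Y)⁻¹ * (y * y * a * (y * y * y)⁻¹ * (a : Y)⁻¹ * y * a) := by group
      _ = (a : Y)⁻¹ * (y * y * y) * a := by
          rw [show (y * y * y)⁻¹ = 1 by rw [hy3, inv_one]]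
          group
      _ = 1 := by rw [hy3]; group
  refine ⟨fun x hx => ⟨hprod x hx, ?_⟩, fun a ha b hb c hc => ?_⟩
  · have h1 := hprod x hx
    have h2 := hprod x⁻¹ (R.inv_mem hx)
    have e1 : y⁻¹ * x * y = (x * (y * x * y⁻¹))⁻¹ := eq_inv_of_mul_eq_one_right h1
    have e2 : (y⁻¹ * x * y)⁻¹ = (x⁻¹ * (y * x⁻¹ * y⁻¹))⁻¹ :=
      (by group : (y⁻¹ * x * y)⁻¹ = y⁻¹ * x⁻¹ * y).trans (eq_inv_of_mul_eq_one_right h2)
    rw [e1, inv_inv, mul_inv_rev, inv_inv] at e2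
    rw [e2]
    group
  · have hcl := Elem69.class_le_two_of_fpf_three hRp φ h3 hfix'
    have : Fact (Nat.Prime 2) := ⟨Nat.prime_two⟩
    have := hRp.isNilpotent
    rw [← Subgroup.lowerCentralSeries_eq_bot_iff_nilpotencyClass_le] at hcl
    have hcl' : ⁅⁅(⊤ : Subgroup R), ⊤⁆, ⊤⁆ = ⊥ := hcl
    have hmem := Subgroup.commutator_mem_commutator (H₁ := ⁅(⊤ : Subgroup R), ⊤⁆) (H₂ := ⊤)
      (Subgroup.commutator_mem_commutator (Subgroup.mem_top (⟨a, ha⟩ : R))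
        (Subgroup.mem_top (⟨b, hb⟩ : R))) (Subgroup.mem_top (⟨c, hc⟩ : R))
    rw [hcl', Subgroup.mem_bot, commutatorElement_eq_one_iff_mul_comm] at hmem
    simpa [commutatorElement_def] using congrArg Subtype.val hmem

variable {P : Sylow 2 Y}

/-- The offender given by a member outside the 2-core. -/
theorem exists_spread (hY : IsCIT Y) (hR : Cfsg.pCore 2 Y ≠ ⊥) {B : Subgroup Y}
    (hB : IsMember (P : Subgroup Y) B) (hBR : ¬ B ≤ Cfsg.pCore 2 Y) :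
    ∃ r, Spread.LocalSpread (omegaCore Y) r ∧
      Subgroup.centralizer (omegaCore Y : Set Y) = Cfsg.pCore 2 Y ∧
      Nat.card (B ⊓ Cfsg.pCore 2 Y ⊔ omegaCore Y : Subgroup Y) ≤ Nat.card B := by
  have : Fact (Nat.Prime 2) := ⟨Nat.prime_two⟩
  have hVn : (omegaCore Y).Normal := omegaCore_normal
  set V := omegaCore Y with hVdef
  set R := Cfsg.pCore 2 Y with hRdef
  have hV : ∀ v ∈ V, v * v = 1 := fun v hv => hv.2.1
  have hV1 := omegaCore_ne_bot hR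
  have hcore : R ≤ Subgroup.centralizer (V : Set Y) := fun z hz =>
    Subgroup.mem_centralizer_iff.2 fun v hv => hv.2.2 z hz
  have hCV : Subgroup.centralizer (V : Set Y) = R :=
    le_antisymm (PSolvable.le_pCore (Spread.centralizer_isPGroup hY hV hV1)) hcore
  have hsup : ∀ x ∈ (B ⊓ R ⊔ V : Subgroup Y), x * x = 1 := by
    intro x hx
    obtain ⟨b, hb, v, hv, rfl⟩ := Subgroup.mem_sup_of_normal_right.1 hx
    calc b * v * (b * v) = b * (v * b) * v := by group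
      _ = b * b * (v * v) := by rw [hv.2.2 b hb.2]; group
      _ = 1 := by rw [hB.2.1 b hb.1, hV v hv, mul_one]
  have hle : (B ⊓ R ⊔ V : Subgroup Y) ≤ P :=
    sup_le (inf_le_left.trans hB.1) (le_trans (fun v hv => hv.1) (PSolvable.pCore_le_sylow P))
  have hcard : Nat.card (B ⊓ R ⊔ V : Subgroup Y) ≤ Nat.card B := hB.2.2 _ hle hsup
  have hprod := CentralElement.card_sup_mul (B ⊓ R) V
  have hinf : Nat.card (B ⊓ R ⊓ V : Subgroup Y) ≤
      Nat.card (V ⊓ Subgroup.centralizer (B : Set Y) : Subgroup Y) :=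
    Subgroup.card_le_of_le fun x hx => ⟨hx.2, Subgroup.mem_centralizer_iff.2 fun b hb =>
      comm_of_sq hB.2.1 hb hx.1.1⟩
  obtain ⟨r, hr⟩ := Spread.localSpread hY hV hV1 hcore hB.2.1 (hCV ▸ hBR) (by
    rw [hCV]
    calc Nat.card V * Nat.card (B ⊓ R : Subgroup Y)
        = Nat.card (B ⊓ R ⊔ V : Subgroup Y) * Nat.card (B ⊓ R ⊓ V : Subgroup Y) := by
          rw [hprod, mul_comm]
      _ ≤ _ := Nat.mul_le_mul hcard hinf)
  exact ⟨r, hr, hCV, hcard⟩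

/-- The facts about a member outside the 2-core. -/
theorem member_facts (hY : IsCIT Y) (hR : Cfsg.pCore 2 Y ≠ ⊥) {r : ℕ}
    (hS : Spread.LocalSpread (omegaCore Y) r) {B : Subgroup Y}
    (hB : IsMember (P : Subgroup Y) B) (hBR : ¬ B ≤ Cfsg.pCore 2 Y) :
    B ⊔ Cfsg.pCore 2 Y = (P : Subgroup Y) ∧
      omegaCore Y ⊓ Subgroup.centralizer ((P : Subgroup Y) : Set Y) ≤ B ∧
      omegaCore Y ⊓ B = omegaCore Y ⊓ Subgroup.centralizer ((P : Subgroup Y) : Set Y) ∧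
      Nat.card B = Nat.card (B ⊓ Cfsg.pCore 2 Y : Subgroup Y) * r := by
  have : Fact (Nat.Prime 2) := ⟨Nat.prime_two⟩
  have hVn : (omegaCore Y).Normal := omegaCore_normal
  have hRn : (Cfsg.pCore 2 Y).Normal := pCore_two_normal
  obtain ⟨-, -, hCV, hcard⟩ := exists_spread hY hR hB hBR
  set V := omegaCore Y with hVdef
  set R := Cfsg.pCore 2 Y with hRdef
  set Z := V ⊓ Subgroup.centralizer ((P : Subgroup Y) : Set Y) with hZ
  obtain ⟨τ, hτB, hτR⟩ := SetLike.not_le_iff_exists.1 hBR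
  have hinfZ : V ⊓ B ≤ Z := fun x hx => by
    rw [hZ, ← hS.fix_eq P τ (hB.1 hτB) (hCV ▸ hτR)]
    exact ⟨hx.1, Subgroup.mem_centralizer_singleton_iff.2 (comm_of_sq hB.2.1 hx.2 hτB)⟩
  have hRP : R ≤ (P : Subgroup Y) := PSolvable.pCore_le_sylow P
  have hprod := CentralElement.card_sup_mul (B ⊓ R) V
  have hprod2 := CentralElement.card_sup_mul B R
  have hsupP : Nat.card (B ⊔ R : Subgroup Y) ≤ Nat.card (P : Subgroup Y) :=
    Subgroup.card_le_of_le (sup_le hB.1 hRP)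
  rw [hS.card_subgroup P, hCV] at hsupP
  have hinf : Nat.card (B ⊓ R ⊓ V : Subgroup Y) ≤ Nat.card Z :=
    Subgroup.card_le_of_le fun x hx => hinfZ ⟨hx.2, hx.1.1⟩
  have hb0 : 0 < Nat.card (B ⊓ R : Subgroup Y) := Nat.card_pos
  have hR0 : 0 < Nat.card R := Nat.card_pos
  have hr0 : 0 < r := by have := hS.two_le; omega
  rw [hS.card_module] at hprod
  rw [hS.card_fix P] at hinf
  have h1 : Nat.card (B ⊓ R : Subgroup Y) * r ≤ Nat.card B := by
    refine Nat.le_of_mul_le_mul_right ?_ hr0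
    calc Nat.card (B ⊓ R : Subgroup Y) * r * r
        = Nat.card (B ⊓ R ⊔ V : Subgroup Y) * Nat.card (B ⊓ R ⊓ V : Subgroup Y) := by
          rw [hprod]; ring
      _ ≤ Nat.card B * r := Nat.mul_le_mul hcard hinf
  have h2 : Nat.card B ≤ Nat.card (B ⊓ R : Subgroup Y) * r := by
    refine Nat.le_of_mul_le_mul_right ?_ hR0
    calc Nat.card B * Nat.card R
        = Nat.card (B ⊔ R : Subgroup Y) * Nat.card (B ⊓ R : Subgroup Y) := hprod2.symm
      _ ≤ Nat.card R * r * Nat.card (B ⊓ R : Subgroup Y) := Nat.mul_le_mul_right _ hsupP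
      _ = Nat.card (B ⊓ R : Subgroup Y) * r * Nat.card R := by ring
  have hBcard := le_antisymm h2 h1
  have hP : B ⊔ R = (P : Subgroup Y) := by
    refine Subgroup.eq_of_le_of_card_ge (sup_le hB.1 hRP) ?_
    rw [hS.card_subgroup P, hCV]
    refine le_of_eq (Nat.eq_of_mul_eq_mul_right hb0 ?_)
    rw [hprod2, hBcard]
    ring
  have hge : r ≤ Nat.card (B ⊓ R ⊓ V : Subgroup Y) := by
    refine Nat.le_of_mul_le_mul_left ?_ (Nat.mul_pos hb0 hr0)
    calc Nat.card (B ⊓ R : Subgroup Y) * r * r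
        = Nat.card (B ⊓ R ⊔ V : Subgroup Y) * Nat.card (B ⊓ R ⊓ V : Subgroup Y) := by
          rw [hprod]; ring
      _ ≤ Nat.card (B ⊓ R : Subgroup Y) * r * Nat.card (B ⊓ R ⊓ V : Subgroup Y) :=
          Nat.mul_le_mul_right _ (hBcard ▸ hcard)
  have hZeq : B ⊓ R ⊓ V = Z :=
    Subgroup.eq_of_le_of_card_ge (fun x hx => hinfZ ⟨hx.2, hx.1.1⟩) (by rw [hS.card_fix P]; exact hge)
  have hZB : Z ≤ B := hZeq ▸ fun x hx => hx.1.1
  exact ⟨hP, hZB, le_antisymm hinfZ (le_inf inf_le_left hZB), hBcard⟩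

omit [Finite Y] in
/-- In a group of class two commutators do not see inner conjugation. -/
theorem commutator_conj_eq {R : Subgroup Y}
    (hc : ∀ a ∈ R, ∀ b ∈ R, ∀ c ∈ R, ⁅a, b⁆ * c = c * ⁅a, b⁆) {a b g h : Y}
    (ha : a ∈ R) (hb : b ∈ R) (hg : g ∈ R) (hh : h ∈ R) :
    ⁅g * a * g⁻¹, h * b * h⁻¹⁆ = ⁅a, b⁆ := by
  have hz : ∀ x ∈ R, ∀ k ∈ R, ∀ z ∈ R, ⁅k * x * k⁻¹, z⁆ = ⁅x, z⁆ := by
    intro x hx k hk z hz
    set w := ⁅k, x⁆ with hw
    have hwR : w ∈ R := by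
      rw [hw, commutatorElement_def]
      exact R.mul_mem (R.mul_mem (R.mul_mem hk hx) (R.inv_mem hk)) (R.inv_mem hx)
    have e : k * x * k⁻¹ = w * x := by rw [hw, commutatorElement_def]; group
    rw [e, commutatorElement_def, commutatorElement_def]
    calc w * x * z * (w * x)⁻¹ * z⁻¹ = w * (x * z * x⁻¹) * w⁻¹ * z⁻¹ := by group
      _ = x * z * x⁻¹ * z⁻¹ := by
        rw [hw, hc k hk x hx _ (R.mul_mem (R.mul_mem hx hz) (R.inv_mem hx)), mul_inv_cancel_right]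
  rw [hz a ha g hg _ (R.mul_mem (R.mul_mem hh hb) (R.inv_mem hh)), ← commutatorElement_inv,
    hz b hb h hh a ha, commutatorElement_inv]

/-- Any element of `y R`, `y` of order three, acts fixed-point-freely on the 2-core `R`. -/
theorem eq_one_of_coset (hY : IsCIT Y) {y : Y} (hy : orderOf y = 3) {ρ x : Y}
    (hρ : ρ ∈ Cfsg.pCore 2 Y) (hx : x ∈ Cfsg.pCore 2 Y) (hc : y * ρ * x = x * (y * ρ)) : x = 1 := by
  have hRn : (Cfsg.pCore 2 Y).Normal := pCore_two_normal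
  have hRp : IsPGroup 2 (Cfsg.pCore 2 Y) := PSolvable.pCore_isPGroup
  obtain ⟨j, m, hm, hjm⟩ := Nat.exists_eq_two_pow_mul_odd (orderOf_pos (y * ρ)).ne'
  have hyo : orderOf ((y * ρ) ^ 2 ^ j) = m := by
    rw [orderOf_pow_of_dvd (by positivity) (hjm ▸ dvd_mul_right _ _), hjm,
      Nat.mul_div_cancel_left _ (by positivity)]
  refine hY.eq_one_of_mem hRp (hyo ▸ hm) (fun e => ?_) hx
    ((show Commute (y * ρ) x from hc).pow_left _).eq
  have h1 := congrArg (QuotientGroup.mk (s := Cfsg.pCore 2 Y)) e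
  rw [QuotientGroup.mk_pow, QuotientGroup.mk_mul, (QuotientGroup.eq_one_iff ρ).2 hρ, mul_one,
    QuotientGroup.mk_one, ← QuotientGroup.mk_pow, QuotientGroup.eq_one_iff] at h1
  obtain ⟨k, hk⟩ := hRp ⟨_, h1⟩
  have hk' : (y ^ 2 ^ j) ^ 2 ^ k = 1 := congrArg Subtype.val hk
  rw [← pow_mul, ← pow_add] at hk'
  have := orderOf_dvd_of_pow_eq_one hk'
  rw [hy] at this
  exact absurd (Nat.Prime.dvd_of_dvd_pow Nat.prime_three this) (by decide)

/-- In the presence of a member outside the 2-core, the 2-core has all its involutions in `V`, and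
such a member meets it exactly in the fixed space. -/
theorem member_inf (hY : IsCIT Y) (hR : Cfsg.pCore 2 Y ≠ ⊥) {r : ℕ}
    (hS : Spread.LocalSpread (omegaCore Y) r)
    (hthree : ∀ τ : Y, τ ∈ (P : Subgroup Y) → τ * τ ∈ Cfsg.pCore 2 Y → τ ∉ Cfsg.pCore 2 Y →
      ∃ y : Y, orderOf y = 3 ∧ τ * y * τ⁻¹ * y ∈ Cfsg.pCore 2 Y)
    {B : Subgroup Y} (hB : IsMember (P : Subgroup Y) B) (hBR : ¬ B ≤ Cfsg.pCore 2 Y) :
    B ⊓ Cfsg.pCore 2 Y = omegaCore Y ⊓ Subgroup.centralizer ((P : Subgroup Y) : Set Y) := by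
  have : Fact (Nat.Prime 2) := ⟨Nat.prime_two⟩
  have hVn : (omegaCore Y).Normal := omegaCore_normal
  have hRn : (Cfsg.pCore 2 Y).Normal := pCore_two_normal
  obtain ⟨hBP, hZB, hVB, hBcard⟩ := member_facts hY hR hS hB hBR
  obtain ⟨-, -, hCV, -⟩ := exists_spread hY hR hB hBR
  set V := omegaCore Y with hVdef
  set R := Cfsg.pCore 2 Y with hRdef
  set Z := V ⊓ Subgroup.centralizer ((P : Subgroup Y) : Set Y) with hZ
  have hRp : IsPGroup 2 R := PSolvable.pCore_isPGroup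
  have hsq := hB.2.1
  obtain ⟨τ, hτB, hτR⟩ := SetLike.not_le_iff_exists.1 hBR
  have hττ : τ * τ = 1 := hsq τ hτB
  obtain ⟨y, hy, hyτ⟩ := hthree τ (hB.1 hτB) (by rw [hττ]; exact R.one_mem) hτR
  have hyodd : Odd (orderOf y) := hy ▸ (by decide)
  have hy1 : y ≠ 1 := fun e => by simp [e] at hy
  have hy3 : y * y * y = 1 := by
    rw [← pow_three', ← hy, pow_orderOf_eq_one]
  obtain ⟨hprod, hcl⟩ := fpf_three hY hy
  -- an involution `t` in `R τ` inverting `y`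
  obtain ⟨c₀, hc₀, ht, htinv⟩ := exists_invo_lift hyodd hy1 (fun x hx => hRn.conj_mem x hx τ)
    (fun x hx => hRn.conj_mem' x hx y) (by rw [hττ]; exact R.one_mem) hyτ
    (fun x hx e => hY.eq_one_of_mem hRp hyodd hy1 hx e)
  set t := c₀ * τ with htdef
  have htP : t ∈ (P : Subgroup Y) := mul_mem (PSolvable.pCore_le_sylow P hc₀) (hB.1 hτB)
  have htR : t ∉ R := fun e => hτR (by simpa [htdef] using R.mul_mem (R.inv_mem hc₀) e)
  have htfix : ∀ v ∈ V, t * v = v * t → v ∈ Z := fun v hv e => by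
    rw [hZ, ← hS.fix_eq P t htP (hCV ▸ htR)]
    exact ⟨hv, Subgroup.mem_centralizer_singleton_iff.2 e.symm⟩
  have hconjy : t * y * t⁻¹ = y⁻¹ := htinv
  -- no nontrivial element of `V` is fixed by `t` and by `y t y⁻¹`
  have hdisj : ∀ v ∈ V, t * v = v * t → y * t * y⁻¹ * v = v * (y * t * y⁻¹) → v = 1 := by
    intro v hv e1 e2
    refine hY.eq_one_of_mem hRp hyodd hy1 hv.1 ?_
    have e3 : t * (y * t * y⁻¹) = y⁻¹ * y⁻¹ := by
      calc t * (y * t * y⁻¹) = (t * y * t⁻¹) * (t * t) * y⁻¹ := by group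
        _ = y⁻¹ * y⁻¹ := by rw [hconjy, invo_sq ht, mul_one]
    have e4 : y = y⁻¹ * y⁻¹ := by
      rw [← mul_inv_rev, eq_inv_iff_mul_eq_one, ← mul_assoc, hy3]
    rw [e4, ← e3]
    exact ((show Commute t v from e1).mul_left (show Commute (y * t * y⁻¹) v from e2)).eq
  -- elements of `B ⊓ R` commute with the conjugates by `y`
  have hconjsq : ∀ c ∈ B ⊓ R, ∀ g : Y, g * c * g⁻¹ * (g * c * g⁻¹) = 1 := fun c hc g => by
    calc g * c * g⁻¹ * (g * c * g⁻¹) = g * (c * c) * g⁻¹ := by group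
      _ = 1 := by rw [hsq c hc.1, mul_one, mul_inv_cancel]
  have hkV : ∀ b ∈ B ⊓ R, ∀ c ∈ B ⊓ R, ∀ g : Y, ⁅b, g * c * g⁻¹⁆ ∈ V := by
    intro b hb c hc g
    have hd : g * c * g⁻¹ ∈ R := hRn.conj_mem _ hc.2 g
    have hk : ⁅b, g * c * g⁻¹⁆ ∈ R := by
      rw [commutatorElement_def]
      exact R.mul_mem (R.mul_mem (R.mul_mem hb.2 hd) (R.inv_mem hb.2)) (R.inv_mem hd)
    refine ⟨hk, ?_, fun z hz => hcl b hb.2 _ hd z hz⟩
    have hbk := hcl b hb.2 _ hd b hb.2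
    set d := g * c * g⁻¹ with hddef
    set k := ⁅b, d⁆ with hkdef
    have e : b * d * b⁻¹ = k * d := by rw [hkdef, commutatorElement_def]; group
    have e2 : d = k * (k * d) := by
      calc d = (b * b) * d * (b * b)⁻¹ := by rw [hsq b hb.1]; group
        _ = b * (b * d * b⁻¹) * b⁻¹ := by group
        _ = b * k * (d * b⁻¹) := by rw [e]; group
        _ = k * (b * d * b⁻¹) := by rw [← hbk]; group
        _ = k * (k * d) := by rw [e]
    rw [← mul_assoc] at e2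
    exact mul_eq_right.1 e2.symm
  have htk : ∀ b ∈ B ⊓ R, ∀ c ∈ B ⊓ R, t * ⁅b, y * c * y⁻¹⁆ * t⁻¹ = ⁅b, y * c * y⁻¹⁆ := by
    intro b hb c hc
    have htb : ∀ x ∈ B ⊓ R, t * x * t⁻¹ = c₀ * x * c₀⁻¹ := by
      intro x hx
      rw [htdef]
      calc c₀ * τ * x * (c₀ * τ)⁻¹ = c₀ * (τ * x) * τ⁻¹ * c₀⁻¹ := by group
        _ = c₀ * x * c₀⁻¹ := by rw [comm_of_sq hsq hτB hx.1]; group
    have hty' : (t * y * t⁻¹)⁻¹ = y := by rw [hconjy, inv_inv]
    have e0 : t * ⁅b, y * c * y⁻¹⁆ * t⁻¹ = ⁅c₀ * b * c₀⁻¹,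
        (y⁻¹ * c₀ * y) * (y⁻¹ * c * y) * (y⁻¹ * c₀ * y)⁻¹⁆ := by
      calc t * ⁅b, y * c * y⁻¹⁆ * t⁻¹
          = ⁅t * b * t⁻¹, (t * y * t⁻¹) * (t * c * t⁻¹) * (t * y * t⁻¹)⁻¹⁆ := by
            simp only [commutatorElement_def]; group
        _ = _ := by rw [hty', htb b hb, htb c hc, hconjy]; congr 1; group
    rw [e0, commutator_conj_eq hcl hb.2 (hRn.conj_mem' _ hc.2 y) hc₀ (hRn.conj_mem' _ hc₀ y)]
    -- `[b, y⁻¹ c y] = [b, y c y⁻¹]`
    obtain ⟨hp, -⟩ := hprod c hc.2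
    set d := y * c * y⁻¹ with hd
    have hdR : d ∈ R := hRn.conj_mem _ hc.2 y
    have hk2 : ⁅b, d⁆ * ⁅b, d⁆ = 1 := (hkV b hb c hc y).2.1
    have e1 : y⁻¹ * c * y = (c * d)⁻¹ := eq_inv_of_mul_eq_one_right hp
    have e2 : (c * d)⁻¹ = d⁻¹ * c := by rw [mul_inv_rev, inv_eq_of_mul_eq_one_right (hsq c hc.1)]
    have hdinv : d⁻¹ = d := inv_eq_of_mul_eq_one_right (hconjsq c hc y)
    rw [e1, e2, hdinv]
    calc ⁅b, d * c⁆ = ⁅b, d⁆ * (d * (b * c * b⁻¹ * c⁻¹) * d⁻¹) := by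
          simp only [commutatorElement_def]; group
      _ = ⁅b, d⁆ := by
          rw [comm_of_sq hsq hb.1 hc.1]; group
  have hk1 : ∀ b ∈ B ⊓ R, ∀ c ∈ B ⊓ R, b * (y * c * y⁻¹) = y * c * y⁻¹ * b := by
    intro b hb c hc
    refine commutatorElement_eq_one_iff_mul_comm.1
      (hdisj _ (hkV b hb c hc y) (mul_inv_eq_iff_eq_mul.1 (htk b hb c hc)) ?_)
    set k := ⁅b, y * c * y⁻¹⁆ with hk
    have h1 : y⁻¹ * k * y = ⁅c, y⁻¹ * b * y⁆⁻¹ := by
      rw [hk, commutatorElement_inv]; simp only [commutatorElement_def]; group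
    have hty : t * y * t⁻¹ = y⁻¹ := hconjy
    have h2 : ⁅c, y⁻¹ * b * y⁆ = ⁅c, y * b * y⁻¹⁆ := by
      have := hprod b hb.2
      set d := y * b * y⁻¹ with hd
      have e1 : y⁻¹ * b * y = (b * d)⁻¹ := eq_inv_of_mul_eq_one_right this.1
      have hdinv : d⁻¹ = d := inv_eq_of_mul_eq_one_right (hconjsq b hb y)
      rw [e1, mul_inv_rev, inv_eq_of_mul_eq_one_right (hsq b hb.1), hdinv]
      calc ⁅c, d * b⁆ = ⁅c, d⁆ * (d * (c * b * c⁻¹ * b⁻¹) * d⁻¹) := by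
            simp only [commutatorElement_def]; group
        _ = ⁅c, d⁆ := by rw [comm_of_sq hsq hc.1 hb.1]; group
    have h3 := htk c hc b hb
    have h4 : t * (y⁻¹ * k * y) * t⁻¹ = y⁻¹ * k * y := by
      rw [h1, h2]
      calc t * ⁅c, y * b * y⁻¹⁆⁻¹ * t⁻¹ = (t * ⁅c, y * b * y⁻¹⁆ * t⁻¹)⁻¹ := by group
        _ = ⁅c, y * b * y⁻¹⁆⁻¹ := by rw [h3]
    calc y * t * y⁻¹ * k = y * (t * (y⁻¹ * k * y) * t⁻¹) * t * y⁻¹ := by group
      _ = k * (y * t * y⁻¹) := by rw [h4]; group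
  -- the product of `B ⊓ R` and its conjugate
  have hρ : y⁻¹ * (τ * (y * τ * y⁻¹)) ∈ R := by
    rw [← QuotientGroup.eq_one_iff]
    have h1 : ((τ * y * τ⁻¹ * y : Y) : Y ⧸ R) = 1 := (QuotientGroup.eq_one_iff _).2 hyτ
    rw [show y⁻¹ * (τ * (y * τ * y⁻¹)) = y⁻¹ * ((τ * y * τ⁻¹ * y) * (y⁻¹ * (τ * τ) * y⁻¹)) by group,
      hττ, mul_one, QuotientGroup.mk_mul, QuotientGroup.mk_mul, h1, one_mul, ← QuotientGroup.mk_mul,
      show y⁻¹ * (y⁻¹ * y⁻¹) = (y * y * y)⁻¹ by group, hy3, inv_one, QuotientGroup.mk_one]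
  have hdis : ∀ w ∈ B ⊓ R, y⁻¹ * w * y ∈ B ⊓ R → w = 1 := by
    intro w hw hw'
    set ρ := y⁻¹ * (τ * (y * τ * y⁻¹)) with hρdef
    have hcomm : y * ρ * w = w * (y * ρ) := by
      have e : y * ρ = τ * (y * τ * y⁻¹) := by rw [hρdef]; group
      have hc1 : Commute τ w := comm_of_sq hsq hτB hw.1
      have hc2 : Commute (y * τ * y⁻¹) w := by
        have hh : Commute (MulAut.conj y τ) (MulAut.conj y (y⁻¹ * w * y)) :=
          (show Commute τ (y⁻¹ * w * y) from comm_of_sq hsq hτB hw'.1).map (MulAut.conj y).toMonoidHom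
        simpa [mul_assoc] using hh
      rw [e]
      exact (hc1.mul_left hc2).eq
    exact eq_one_of_coset hY hy hρ hw.2 hcomm
  let W : Subgroup Y :=
    { carrier := {x | ∃ b ∈ B ⊓ R, ∃ c ∈ B ⊓ R, x = b * (y * c * y⁻¹)}
      one_mem' := ⟨1, one_mem _, 1, one_mem _, by group⟩
      mul_mem' := by
        rintro _ _ ⟨b, hb, c, hc, rfl⟩ ⟨b', hb', c', hc', rfl⟩
        refine ⟨b * b', mul_mem hb hb', c * c', mul_mem hc hc', ?_⟩
        calc b * (y * c * y⁻¹) * (b' * (y * c' * y⁻¹))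
            = b * ((y * c * y⁻¹) * b') * (y * c' * y⁻¹) := by group
          _ = b * b' * (y * (c * c') * y⁻¹) := by rw [← hk1 b' hb' c hc]; group
      inv_mem' := by
        rintro _ ⟨b, hb, c, hc, rfl⟩
        refine ⟨b⁻¹, inv_mem hb, c⁻¹, inv_mem hc, ?_⟩
        rw [hk1 b hb c hc]; group }
  have hWle : W ≤ (P : Subgroup Y) := by
    rintro _ ⟨b, hb, c, hc, rfl⟩
    exact mul_mem (hB.1 hb.1) (PSolvable.pCore_le_sylow P (hRn.conj_mem _ hc.2 y))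
  have hWsq : ∀ x ∈ W, x * x = 1 := by
    rintro _ ⟨b, hb, c, hc, rfl⟩
    calc b * (y * c * y⁻¹) * (b * (y * c * y⁻¹))
        = b * ((y * c * y⁻¹) * b) * (y * c * y⁻¹) := by group
      _ = (b * b) * (y * c * y⁻¹ * (y * c * y⁻¹)) := by rw [← hk1 b hb c hc]; group
      _ = 1 := by rw [hsq b hb.1, hconjsq c hc y, mul_one]
  have hWcard : Nat.card (B ⊓ R : Subgroup Y) * Nat.card (B ⊓ R : Subgroup Y) ≤ Nat.card W := by
    rw [← Nat.card_prod]
    refine Nat.card_le_card_of_injective (fun p : (B ⊓ R : Subgroup Y) × (B ⊓ R : Subgroup Y) =>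
      (⟨p.1 * (y * p.2 * y⁻¹), p.1, p.1.2, p.2, p.2.2, rfl⟩ : W)) ?_
    rintro ⟨b, c⟩ ⟨b', c'⟩ e
    have e' : (b : Y) * (y * c * y⁻¹) = b' * (y * c' * y⁻¹) := congrArg Subtype.val e
    have e2 : y⁻¹ * ((b' : Y)⁻¹ * b) * y = (c' : Y) * (c : Y)⁻¹ := by
      calc y⁻¹ * ((b' : Y)⁻¹ * b) * y
          = y⁻¹ * ((b' : Y)⁻¹ * ((b : Y) * (y * c * y⁻¹))) * y * (c : Y)⁻¹ := by group
        _ = (c' : Y) * (c : Y)⁻¹ := by rw [e']; group
    have h1 := hdis _ (mul_mem (inv_mem b'.2) b.2) (e2 ▸ mul_mem c'.2 (inv_mem c.2))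
    rw [h1] at e2
    refine Prod.ext (Subtype.ext (inv_mul_eq_one.1 h1).symm) (Subtype.ext (mul_inv_eq_one.1 ?_).symm)
    rw [← e2]; group
  have hle : Nat.card (B ⊓ R : Subgroup Y) ≤ r := by
    refine Nat.le_of_mul_le_mul_left (hWcard.trans ?_) Nat.card_pos
    rw [← hBcard]
    exact hB.2.2 W hWle hWsq
  refine (Subgroup.eq_of_le_of_card_ge (le_inf hZB (fun x hx => hx.1.1)) ?_).symm
  rw [hS.card_fix P]
  exact hle

/-- The trichotomy for the members. -/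
theorem members_trichotomy (hY : IsCIT Y) (hR : Cfsg.pCore 2 Y ≠ ⊥)
    (hthree : ∀ r, Spread.LocalSpread (omegaCore Y) r → ∀ τ : Y, τ ∈ (P : Subgroup Y) →
      τ * τ ∈ Cfsg.pCore 2 Y → τ ∉ Cfsg.pCore 2 Y →
      ∃ y : Y, orderOf y = 3 ∧ τ * y * τ⁻¹ * y ∈ Cfsg.pCore 2 Y) :
    (∀ B, IsMember (P : Subgroup Y) B → B ≤ Cfsg.pCore 2 Y) ∨
      (IsMember (P : Subgroup Y) (omegaCore Y) ∧
        (∀ B, IsMember (P : Subgroup Y) B → (P : Subgroup Y) ≤ Subgroup.normalizer (B : Set Y) →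
          B = omegaCore Y) ∧
        ∃ B, IsMember (P : Subgroup Y) B ∧
          ((P : Subgroup Y) ⊓ Subgroup.centralizer (omegaCore Y : Set Y)) ⊔ B = P) ∨
      ∃ (A : Subgroup Y) (r : ℕ), FlagPre (omegaCore Y) P A r := by
  have : Fact (Nat.Prime 2) := ⟨Nat.prime_two⟩
  by_cases hall : ∀ B, IsMember (P : Subgroup Y) B → B ≤ Cfsg.pCore 2 Y
  · exact Or.inl hall
  push Not at hall
  obtain ⟨B, hB, hBR⟩ := hall
  obtain ⟨r, hS, hCV, -⟩ := exists_spread hY hR hB hBR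
  have hVn : (omegaCore Y).Normal := omegaCore_normal
  have hRn : (Cfsg.pCore 2 Y).Normal := pCore_two_normal
  set V := omegaCore Y with hVdef
  set R := Cfsg.pCore 2 Y with hRdef
  have hV : ∀ v ∈ V, v * v = 1 := fun v hv => hv.2.1
  have hVR : V ≤ R := fun v hv => hv.1
  have hRP : R ≤ (P : Subgroup Y) := PSolvable.pCore_le_sylow P
  obtain ⟨hBP, hZB, hVB, hBcard⟩ := member_facts hY hR hS hB hBR
  have hBZ := member_inf hY hR hS (hthree r hS) hB hBR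
  have hBr : Nat.card B = r * r := by rw [hBcard, hBZ, hS.card_fix P]
  have hVmem : IsMember (P : Subgroup Y) V := by
    refine ⟨hVR.trans hRP, hV, fun C hC hsqC => ?_⟩
    rw [hS.card_module, ← hBr]
    exact hB.2.2 C hC hsqC
  -- every elementary subgroup of the 2-core lies in `V`
  have homega : ∀ x ∈ R, x * x = 1 → x ∈ V := by
    intro x hx hx2
    let E : Subgroup Y := V ⊔ Subgroup.zpowers x
    have hEsq : ∀ e ∈ E, e * e = 1 := by
      intro e he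
      obtain ⟨v, hv, z, hz, rfl⟩ := Subgroup.mem_sup_of_normal_left.1 he
      have hzR : z ∈ R := (Subgroup.zpowers_le.2 hx) hz
      obtain ⟨i, rfl⟩ := Subgroup.mem_zpowers_iff.1 hz
      have hz2 : x ^ i * x ^ i = 1 := by
        rw [← zpow_add, ← two_mul, zpow_mul, zpow_two, hx2, one_zpow]
      calc v * x ^ i * (v * x ^ i) = v * (x ^ i * v) * x ^ i := by group
        _ = v * v * (x ^ i * x ^ i) := by rw [← hv.2.2 _ hzR]; group
        _ = 1 := by rw [hV v hv, hz2, mul_one]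
    have hEle : E ≤ (P : Subgroup Y) := sup_le (hVR.trans hRP) (Subgroup.zpowers_le.2 (hRP hx))
    have hE : V = E := Subgroup.eq_of_le_of_card_ge le_sup_left (hVmem.2.2 E hEle hEsq)
    rw [hE]
    exact Subgroup.mem_sup_right (Subgroup.mem_zpowers x)
  by_cases hu : ∀ E, IsMember (P : Subgroup Y) E →
      (P : Subgroup Y) ≤ Subgroup.normalizer (E : Set Y) → E = V
  · refine Or.inr (Or.inl ⟨hVmem, hu, B, hB, ?_⟩)
    rw [hCV, inf_eq_right.2 hRP, sup_comm]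
    exact hBP
  push Not at hu
  obtain ⟨A, hA, hAn, hAV⟩ := hu
  have hAR : ¬ A ≤ R := fun hle => hAV (Subgroup.eq_of_le_of_card_ge
    (fun x hx => homega x (hle hx) (hA.2.1 x hx))
    (hA.2.2 V (hVR.trans hRP) hV))
  obtain ⟨hAP, hZA, hVA, hAcard⟩ := member_facts hY hR hS hA hAR
  have hAZ := member_inf hY hR hS (hthree r hS) hA hAR
  set Z := V ⊓ Subgroup.centralizer ((P : Subgroup Y) : Set Y) with hZ
  -- `R = V`
  have hRV : R = V := by
    obtain ⟨τ, hτA, hτR⟩ := SetLike.not_le_iff_exists.1 hAR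
    have hττ : τ * τ = 1 := hA.2.1 τ hτA
    obtain ⟨y, hy, hyτ⟩ := hthree r hS τ (hA.1 hτA) (by rw [hττ]; exact R.one_mem) hτR
    have hy3 : y * y * y = 1 := by rw [← pow_three', ← hy, pow_orderOf_eq_one]
    have hτx : ∀ x ∈ R, τ * x * τ⁻¹ * x⁻¹ ∈ V := by
      intro x hx
      have h1 : τ * x * τ⁻¹ * x⁻¹ ∈ R :=
        R.mul_mem (hRn.conj_mem x hx τ) (R.inv_mem hx)
      have h2 : τ * x * τ⁻¹ * x⁻¹ ∈ A := by
        rw [show τ * x * τ⁻¹ * x⁻¹ = τ * (x * τ⁻¹ * x⁻¹) by group]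
        exact A.mul_mem hτA ((Subgroup.mem_normalizer_iff.1 (hAn (hRP hx)) _).1 (A.inv_mem hτA))
      have h3 : τ * x * τ⁻¹ * x⁻¹ ∈ A ⊓ R := ⟨h2, h1⟩
      rw [hAZ] at h3
      exact h3.1
    set ρ := y⁻¹ * (τ * (y * τ * y⁻¹)) with hρdef
    have hρ : ρ ∈ R := by
      rw [← QuotientGroup.eq_one_iff]
      have h1 : ((τ * y * τ⁻¹ * y : Y) : Y ⧸ R) = 1 := (QuotientGroup.eq_one_iff _).2 hyτ
      rw [hρdef, show y⁻¹ * (τ * (y * τ * y⁻¹)) = y⁻¹ * ((τ * y * τ⁻¹ * y) * (y⁻¹ * (τ * τ) * y⁻¹)) by group,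
        hττ, mul_one, QuotientGroup.mk_mul, QuotientGroup.mk_mul, h1, one_mul, ← QuotientGroup.mk_mul,
        show y⁻¹ * (y⁻¹ * y⁻¹) = (y * y * y)⁻¹ by group, hy3, inv_one, QuotientGroup.mk_one]
    have hτy : ∀ x ∈ R, (y * τ * y⁻¹) * x * (y * τ * y⁻¹)⁻¹ * x⁻¹ ∈ V := by
      intro x hx
      have := hVn.conj_mem _ (hτx (y⁻¹ * x * y) (hRn.conj_mem' x hx y)) y
      rw [show (y * τ * y⁻¹) * x * (y * τ * y⁻¹)⁻¹ * x⁻¹
        = y * (τ * (y⁻¹ * x * y) * τ⁻¹ * (y⁻¹ * x * y)⁻¹) * y⁻¹ by group]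
      exact this
    have hyρ : ∀ x ∈ R, (y * ρ) * x * (y * ρ)⁻¹ * x⁻¹ ∈ V := by
      intro x hx
      have e : y * ρ = τ * (y * τ * y⁻¹) := by rw [hρdef]; group
      rw [e, show τ * (y * τ * y⁻¹) * x * (τ * (y * τ * y⁻¹))⁻¹ * x⁻¹
        = τ * ((y * τ * y⁻¹) * x * (y * τ * y⁻¹)⁻¹ * x⁻¹) * τ⁻¹ * (τ * x * τ⁻¹ * x⁻¹) by group]
      exact V.mul_mem (hVn.conj_mem _ (hτy x hx) τ) (hτx x hx)
    refine (Subgroup.eq_of_le_of_card_ge hVR ?_).symm
    refine Nat.card_le_card_of_injective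
      (fun x : R => (⟨(y * ρ) * x * (y * ρ)⁻¹ * (x : Y)⁻¹, hyρ x x.2⟩ : V)) fun a b e => ?_
    have e' : (y * ρ) * a * (y * ρ)⁻¹ * (a : Y)⁻¹ = (y * ρ) * b * (y * ρ)⁻¹ * (b : Y)⁻¹ :=
      congrArg Subtype.val e
    refine Subtype.ext (inv_mul_eq_one.1 (eq_one_of_coset hY hy hρ
      (mul_mem (R.inv_mem a.2) b.2) ?_))
    calc y * ρ * ((a : Y)⁻¹ * b)
        = ((y * ρ) * a * (y * ρ)⁻¹ * (a : Y)⁻¹ * a)⁻¹ *
            ((y * ρ) * b * (y * ρ)⁻¹ * (b : Y)⁻¹ * b) * (y * ρ) := by group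
      _ = (a : Y)⁻¹ * b * (y * ρ) := by rw [e']; group
  refine Or.inr (Or.inr ⟨A, r, hS, hVn, hCV.trans hRV, hV, hA.2.1, hA.1, ?_, ?_, ?_, ?_, ?_⟩)
  · rw [hAcard, hAZ, hS.card_fix P]
  · rw [hVA, hS.card_fix P]
  · rw [← hRV, sup_comm]
    exact hAP
  · exact fun p hp a ha => (Subgroup.mem_normalizer_iff.1 (hAn hp) a).1 ha
  · intro v hv a ha e
    by_cases haV : a ∈ V
    · exact Or.inr haV
    · left
      have h1 : v ∈ V ⊓ Subgroup.centralizer ({a} : Set Y) :=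
        ⟨hv, Subgroup.mem_centralizer_singleton_iff.2 e⟩
      rw [hS.fix_eq P a (hA.1 ha) (by rw [hCV, hRV]; exact haV)] at h1
      exact hZA h1

end

end Cfsg.Agent.Lib.CIT
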