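import Cfsg.Agent.Lib.CIT.OffenderCount

/-!
Local groups in which involution centralisers are `2`-groups, part 2: the action on `V = Ω₁Z(R)`.

For a Sylow subgroup `S` write `fixV S = C_V(S)`.  These are `q + 1` subgroups of order `q`, meeting
pairwise trivially, and `S` permutes the other Sylow subgroups transitively.
-/

set_option autoImplicit false
set_option linter.unusedSectionVars false
set_option linter.style.haveILetI false

namespace Cfsg.Agent.Lib.CIT.Offender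

open Subgroup

universe u

variable {Y : Type u} [Group Y]

/-- An elementary abelian subgroup of largest order of `P`, outside `R`, with the numerical data. -/
structure Data (P : Sylow 2 Y) (A : Subgroup Y) (q : ℕ) : Prop where
  setup : Setup Y
  le : A ≤ P
  elem : Cfsg.IsElementaryAbelian 2 A
  max : ∀ E : Subgroup Y, E ≤ P → Cfsg.IsElementaryAbelian 2 E → Nat.card E ≤ Nat.card A
  not_le : ¬ A ≤ Cfsg.pCore 2 Y
  two_le : 2 ≤ q
  card_V : Nat.card ↥(omegaV Y) = q * q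
  index_P : (Cfsg.pCore 2 Y).relIndex P = q
  index_A : (Cfsg.pCore 2 Y).relIndex A = q
  card_inf : Nat.card ↥(omegaV Y ⊓ A) = q
  card_sylow : Nat.card (Sylow 2 Y) = q + 1
  sup_eq : A ⊔ Cfsg.pCore 2 Y = P

/-- `C_V(S)`. -/
def fixV (S : Sylow 2 Y) : Subgroup Y := omegaV Y ⊓ Subgroup.centralizer ((S : Subgroup Y) : Set Y)

theorem mem_fixV {S : Sylow 2 Y} {v : Y} :
    v ∈ fixV S ↔ v ∈ omegaV Y ∧ ∀ x ∈ (S : Subgroup Y), Commute x v := by
  rw [fixV, Subgroup.mem_inf, Subgroup.mem_centralizer_iff]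
  exact Iff.rfl

variable [Finite Y]

theorem fixV_conj {S T : Sylow 2 Y} {g v : Y} (h : g • S = T) (hv : v ∈ fixV S) :
    g * v * g⁻¹ ∈ fixV T := by
  subst h
  refine mem_fixV.mpr ⟨omegaV_conj (mem_fixV.mp hv).1, fun x hx => ?_⟩
  have h1 := ((mem_fixV.mp hv).2 _ (mem_smul_sylow.mp hx)).map (MulAut.conj g).toMonoidHom
  simpa [mul_assoc] using h1

theorem Setup.exists_data (hY : Setup Y) (P : Sylow 2 Y) {A : Subgroup Y} (hAP : A ≤ P)
    (hAe : Cfsg.IsElementaryAbelian 2 A)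
    (hmax : ∀ E : Subgroup Y, E ≤ P → Cfsg.IsElementaryAbelian 2 E → Nat.card E ≤ Nat.card A)
    (hAR : ¬ A ≤ Cfsg.pCore 2 Y) : ∃ q : ℕ, Data P A q := by
  obtain ⟨q, h1, h2, h3, h4, h5, h6, h7⟩ := hY.count P hAP hAe hmax hAR
  exact ⟨q, hY, hAP, hAe, hmax, hAR, h1, h2, h3, h4, h5, h6, h7⟩

/-- The centraliser of `V` is `R`. -/
theorem Setup.centralizer_omegaV (hY : Setup Y) :
    Subgroup.centralizer (omegaV Y : Set Y) ≤ Cfsg.pCore 2 Y := by
  haveI := omegaV_normal (Y := Y)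
  obtain ⟨v, hv, hv1⟩ := (Subgroup.bot_or_exists_ne_one (omegaV Y)).resolve_left hY.omegaV_ne_bot
  exact le_sSup ⟨inferInstance, (hY.centralizer_isPGroup (omegaV_le hv) hv1).to_le
    (Subgroup.centralizer_le (Set.singleton_subset_iff.mpr hv))⟩

namespace Data

variable {P : Sylow 2 Y} {A : Subgroup Y} {q : ℕ} (hD : Data P A q)
include hD

theorem comm {a b : Y} (ha : a ∈ A) (hb : b ∈ A) : Commute a b :=
  congrArg Subtype.val (hD.elem.1.is_comm.comm ⟨a, ha⟩ ⟨b, hb⟩)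

theorem sq_eq_one {a : Y} (ha : a ∈ A) : a * a = 1 := (sq a).symm.trans (hD.elem.2 a ha)

theorem exists_mem_A {x : Y} (hx : x ∈ (P : Subgroup Y)) :
    ∃ a ∈ A, ∃ r ∈ Cfsg.pCore 2 Y, a * r = x := by
  haveI := pCore_normal (Y := Y)
  rw [← hD.sup_eq, Subgroup.mem_sup_of_normal_right] at hx
  exact hx

theorem exists_tau : ∃ τ ∈ A, τ ∉ Cfsg.pCore 2 Y := SetLike.not_le_iff_exists.mp hD.not_le

theorem inf_le_fixV : omegaV Y ⊓ A ≤ fixV P := fun v hv => mem_fixV.mpr ⟨hv.1, fun x hx => by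
  obtain ⟨a, ha, r, hr, rfl⟩ := hD.exists_mem_A hx
  exact (hD.comm ha hv.2).mul_left ((mem_omegaV.mp hv.1).2.1 r hr).symm⟩

/-- The centraliser in `V` of an element of `P` outside `R` lies in `A`. -/
theorem mem_of_commute {x v : Y} (hx : x ∈ (P : Subgroup Y)) (hxR : x ∉ Cfsg.pCore 2 Y)
    (hv : v ∈ omegaV Y) (hc : Commute x v) : v ∈ omegaV Y ⊓ A := by
  have hle : omegaV Y ⊓ A ≤ cent (omegaV Y) x := fun w hw =>
    mem_cent.mpr ⟨hw.1, (mem_fixV.mp (hD.inf_le_fixV hw)).2 x hx⟩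
  obtain ⟨Q, hQP⟩ := hD.setup.exists_ne P
  obtain ⟨g, hg⟩ := MulAction.exists_smul_eq Y P Q
  have h := card_mul_le (H := cent (omegaV Y) x)
    (K := (cent (omegaV Y) x).map (MulAut.conj g).toMonoidHom) (L := omegaV Y) inf_le_left (by
      rintro _ ⟨w, hw, rfl⟩
      exact omegaV_conj hw.1) (by
      rintro u hu ⟨w, hw, hwu⟩
      replace hwu : g * w * g⁻¹ = u := hwu
      refine hD.setup.disj hQP.symm hx hxR (conj_mem_smul hg hx) (conj_not_mem_pCore hxR)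
        (omegaV_le hu.1) (mem_cent.mp hu).2 ?_
      rw [← hwu]
      exact (mem_cent.mp hw).2.map (MulAut.conj g).toMonoidHom)
  rw [Subgroup.card_map_of_injective (MulAut.conj g).injective, hD.card_V] at h
  have heq : omegaV Y ⊓ A = cent (omegaV Y) x :=
    Subgroup.eq_of_le_of_card_ge hle (hD.card_inf.symm ▸ Nat.mul_self_le_mul_self_iff.mp h)
  rw [heq]
  exact mem_cent.mpr ⟨hv, hc⟩

theorem fixV_eq : fixV P = omegaV Y ⊓ A := by
  obtain ⟨τ, hτ, hτR⟩ := hD.exists_tau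
  exact le_antisymm (fun v hv => hD.mem_of_commute (hD.le hτ) hτR (mem_fixV.mp hv).1
    ((mem_fixV.mp hv).2 τ (hD.le hτ))) hD.inf_le_fixV

/-- Transport along conjugation. -/
theorem smul (g : Y) : Data (g • P) (A.map (MulAut.conj g).toMonoidHom) q := by
  have hcard : ∀ (H : Subgroup Y) (g : Y),
      Nat.card (H.map (MulAut.conj g).toMonoidHom : Subgroup Y) = Nat.card H :=
    fun H g => Subgroup.card_map_of_injective (MulAut.conj g).injective
  have hle : A.map (MulAut.conj g).toMonoidHom ≤ ((g • P : Sylow 2 Y) : Subgroup Y) := by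
    rintro _ ⟨a, ha, rfl⟩
    exact conj_mem_smul rfl (hD.le ha)
  have hel : ∀ (H : Subgroup Y) (g : Y), Cfsg.IsElementaryAbelian 2 H →
      Cfsg.IsElementaryAbelian 2 (H.map (MulAut.conj g).toMonoidHom : Subgroup Y) := by
    intro H g hH
    refine ⟨⟨⟨fun a b => Subtype.ext ?_⟩⟩, ?_⟩
    · obtain ⟨_, a, ha, rfl⟩ := a
      obtain ⟨_, b, hb, rfl⟩ := b
      exact (show Commute a b from congrArg Subtype.val (hH.1.is_comm.comm ⟨a, ha⟩ ⟨b, hb⟩)).map _ |>.eq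
    · rintro _ ⟨a, ha, rfl⟩
      rw [← map_pow, hH.2 a ha, map_one]
  have hmax : ∀ E : Subgroup Y, E ≤ ((g • P : Sylow 2 Y) : Subgroup Y) →
      Cfsg.IsElementaryAbelian 2 E →
      Nat.card E ≤ Nat.card (A.map (MulAut.conj g).toMonoidHom : Subgroup Y) := by
    intro E hE hEe
    rw [hcard, ← hcard E g⁻¹]
    refine hD.max _ ?_ (hel E g⁻¹ hEe)
    rintro _ ⟨e, he, rfl⟩
    simpa using mem_smul_sylow.mp (hE he)
  have hnle : ¬ A.map (MulAut.conj g).toMonoidHom ≤ Cfsg.pCore 2 Y := fun h => by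
    obtain ⟨τ, hτ, hτR⟩ := hD.exists_tau
    exact conj_not_mem_pCore hτR (h ⟨τ, hτ, rfl⟩)
  obtain ⟨q', hD'⟩ := hD.setup.exists_data (g • P) hle (hel A g hD.elem) hmax hnle
  obtain rfl : q' = q := by linarith [hD.card_sylow, hD'.card_sylow]
  exact hD'

theorem exists_data (S : Sylow 2 Y) : ∃ A' : Subgroup Y, Data S A' q := by
  obtain ⟨g, rfl⟩ := MulAction.exists_smul_eq Y P S
  exact ⟨_, hD.smul g⟩

theorem card_fixV (S : Sylow 2 Y) : Nat.card ↥(fixV S) = q := by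
  obtain ⟨A', hD'⟩ := hD.exists_data S
  rw [hD'.fixV_eq, hD'.card_inf]

theorem mem_fixV_of_commute {S : Sylow 2 Y} {x v : Y} (hx : x ∈ (S : Subgroup Y))
    (hxR : x ∉ Cfsg.pCore 2 Y) (hv : v ∈ omegaV Y) (hc : Commute x v) : v ∈ fixV S := by
  obtain ⟨A', hD'⟩ := hD.exists_data S
  rw [hD'.fixV_eq]
  exact hD'.mem_of_commute hx hxR hv hc

theorem fixV_disjoint {S T : Sylow 2 Y} (hne : S ≠ T) {v : Y} (hS : v ∈ fixV S) (hT : v ∈ fixV T) :
    v = 1 := by
  obtain ⟨A', hD'⟩ := hD.exists_data S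
  obtain ⟨A'', hD''⟩ := hD.exists_data T
  obtain ⟨a, ha, haR⟩ := hD'.exists_tau
  obtain ⟨b, hb, hbR⟩ := hD''.exists_tau
  exact hD.setup.disj hne (hD'.le ha) haR (hD''.le hb) hbR (omegaV_le (mem_fixV.mp hS).1)
    ((mem_fixV.mp hS).2 a (hD'.le ha)) ((mem_fixV.mp hT).2 b (hD''.le hb))

/-- `V = C_V(S) × C_V(T)`. -/
theorem exists_decomp {S T : Sylow 2 Y} (hne : S ≠ T) {v : Y} (hv : v ∈ omegaV Y) :
    ∃ a ∈ fixV S, ∃ b ∈ fixV T, a * b = v := by
  let f : ↥(fixV S) × ↥(fixV T) → ↥(omegaV Y) :=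
    fun p => ⟨(p.1 : Y) * p.2, mul_mem (mem_fixV.mp p.1.2).1 (mem_fixV.mp p.2.2).1⟩
  have hinj : Function.Injective f := by
    intro p p' e
    have e' : (p.1 : Y) * p.2 = p'.1 * p'.2 := congrArg Subtype.val e
    have h1 : ((p'.1 : Y))⁻¹ * p.1 = p'.2 * ((p.2 : Y))⁻¹ := by
      rw [eq_mul_inv_iff_mul_eq, mul_assoc, e', inv_mul_cancel_left]
    have h2 := hD.fixV_disjoint hne (mul_mem (inv_mem p'.1.2) p.1.2)
      (h1 ▸ mul_mem p'.2.2 (inv_mem p.2.2))
    refine Prod.ext (Subtype.ext (inv_mul_eq_one.mp h2).symm) (Subtype.ext ?_)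
    rw [h2] at h1
    exact (mul_inv_eq_one.mp h1.symm).symm
  have hbij : Function.Bijective f := (Nat.bijective_iff_injective_and_card f).mpr
    ⟨hinj, by rw [Nat.card_prod, hD.card_fixV, hD.card_fixV, hD.card_V]⟩
  obtain ⟨p, hp⟩ := hbij.2 ⟨v, hv⟩
  exact ⟨p.1, p.1.2, p.2, p.2.2, congrArg Subtype.val hp⟩

/-- A Sylow subgroup is transitive on the others. -/
theorem exists_smul_eq {S T T' : Sylow 2 Y} (h : T ≠ S) (h' : T' ≠ S) :
    ∃ x ∈ (S : Subgroup Y), x • T = T' := by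
  obtain ⟨A', hD'⟩ := hD.exists_data S
  have hsub : MulAction.orbit ↥(S : Subgroup Y) T ⊆ {S}ᶜ := by
    rintro _ ⟨x, rfl⟩ (he : x • T = S)
    refine h ?_
    rw [← inv_smul_smul x T, he, Subgroup.smul_def]
    exact Sylow.smul_eq_iff_mem_normalizer.mpr (Subgroup.le_normalizer x⁻¹.2)
  have heq : MulAction.orbit ↥(S : Subgroup Y) T = {S}ᶜ :=
    Set.eq_of_subset_of_ncard_le hsub (by
      rw [Set.ncard_compl, Set.ncard_singleton, hD.card_sylow, ← Nat.card_coe_set_eq,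
        hD.setup.card_orbit h.symm, hD'.index_P]
      omega)
  obtain ⟨x, hx⟩ : T' ∈ MulAction.orbit ↥(S : Subgroup Y) T := heq ▸ h'
  exact ⟨x, x.2, hx⟩

theorem mk_sq {S : Sylow 2 Y} {x : Y} (hx : x ∈ (S : Subgroup Y)) : x * x ∈ Cfsg.pCore 2 Y := by
  obtain ⟨A', hD'⟩ := hD.exists_data S
  obtain ⟨a, ha, r, hr, rfl⟩ := hD'.exists_mem_A hx
  haveI := pCore_normal (Y := Y)
  have h : a * r * (a * r) = a * r * a⁻¹ * r := by
    rw [inv_eq_self (hD'.sq_eq_one ha)]; group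
  rw [h]
  exact mul_mem (this.conj_mem r hr a) hr

end Data

end Cfsg.Agent.Lib.CIT.Offender
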