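import Cfsg.Agent.Lib.CIT.OffenderData
import Cfsg.Agent.Lib.Elem69.EngelTwo

/-!
Local groups in which involution centralisers are `2`-groups, part 3: an element of order three.

For `τ ∈ A` outside `R`, another Sylow subgroup `Q`, and `s ∈ Q` mapping `P` onto `τQτ`, the element
`τs` permutes `w`, `wu`, `u` (where `u = [w, τ]`) cyclically, so its cube centralises `V`.  Its
fixed-point-free action makes `R` of class at most two, and this gives `A ∩ R = C_V(P)` and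
`Ω₁(R) = V`.
-/

set_option autoImplicit false
set_option linter.unusedSectionVars false
set_option linter.style.haveILetI false

namespace Cfsg.Agent.Lib.CIT.Offender

open Subgroup

universe u

variable {Y : Type u} [Group Y] [Finite Y]

namespace Data

variable {P : Sylow 2 Y} {A : Subgroup Y} {q : ℕ} (hD : Data P A q)
include hD

theorem conj_eq_self {τ v : Y} (hτ : τ * τ = 1) (h : Commute τ v) : τ * v * τ = v := by
  rw [h.eq, mul_assoc, hτ, mul_one]

/-- The exchange of the fixed spaces by `τ` and `s`. -/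
theorem exists_exchange {Q : Sylow 2 Y} (hQ : Q ≠ P) {τ : Y} (hτ : τ ∈ A)
    (hτR : τ ∉ Cfsg.pCore 2 Y) {s : Y} (hs : s ∈ (Q : Subgroup Y)) (hsP : s • P = τ • Q)
    {w : Y} (hw : w ∈ fixV Q) :
    ∃ u ∈ fixV P, τ * w * τ = w * u ∧ s * u * s⁻¹ = u * w := by
  have hττ := hD.sq_eq_one hτ
  have hτi := inv_eq_self hττ
  have hPQ : P ≠ τ • Q := by
    intro h
    apply hQ
    rw [← inv_smul_smul τ Q, ← h, hτi]
    exact Sylow.smul_eq_iff_mem_normalizer.mpr (Subgroup.le_normalizer (hD.le hτ))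
  have hsR : s ∉ Cfsg.pCore 2 Y := fun h => hPQ (by rw [← hsP, hD.setup.smul_eq_of_mem_pCore h])
  obtain ⟨hwV, hwQ⟩ := mem_fixV.mp hw
  have hww : w * w = 1 := (mem_omegaV.mp hwV).2.2
  have hw' : τ * w * τ ∈ fixV (τ • Q) := by
    have := fixV_conj (g := τ) (T := τ • Q) rfl hw
    rwa [hτi] at this
  have hw'V := (mem_fixV.mp hw').1
  set u := w * (τ * w * τ) with hu
  have hτw : τ * w * τ = w * u := by rw [hu, ← mul_assoc, hww, one_mul]
  have huV : u ∈ omegaV Y := mul_mem hwV hw'V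
  have hτu : Commute τ u := by
    have h1 : τ * u * τ⁻¹ = u := by
      calc τ * u * τ⁻¹ = τ * w * τ * (w * (τ * τ⁻¹)) := by rw [hu]; group
        _ = u := by rw [mul_inv_cancel, mul_one, hu]; exact (omegaV_comm hw'V hwV).eq
    exact mul_inv_eq_iff_eq_mul.mp h1
  have huP : u ∈ fixV P := hD.mem_fixV_of_commute (hD.le hτ) hτR huV hτu
  have hsu : s * u * s⁻¹ ∈ fixV (τ • Q) := fixV_conj hsP huP
  have hsuV := (mem_fixV.mp hsu).1
  set b := u * (s * u * s⁻¹) with hb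
  have hbV : b ∈ omegaV Y := mul_mem huV hsuV
  have hs2 : s * s ∈ Cfsg.pCore 2 Y := hD.mk_sq hs
  have huu : u * u = 1 := (mem_omegaV.mp huV).2.2
  have hsb : Commute s b := by
    have h1 : s * (s * u * s⁻¹) * s⁻¹ = u := by
      have h2 := ((mem_omegaV.mp huV).2.1 (s * s) hs2).eq
      calc s * (s * u * s⁻¹) * s⁻¹ = s * s * u * (s * s)⁻¹ := by group
        _ = u := by rw [← h2, mul_inv_cancel_right]
    have h3 : s * b * s⁻¹ = b := by
      calc s * b * s⁻¹ = s * u * s⁻¹ * (s * (s * u * s⁻¹) * s⁻¹) := by rw [hb]; group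
        _ = b := by rw [h1, hb]; exact (omegaV_comm hsuV huV).eq
    exact mul_inv_eq_iff_eq_mul.mp h3
  have hbQ : b ∈ fixV Q := hD.mem_fixV_of_commute hs hsR hbV hsb
  have hbw : b = w := by
    have hne : Q ≠ τ • Q := fun h => hτR (hD.setup.mem_pCore_of_fix hQ.symm (hD.le hτ) h.symm)
    have h1 : b * w = (s * u * s⁻¹) * (τ * w * τ) := by
      calc b * w = s * u * s⁻¹ * u * w := by rw [hb, (omegaV_comm huV hsuV).eq]
        _ = s * u * s⁻¹ * (w * u) := by rw [(omegaV_comm hwV huV).eq, mul_assoc]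
        _ = _ := by rw [hτw]
    have h2 := hD.fixV_disjoint hne (mul_mem hbQ hw) (h1 ▸ mul_mem hsu hw')
    rw [eq_inv_of_mul_eq_one_left h2, inv_eq_self hww]
  refine ⟨u, huP, hτw, ?_⟩
  calc s * u * s⁻¹ = u * u * (s * u * s⁻¹) := by rw [huu, one_mul]
    _ = u * b := by rw [hb, mul_assoc]
    _ = u * w := by rw [hbw]

/-- An element of order three inverted by `τ` modulo `R`. -/
theorem exists_element : ∃ τ y : Y, τ ∈ A ∧ τ ∉ Cfsg.pCore 2 Y ∧ y ^ 3 = 1 ∧ y ≠ 1 ∧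
    τ * y * τ * y ∈ Cfsg.pCore 2 Y := by
  haveI hRn : (Cfsg.pCore 2 Y).Normal := pCore_normal
  obtain ⟨τ, hτ, hτR⟩ := hD.exists_tau
  obtain ⟨Q, hQ⟩ := hD.setup.exists_ne P
  have hττ := hD.sq_eq_one hτ
  have hτi := inv_eq_self hττ
  have hne : τ • Q ≠ Q := fun h => hτR (hD.setup.mem_pCore_of_fix hQ.symm (hD.le hτ) h)
  obtain ⟨s, hs, hsP⟩ := hD.exists_smul_eq (S := Q) (T := P) (T' := τ • Q) hQ.symm hne
  set g := τ * s with hg
  have hgR : g ∉ Cfsg.pCore 2 Y := by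
    intro h
    have hPQ : P ≠ τ • Q := fun e => by
      apply hQ
      rw [← inv_smul_smul τ Q, ← e, hτi]
      exact Sylow.smul_eq_iff_mem_normalizer.mpr (Subgroup.le_normalizer (hD.le hτ))
    refine hPQ ?_
    rw [← hsP]
    have hsP' : s ∈ (P : Subgroup Y) := by
      have := mul_mem (hD.le hτ) (hD.setup.pCore_le P h)
      rwa [hg, ← mul_assoc, hττ, one_mul] at this
    exact (Sylow.smul_eq_iff_mem_normalizer.mpr (Subgroup.le_normalizer hsP')).symm
  -- `g` permutes `w ↦ w u ↦ u ↦ w`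
  have key : ∀ w ∈ fixV Q, ∃ u ∈ fixV P, τ * w * τ = w * u ∧
      g ^ 3 * w * (g ^ 3)⁻¹ = w ∧ g ^ 3 * u * (g ^ 3)⁻¹ = u := by
    intro w hw
    obtain ⟨u, hu, h1, h2⟩ := hD.exists_exchange hQ hτ hτR hs hsP hw
    have hww : w * w = 1 := (mem_omegaV.mp (mem_fixV.mp hw).1).2.2
    have hsw : s * w * s⁻¹ = w := by rw [((mem_fixV.mp hw).2 s hs).eq, mul_inv_cancel_right]
    have hτu : τ * u * τ = u := hD.conj_eq_self hττ ((mem_fixV.mp hu).2 τ (hD.le hτ))
    have huu : u * u = 1 := (mem_omegaV.mp (mem_fixV.mp hu).1).2.2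
    have hwu : u * w = w * u := (omegaV_comm (mem_fixV.mp hu).1 (mem_fixV.mp hw).1).eq
    have e1 : g * w * g⁻¹ = w * u := by
      calc g * w * g⁻¹ = τ * (s * w * s⁻¹) * τ⁻¹ := by rw [hg]; group
        _ = _ := by rw [hsw, hτi, h1]
    have e2 : g * u * g⁻¹ = w := by
      calc g * u * g⁻¹ = τ * (s * u * s⁻¹) * τ⁻¹ := by rw [hg]; group
        _ = (τ * u * τ⁻¹) * (τ * w * τ⁻¹) := by rw [h2]; group
        _ = w := by rw [hτi, hτu, h1, ← mul_assoc, hwu, mul_assoc, huu, mul_one]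
    have e3 : g * (w * u) * g⁻¹ = u := by
      calc g * (w * u) * g⁻¹ = (g * w * g⁻¹) * (g * u * g⁻¹) := by group
        _ = u := by rw [e1, e2, ← hwu, mul_assoc, hww, mul_one]
    refine ⟨u, hu, h1, ?_, ?_⟩
    · calc g ^ 3 * w * (g ^ 3)⁻¹ = g * (g * (g * w * g⁻¹) * g⁻¹) * g⁻¹ := by
            simp only [pow_succ, pow_zero, one_mul]; group
        _ = w := by rw [e1, e3, e2]
    · calc g ^ 3 * u * (g ^ 3)⁻¹ = g * (g * (g * u * g⁻¹) * g⁻¹) * g⁻¹ := by
            simp only [pow_succ, pow_zero, one_mul]; group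
        _ = u := by rw [e2, e1, e3]
  choose φ hφ h1φ h2φ h3φ using key
  have hinj : Function.Injective fun w : ↥(fixV Q) => (⟨φ w w.2, hφ w w.2⟩ : ↥(fixV P)) := by
    intro a b e
    have e' : φ a a.2 = φ b b.2 := congrArg Subtype.val e
    have hab : τ * ((a : Y)⁻¹ * b) * τ⁻¹ = (a : Y)⁻¹ * b := by
      calc τ * ((a : Y)⁻¹ * b) * τ⁻¹ = (τ * a * τ⁻¹)⁻¹ * (τ * b * τ⁻¹) := by group
        _ = ((a : Y) * φ a a.2)⁻¹ * ((b : Y) * φ b b.2) := by rw [hτi, h1φ a a.2, h1φ b b.2]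
        _ = (φ b b.2)⁻¹ * ((a : Y)⁻¹ * b) * φ b b.2 := by rw [e']; group
        _ = _ := by
          rw [mul_assoc, ((omegaV_comm (mul_mem (inv_mem (mem_fixV.mp a.2).1) (mem_fixV.mp b.2).1)
            (mem_fixV.mp (hφ b b.2)).1)).eq, inv_mul_cancel_left]
    have hc : Commute τ ((a : Y)⁻¹ * b) := mul_inv_eq_iff_eq_mul.mp hab
    have hV := mul_mem (inv_mem (mem_fixV.mp a.2).1) (mem_fixV.mp b.2).1
    exact Subtype.ext (inv_mul_eq_one.mp (hD.fixV_disjoint hQ.symm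
      (hD.mem_fixV_of_commute (hD.le hτ) hτR hV hc) (mul_mem (inv_mem a.2) b.2)))
  have hsurj := ((Nat.bijective_iff_injective_and_card _).mpr
    ⟨hinj, (hD.card_fixV Q).trans (hD.card_fixV P).symm⟩).2
  have hg3 : g ^ 3 ∈ Cfsg.pCore 2 Y := by
    refine hD.setup.centralizer_omegaV (Subgroup.mem_centralizer_iff.mpr fun v hv => ?_)
    obtain ⟨a, ha, b, hb, rfl⟩ := hD.exists_decomp hQ.symm hv
    obtain ⟨w, hw⟩ := hsurj ⟨a, ha⟩
    have ha' : g ^ 3 * a * (g ^ 3)⁻¹ = a := by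
      have hwa : φ w w.2 = a := congrArg Subtype.val hw
      rw [← hwa]
      exact h3φ w w.2
    have hc : Commute (g ^ 3) (a * b) :=
      (show Commute (g ^ 3) a from mul_inv_eq_iff_eq_mul.mp ha').mul_right
        (mul_inv_eq_iff_eq_mul.mp (h2φ b hb))
    exact hc.symm.eq
  -- the element of order three
  obtain ⟨m, hm⟩ := IsPGroup.iff_card.mp hD.setup.pCore_isPGroup
  obtain ⟨j, hj⟩ : ∃ j, 4 ^ m = 3 * j + 1 :=
    ⟨4 ^ m / 3, by
      have h : 4 ^ m % 3 = 1 := by rw [Nat.pow_mod]; norm_num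
      omega⟩
  have hy3 : (g ^ 4 ^ m) ^ 3 = 1 := by
    rw [← pow_mul, Nat.mul_comm, pow_mul]
    have h1 : (g ^ 3) ^ Nat.card ↥(Cfsg.pCore 2 Y) = 1 :=
      congrArg Subtype.val (pow_card_eq_one' (x := (⟨g ^ 3, hg3⟩ : ↥(Cfsg.pCore 2 Y))))
    rw [show (4 : ℕ) ^ m = 2 ^ m * 2 ^ m by rw [← mul_pow]; norm_num, pow_mul, ← hm, h1, one_pow]
  have hmk : (QuotientGroup.mk (g ^ 4 ^ m) : Y ⧸ Cfsg.pCore 2 Y) = QuotientGroup.mk g := by
    rw [hj, pow_succ, QuotientGroup.mk_mul, pow_mul,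
      (QuotientGroup.eq_one_iff _).mpr (pow_mem hg3 j), one_mul]
  refine ⟨τ, g ^ 4 ^ m, hτ, hτR, hy3, fun h => hgR ?_, ?_⟩
  · rw [← QuotientGroup.eq_one_iff, ← hmk, h, QuotientGroup.mk_one]
  · rw [← QuotientGroup.eq_one_iff]
    rw [QuotientGroup.mk_mul, QuotientGroup.mk_mul, QuotientGroup.mk_mul, hmk]
    rw [← QuotientGroup.mk_mul, ← QuotientGroup.mk_mul, ← QuotientGroup.mk_mul,
      QuotientGroup.eq_one_iff]
    have h : τ * (τ * s) * τ * (τ * s) = (τ * τ) * s * (τ * τ) * s := by group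
    rw [h, hττ, one_mul, mul_one]
    exact hD.mk_sq hs

end Data

end Cfsg.Agent.Lib.CIT.Offender
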