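import Cfsg.Agent.Lib.CIT.OffenderElement

/-!
Local groups in which involution centralisers are `2`-groups, part 4: the rank.

The fixed-point-free element of order three makes `R` of class at most two; then `A ∩ R = C_V(P)`,
the elementary abelian subgroups of `P` have order at most `q ^ 2`, and `Ω₁(R) = V`.
-/

set_option autoImplicit false
set_option linter.unusedSectionVars false
set_option linter.style.haveILetI false

namespace Cfsg.Agent.Lib.CIT.Offender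

open Subgroup

universe u

variable {Y : Type u} [Group Y] [Finite Y]

/-- Three-periodic fixed-point-free conjugation: the product over an orbit is trivial. -/
theorem Setup.orbit_prod (hY : Setup Y) {y c : Y} (hy : y ^ 3 = 1) (hy1 : y ≠ 1)
    (hc : c ∈ Cfsg.pCore 2 Y) : c * (y * c * y⁻¹) * (y⁻¹ * c * y) = 1 := by
  haveI hRn : (Cfsg.pCore 2 Y).Normal := pCore_normal
  have hodd : Odd (orderOf y) := by
    haveI : Fact (Nat.Prime 3) := ⟨Nat.prime_three⟩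
    rw [orderOf_eq_prime hy hy1]; decide
  let f : ↥(Cfsg.pCore 2 Y) → ↥(Cfsg.pCore 2 Y) := fun a =>
    ⟨(a : Y)⁻¹ * (y * a * y⁻¹), mul_mem (inv_mem a.2) (hRn.conj_mem _ a.2 y)⟩
  have hinj : Function.Injective f := by
    intro a b e
    have e' : (a : Y)⁻¹ * (y * a * y⁻¹) = (b : Y)⁻¹ * (y * b * y⁻¹) := congrArg Subtype.val e
    have h1 : y * ((a : Y) * (b : Y)⁻¹) * y⁻¹ = (a : Y) * (b : Y)⁻¹ := by
      calc y * ((a : Y) * (b : Y)⁻¹) * y⁻¹
          = (a : Y) * ((a : Y)⁻¹ * (y * a * y⁻¹)) * ((b : Y)⁻¹ * (y * b * y⁻¹))⁻¹ * (b : Y)⁻¹ := by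
            group
        _ = _ := by rw [← e', mul_inv_cancel_right]
    by_contra hab
    exact hy1 (hY.eq_one_of_commute (mul_mem a.2 (inv_mem b.2))
      (fun h => hab (Subtype.ext (mul_inv_eq_one.mp h)))
      (show Commute ((a : Y) * (b : Y)⁻¹) y from (mul_inv_eq_iff_eq_mul.mp h1).symm) hodd)
  obtain ⟨a, ha⟩ := (Finite.injective_iff_surjective.1 hinj) ⟨c, hc⟩
  obtain rfl : (a : Y)⁻¹ * (y * a * y⁻¹) = c := congrArg Subtype.val ha
  have h4 : y * y * y = 1 := by rw [← hy, pow_succ, pow_two]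
  calc (a : Y)⁻¹ * (y * a * y⁻¹) * (y * ((a : Y)⁻¹ * (y * a * y⁻¹)) * y⁻¹) *
        (y⁻¹ * ((a : Y)⁻¹ * (y * a * y⁻¹)) * y)
      = (a : Y)⁻¹ * y * y * a * (y * y * y)⁻¹ * (a : Y)⁻¹ * y * a := by group
    _ = (a : Y)⁻¹ * y * y * a * (a : Y)⁻¹ * y * a := by rw [h4, inv_one, mul_one]
    _ = (a : Y)⁻¹ * (y * y * y) * a := by group
    _ = 1 := by rw [h4]; group

namespace Data

variable {P : Sylow 2 Y} {A : Subgroup Y} {q : ℕ} (hD : Data P A q)
include hD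

/-- Commutators of elements of `R` are central in `R`. -/
theorem comm_central {y : Y} (hy : y ^ 3 = 1) (hy1 : y ≠ 1) {a b c : Y} (ha : a ∈ Cfsg.pCore 2 Y)
    (hb : b ∈ Cfsg.pCore 2 Y) (hc : c ∈ Cfsg.pCore 2 Y) : Commute (a * b * a⁻¹ * b⁻¹) c := by
  haveI hRn : (Cfsg.pCore 2 Y).Normal := pCore_normal
  have hodd : Odd (orderOf y) := by
    haveI : Fact (Nat.Prime 3) := ⟨Nat.prime_three⟩
    rw [orderOf_eq_prime hy hy1]; decide
  have hclass := Cfsg.Agent.Lib.Elem69.class_le_two_of_fpf_three hD.setup.pCore_isPGroup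
    (MulAut.conjNormal y : MulAut ↥(Cfsg.pCore 2 Y))
    (fun x => by
      apply Subtype.ext
      simp only [MulAut.conjNormal_apply]
      calc y * (y * (y * (x : Y) * y⁻¹) * y⁻¹) * y⁻¹ = y ^ 3 * x * (y ^ 3)⁻¹ := by
            simp only [pow_succ, pow_zero, one_mul]; group
        _ = x := by rw [hy, inv_one, mul_one, one_mul])
    (fun x hx => by
      by_contra hx1
      have h1 := congrArg Subtype.val hx
      rw [MulAut.conjNormal_apply] at h1
      exact hy1 (hD.setup.eq_one_of_commute x.2 (fun h => hx1 (Subtype.ext h))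
        (show Commute (x : Y) y from (mul_inv_eq_iff_eq_mul.mp h1).symm) hodd))
  haveI : Fact (Nat.Prime 2) := ⟨Nat.prime_two⟩
  haveI := hD.setup.pCore_isPGroup.isNilpotent
  rw [← Subgroup.lowerCentralSeries_eq_bot_iff_nilpotencyClass_le] at hclass
  have h2 : ⁅⁅(⊤ : Subgroup ↥(Cfsg.pCore 2 Y)), ⊤⁆, (⊤ : Subgroup ↥(Cfsg.pCore 2 Y))⁆ = ⊥ := hclass
  rw [Subgroup.commutator_eq_bot_iff_le_centralizer] at h2
  have h3 := Subgroup.mem_centralizer_iff.mp (h2 (Subgroup.commutator_mem_commutator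
    (Subgroup.mem_top (⟨a, ha⟩ : ↥(Cfsg.pCore 2 Y))) (Subgroup.mem_top ⟨b, hb⟩))) ⟨c, hc⟩
    (Subgroup.mem_top _)
  exact (congrArg Subtype.val h3).symm

theorem fixV_le : fixV P ≤ A ⊓ Cfsg.pCore 2 Y := by
  rw [hD.fixV_eq]; exact fun v hv => ⟨hv.2, omegaV_le hv.1⟩

theorem inf_pCore_eq : A ⊓ Cfsg.pCore 2 Y = omegaV Y ⊓ A := by
  haveI hRn : (Cfsg.pCore 2 Y).Normal := pCore_normal
  obtain ⟨τ, y, hτ, hτR, hy, hy1, hτy⟩ := hD.exists_element
  have hττ := hD.sq_eq_one hτ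
  have hτi := inv_eq_self hττ
  set r := τ * y * τ * y with hr
  have hyP : y • P ≠ P := by
    intro h
    have h1 : y * τ * y⁻¹ ∈ (P : Subgroup Y) := conj_mem_smul h (hD.le hτ)
    have h2 : y * τ * y⁻¹ * τ ∈ (P : Subgroup Y) := mul_mem h1 (hD.le hτ)
    have h3 : τ * y⁻¹ * τ = y * r⁻¹ := by
      calc τ * y⁻¹ * τ = y * (y⁻¹ * τ⁻¹ * y⁻¹ * τ⁻¹) := by rw [hτi]; group
        _ = _ := by rw [hr]; group
    have h4 : y * y ∈ (P : Subgroup Y) := by
      have e : y * y = (y * τ * y⁻¹ * τ) * r := by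
        calc y * y = y * (y * r⁻¹) * r := by group
          _ = _ := by rw [← h3]; group
      rw [e]
      exact mul_mem h2 (hD.setup.pCore_le P hτy)
    have h5 : y ∈ (P : Subgroup Y) := by
      have e : y = (y * y) * (y * y) := by
        calc y = y ^ 3 * y := by rw [hy, one_mul]
          _ = _ := by simp only [pow_succ, pow_zero, one_mul]; group
      rw [e]
      exact mul_mem h4 h4
    obtain ⟨k, hk⟩ := P.isPGroup' ⟨y, h5⟩
    have hk' : y ^ 2 ^ k = 1 := congrArg Subtype.val hk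
    have h6 : orderOf y ∣ Nat.gcd 3 (2 ^ k) :=
      Nat.dvd_gcd (orderOf_dvd_of_pow_eq_one hy) (orderOf_dvd_of_pow_eq_one hk')
    rw [(Nat.Coprime.pow_right k (by norm_num : Nat.Coprime 3 2)).gcd_eq_one, Nat.dvd_one] at h6
    exact hy1 (orderOf_eq_one_iff.mp h6)
  have hyτ : y * τ * y⁻¹ ∈ ((y • P : Sylow 2 Y) : Subgroup Y) := conj_mem_smul rfl (hD.le hτ)
  have hyτR := conj_not_mem_pCore (g := y) hτR
  -- `[b, c^y]` is fixed by `τ`
  have hfix : ∀ b ∈ A ⊓ Cfsg.pCore 2 Y, ∀ c ∈ A ⊓ Cfsg.pCore 2 Y,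
      Commute τ (b * (y * c * y⁻¹) * b⁻¹ * (y * c * y⁻¹)⁻¹) := by
    intro b hb c hc
    have hdR : y * c * y⁻¹ ∈ Cfsg.pCore 2 Y := hRn.conj_mem c hc.2 y
    have hτc := hD.conj_eq_self hττ (hD.comm hτ hc.1)
    have hτb := hD.conj_eq_self hττ (hD.comm hτ hb.1)
    have hcc := hD.sq_eq_one hc.1
    set d := y * c * y⁻¹ with hd
    have hdd : d * d = 1 := by
      calc d * d = y * (c * c) * y⁻¹ := by rw [hd]; group
        _ = 1 := by rw [hcc, mul_one, mul_inv_cancel]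
    have hzc : y⁻¹ * c * y = d * c := by
      have h := hD.setup.orbit_prod hy hy1 hc.2
      rw [← hd] at h
      rw [eq_inv_of_mul_eq_one_right h, mul_inv_rev, inv_eq_self hdd, inv_eq_self hcc]
    have hτd : τ * d * τ = r * (d * c) * r⁻¹ := by
      calc τ * d * τ = r * (y⁻¹ * (τ * c * τ) * y) * r⁻¹ := by
            rw [hr, hd]
            simp only [mul_inv_rev, hτi]
            calc τ * (y * c * y⁻¹) * τ = τ * y * (τ * τ) * c * (τ * τ) * y⁻¹ * τ := by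
                  rw [hττ]; group
              _ = _ := by group
        _ = _ := by rw [hτc, hzc]
    have hτe : τ * (b * d * b⁻¹ * d⁻¹) * τ⁻¹ = b * d * b⁻¹ * d⁻¹ := by
      have hkey : b * (r * (d * c) * r⁻¹) * b⁻¹ * (r * (d * c) * r⁻¹)⁻¹ = b * (d * c) * b⁻¹ * (d * c)⁻¹ := by
        -- `r (dc) r⁻¹ = k (dc)` with `k` central in `R`
        have hk : r * (d * c) * r⁻¹ * (d * c)⁻¹ ∈ Cfsg.pCore 2 Y :=
          mul_mem (mul_mem (mul_mem hτy (mul_mem hdR hc.2)) (inv_mem hτy)) (inv_mem (mul_mem hdR hc.2))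
        set k := r * (d * c) * r⁻¹ * (d * c)⁻¹ with hk'
        have hkb : Commute k b := hD.comm_central hy hy1 hτy (mul_mem hdR hc.2) hb.2
        rw [show r * (d * c) * r⁻¹ = k * (d * c) by rw [hk']; group]
        calc b * (k * (d * c)) * b⁻¹ * (k * (d * c))⁻¹ = b * k * (d * c * b⁻¹ * (d * c)⁻¹) * k⁻¹ := by group
          _ = k * (b * (d * c) * b⁻¹ * (d * c)⁻¹) * k⁻¹ := by rw [← hkb.eq]; group
          _ = b * (d * c) * b⁻¹ * (d * c)⁻¹ := by
            rw [((hD.comm_central hy hy1 hb.2 (mul_mem hdR hc.2) hk).symm).eq, mul_inv_cancel_right]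
      calc τ * (b * d * b⁻¹ * d⁻¹) * τ⁻¹
          = (τ * b * τ⁻¹) * (τ * d * τ⁻¹) * (τ * b * τ⁻¹)⁻¹ * (τ * d * τ⁻¹)⁻¹ := by group
        _ = b * (r * (d * c) * r⁻¹) * b⁻¹ * (r * (d * c) * r⁻¹)⁻¹ := by rw [hτi, hτb, hτd]
        _ = b * (d * c) * b⁻¹ * (d * c)⁻¹ := hkey
        _ = b * d * (c * b⁻¹ * c⁻¹) * d⁻¹ := by group
        _ = b * d * b⁻¹ * d⁻¹ := by
          rw [show c * b⁻¹ * c⁻¹ = b⁻¹ by rw [((hD.comm hc.1 hb.1).inv_right).eq, mul_inv_cancel_right]]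
    exact mul_inv_eq_iff_eq_mul.mp hτe
  -- so it is trivial
  have hcomm : ∀ b ∈ A ⊓ Cfsg.pCore 2 Y, ∀ c ∈ A ⊓ Cfsg.pCore 2 Y, Commute b (y * c * y⁻¹) := by
    intro b hb c hc
    have hdR : y * c * y⁻¹ ∈ Cfsg.pCore 2 Y := hRn.conj_mem c hc.2 y
    have hbb := hD.sq_eq_one hb.1
    have hdb : y * b * y⁻¹ * (y * b * y⁻¹) = 1 := by
      calc y * b * y⁻¹ * (y * b * y⁻¹) = y * (b * b) * y⁻¹ := by group
        _ = 1 := by rw [hbb, mul_one, mul_inv_cancel]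
    set e := b * (y * c * y⁻¹) * b⁻¹ * (y * c * y⁻¹)⁻¹ with he
    have hzb : y⁻¹ * b * y = y * b * y⁻¹ * b := by
      have h := hD.setup.orbit_prod hy hy1 hb.2
      rw [eq_inv_of_mul_eq_one_right h, mul_inv_rev, inv_eq_self hdb, inv_eq_self hbb]
    have hf : y⁻¹ * e * y = (c * (y * b * y⁻¹) * c⁻¹ * (y * b * y⁻¹)⁻¹)⁻¹ := by
      calc y⁻¹ * e * y = (y⁻¹ * b * y) * c * (y⁻¹ * b * y)⁻¹ * c⁻¹ := by rw [he]; group
        _ = y * b * y⁻¹ * (b * c * b⁻¹) * (y * b * y⁻¹)⁻¹ * c⁻¹ := by rw [hzb]; group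
        _ = y * b * y⁻¹ * c * (y * b * y⁻¹)⁻¹ * c⁻¹ := by
          rw [(hD.comm hb.1 hc.1).eq, mul_inv_cancel_right]
        _ = _ := by group
    have h2 : Commute (y * τ * y⁻¹) e := by
      have h := ((hfix c hc b hb).inv_right).map (MulAut.conj y).toMonoidHom
      rw [← hf] at h
      simpa [mul_assoc] using h
    have h1 : e = 1 := hD.setup.disj hyP.symm (hD.le hτ) hτR hyτ hyτR
      (mul_mem (mul_mem (mul_mem hb.2 hdR) (inv_mem hb.2)) (inv_mem hdR)) (hfix b hb c hc) h2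
    exact commutatorElement_eq_one_iff_commute.mp h1
  -- counting
  have hBe : Cfsg.IsElementaryAbelian 2 (A ⊓ Cfsg.pCore 2 Y : Subgroup Y) :=
    ⟨⟨⟨fun a b => Subtype.ext (hD.comm a.2.1 b.2.1).eq⟩⟩, fun a ha => hD.elem.2 a ha.1⟩
  set B' := (A ⊓ Cfsg.pCore 2 Y).map (MulAut.conj y).toMonoidHom with hB'
  have hB'e : Cfsg.IsElementaryAbelian 2 B' := by
    refine ⟨⟨⟨fun a b => Subtype.ext ?_⟩⟩, ?_⟩
    · obtain ⟨_, a, ha, rfl⟩ := a
      obtain ⟨_, b, hb, rfl⟩ := b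
      exact ((hD.comm ha.1 hb.1).map _).eq
    · rintro _ ⟨a, ha, rfl⟩
      rw [← map_pow, hD.elem.2 a ha.1, map_one]
  have hB'R : B' ≤ Cfsg.pCore 2 Y := by
    rintro _ ⟨a, ha, rfl⟩
    exact hRn.conj_mem a ha.2 y
  have hWe := elem_sup hBe hB'e fun b hb => by
    rintro _ ⟨c, hc, rfl⟩
    exact hcomm b hb c hc
  have hW := hD.max _ (sup_le (inf_le_left.trans hD.le) (hB'R.trans (hD.setup.pCore_le P))) hWe
  have hprod := card_mul_le (H := A ⊓ Cfsg.pCore 2 Y) (K := B') (L := (A ⊓ Cfsg.pCore 2 Y) ⊔ B')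
    le_sup_left le_sup_right (by
      rintro x hx ⟨w, hw, hwx⟩
      replace hwx : y * w * y⁻¹ = x := hwx
      refine hD.setup.disj hyP.symm (hD.le hτ) hτR hyτ hyτR hx.2 (hD.comm hτ hx.1) ?_
      rw [← hwx]
      exact (hD.comm hτ hw.1).map (MulAut.conj y).toMonoidHom)
  rw [hB', Subgroup.card_map_of_injective (MulAut.conj y).injective] at hprod
  rw [← card_inf_mul_relIndex (R := Cfsg.pCore 2 Y) (H := A), hD.index_A] at hW
  have hB : Nat.card ↥(A ⊓ Cfsg.pCore 2 Y) ≤ q := Nat.le_of_mul_le_mul_left (hprod.trans hW) Nat.card_pos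
  have hle : omegaV Y ⊓ A ≤ A ⊓ Cfsg.pCore 2 Y := fun v hv => ⟨hv.2, omegaV_le hv.1⟩
  exact (Subgroup.eq_of_le_of_card_ge hle (hD.card_inf.symm ▸ hB)).symm

theorem card_A : Nat.card A = q * q := by
  rw [← card_inf_mul_relIndex (R := Cfsg.pCore 2 Y) (H := A), hD.inf_pCore_eq, hD.card_inf, hD.index_A]

/-- `Ω₁(R) = V`. -/
theorem mem_omegaV_of_sq {x : Y} (hx : x ∈ Cfsg.pCore 2 Y) (hxx : x * x = 1) : x ∈ omegaV Y := by
  by_contra hxV
  have hle : Subgroup.zpowers x ≤ Cfsg.pCore 2 Y := Subgroup.zpowers_le.mpr hx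
  have hze : Cfsg.IsElementaryAbelian 2 (Subgroup.zpowers x) := by
    refine ⟨inferInstance, fun a ha => ?_⟩
    obtain ⟨n, rfl⟩ := Subgroup.mem_zpowers_iff.mp ha
    rw [← zpow_natCast, zpow_comm, zpow_natCast, pow_two, hxx, one_zpow]
  have he := elem_sup hze omegaV_elem fun h hh k hk => ((mem_omegaV.mp hk).2.1 h (hle hh)).symm
  have h := hD.max _ (sup_le (hle.trans (hD.setup.pCore_le P))
    (omegaV_le.trans (hD.setup.pCore_le P))) he
  have h2 := card_mul_le (H := Subgroup.zpowers x) (K := omegaV Y)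
    (L := Subgroup.zpowers x ⊔ omegaV Y) le_sup_left le_sup_right fun a ha haV => by
      obtain ⟨n, rfl⟩ := Subgroup.mem_zpowers_iff.mp ha
      rcases Int.even_or_odd n with ⟨m, rfl⟩ | ⟨m, rfl⟩
      · rw [← two_mul, zpow_mul, show x ^ (2 : ℤ) = 1 by rw [zpow_two, hxx], one_zpow]
      · rw [zpow_add_one, zpow_mul, show x ^ (2 : ℤ) = 1 by rw [zpow_two, hxx], one_zpow, one_mul] at haV
        exact absurd haV hxV
  have hx2 : orderOf x = 2 := orderOf_eq_prime (by rw [pow_two, hxx])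
    fun h => hxV (h ▸ one_mem _)
  rw [Nat.card_zpowers, hx2, hD.card_V] at h2
  rw [hD.card_A] at h
  have := hD.two_le
  nlinarith

end Data

end Cfsg.Agent.Lib.CIT.Offender
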