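import Mathlib
import Cfsg.Agent.Lib.CIT.Flag

/-!
Incidence geometry of the configuration `FlagFour`: points are the cosets of the normaliser of `V`,
lines the cosets of the normaliser of `A`, incidence is non-empty intersection of cosets.  Every
line carries five points, two points lie on at most one line.  Written by helper2.
-/

set_option autoImplicit false

namespace Cfsg.Agent.Lib.CIT.Plane

open Subgroup

variable {G : Type*} [Group G]

/-- The cosets of the normaliser of `V`. -/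
abbrev Pt (V : Subgroup G) : Type _ := G ⧸ normalizer (V : Set G)

/-- Two cosets meet. -/
def Inc {V A : Subgroup G} (P : Pt V) (c : Pt A) : Prop :=
  ∃ g : G, (g : Pt V) = P ∧ (g : Pt A) = c

theorem inc_comm {V A : Subgroup G} {P : Pt V} {c : Pt A} : Inc P c ↔ Inc c P :=
  ⟨fun ⟨g, h1, h2⟩ => ⟨g, h2, h1⟩, fun ⟨g, h1, h2⟩ => ⟨g, h2, h1⟩⟩

theorem inc_smul {V A : Subgroup G} (k : G) {P : Pt V} {c : Pt A} (h : Inc P c) :
    Inc (k • P) (k • c) := by
  obtain ⟨g, rfl, rfl⟩ := h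
  exact ⟨k * g, rfl, rfl⟩

theorem inc_smul_iff {V A : Subgroup G} (k : G) {P : Pt V} {c : Pt A} :
    Inc (k • P) (k • c) ↔ Inc P c := by
  refine ⟨fun h => ?_, inc_smul k⟩
  simpa using inc_smul k⁻¹ h

theorem inc_mk_right {V A : Subgroup G} {P : Pt V} {g : G} :
    Inc P (g : Pt A) ↔ ∃ m ∈ normalizer (A : Set G), P = ((g * m : G) : Pt V) := by
  constructor
  · rintro ⟨h, rfl, h2⟩
    exact ⟨g⁻¹ * h, QuotientGroup.eq.1 h2.symm, by rw [mul_inv_cancel_left]⟩
  · rintro ⟨m, hm, rfl⟩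
    exact ⟨g * m, rfl, QuotientGroup.eq.2 (by simpa using hm)⟩

theorem inc_mk_left {V A : Subgroup G} {c : Pt A} {g : G} :
    Inc (g : Pt V) c ↔ ∃ n ∈ normalizer (V : Set G), c = ((g * n : G) : Pt A) := by
  rw [inc_comm, inc_mk_right]

theorem inc_mk_iff_smul {V : Subgroup G} {g k : G} :
    k • (g : Pt V) = (g : Pt V) ↔ g⁻¹ * k * g ∈ normalizer (V : Set G) := by
  rw [MulAction.Quotient.smul_mk, smul_eq_mul, eq_comm, QuotientGroup.eq, mul_assoc]

theorem conj_eq_iff {g h z : G} :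
    g * z * g⁻¹ = h * z * h⁻¹ ↔ (g⁻¹ * h) * z = z * (g⁻¹ * h) := by
  constructor
  · intro e
    calc g⁻¹ * h * z = g⁻¹ * (h * z * h⁻¹) * h := by group
      _ = z * (g⁻¹ * h) := by rw [← e]; group
  · intro e
    calc g * z * g⁻¹ = g * (z * (g⁻¹ * h)) * h⁻¹ := by group
      _ = h * z * h⁻¹ := by rw [← e]; group

set_option linter.unusedSectionVars false

variable [Finite G]

theorem sq_one_of_conj {y n : G} (h : y * y = 1) : (n⁻¹ * y * n) * (n⁻¹ * y * n) = 1 := by
  calc (n⁻¹ * y * n) * (n⁻¹ * y * n) = n⁻¹ * (y * y) * n := by group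
    _ = 1 := by rw [h]; group

theorem invo_of_sq {x : G} (h1 : x ≠ 1) (h2 : x * x = 1) : orderOf x = 2 :=
  orderOf_eq_prime (by rwa [pow_two]) h1

/-- The group in which the centraliser of every involution is a 2-group, with the configuration. -/
structure Config (S : Sylow 2 G) (V A : Subgroup G) (z : G) : Prop extends FlagFour S V A where
  cit : ∀ t : G, orderOf t = 2 → IsPGroup 2 (centralizer ({t} : Set G))
  z_left : z ∈ V
  z_right : z ∈ A
  z_ne : z ≠ 1

variable {S : Sylow 2 G} {V A : Subgroup G} {z : G}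

theorem Config.symm (h : Config S V A z) : Config S A V z where
  toFlagFour := h.toFlagFour.symm
  cit := h.cit
  z_left := h.z_right
  z_right := h.z_left
  z_ne := h.z_ne

theorem exists_config (hcit : ∀ t : G, orderOf t = 2 → IsPGroup 2 (centralizer ({t} : Set G)))
    (h : FlagFour S V A) : ∃ z, Config S V A z := by
  have h4 := h.card_inf
  have hne : (V ⊓ A : Subgroup G) ≠ ⊥ := fun e => by
    rw [e, Subgroup.card_bot] at h4; omega
  obtain ⟨z, hz, hz1⟩ := (Subgroup.bot_or_exists_ne_one _).resolve_left hne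
  exact ⟨z, { toFlagFour := h, cit := hcit, z_left := hz.1, z_right := hz.2, z_ne := hz1 }⟩

namespace Config

variable (h : Config S V A z)
include h

theorem ne : V ≠ A := fun e => by
  have := h.card_inf
  rw [e, inf_idem, h.card_right] at this
  omega

theorem le_or_le {K : Subgroup G} (hK : K ≤ (S : Subgroup G)) (hsq : ∀ x ∈ K, x * x = 1) :
    K ≤ V ∨ K ≤ A := by
  by_contra hcon
  rw [not_or, SetLike.not_le_iff_exists, SetLike.not_le_iff_exists] at hcon
  obtain ⟨⟨x, hx, hxV⟩, y, hy, hyA⟩ := hcon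
  have hxA : x ∈ A := (h.cover x (hK hx) (hsq x hx)).resolve_left hxV
  have hyV : y ∈ V := (h.cover y (hK hy) (hsq y hy)).resolve_right hyA
  rcases h.cover (x * y) (hK (mul_mem hx hy)) (hsq _ (mul_mem hx hy)) with hc | hc
  · exact hxV (by simpa using mul_mem hc (inv_mem hyV))
  · exact hyA (by simpa using mul_mem (inv_mem hxA) hc)

theorem conj_eq_or {g : G} (hg : ∀ v ∈ V, g * v * g⁻¹ ∈ (S : Subgroup G)) :
    (∀ v ∈ V, g * v * g⁻¹ ∈ V) ∨ (∀ v ∈ V, g * v * g⁻¹ ∈ A) := by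
  have hK : V.map (MulAut.conj g).toMonoidHom ≤ (S : Subgroup G) := by
    rintro _ ⟨v, hv, rfl⟩; exact hg v hv
  rcases h.le_or_le hK (by
    rintro _ ⟨v, hv, rfl⟩
    rw [← map_mul, h.sq_left v hv, map_one]) with hc | hc
  · exact Or.inl fun v hv => hc ⟨v, hv, rfl⟩
  · exact Or.inr fun v hv => hc ⟨v, hv, rfl⟩

omit h in
theorem mem_normalizer_of_conj_mem {K : Subgroup G} {g : G} (hg : ∀ v ∈ K, g * v * g⁻¹ ∈ K) :
    g ∈ normalizer (K : Set G) := by
  rw [mem_normalizer_iff_map_conj_eq]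
  refine eq_of_le_of_card_ge ?_ (card_map_of_injective (MulAut.conj g).injective).ge
  rintro _ ⟨v, hv, rfl⟩
  exact hg v hv

theorem right_normalizes : A ≤ normalizer (V : Set G) := by
  intro a ha
  rcases h.conj_eq_or (g := a) (fun v hv => mul_mem (mul_mem (h.right_le ha) (h.left_le hv))
    (inv_mem (h.right_le ha))) with hc | hc
  · exact mem_normalizer_of_conj_mem hc
  · exfalso
    refine h.ne (eq_of_le_of_card_ge (fun v hv => ?_) (by rw [h.card_left, h.card_right]))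
    have := mul_mem (mul_mem (inv_mem ha) (hc v hv)) ha
    rwa [show a⁻¹ * (a * v * a⁻¹) * a = v by group] at this

theorem exists_mul_eq {s : G} (hs : s ∈ (S : Subgroup G)) :
    ∃ v ∈ V, ∃ a ∈ A, v * a = s := by
  classical
  have := Fintype.ofFinite G
  let f : V × A → G := fun p => p.1 * p.2
  have hfib : ∀ b ∈ Finset.univ.image f, (Finset.univ.filter fun p => f p = b).card ≤ 4 := by
    intro b hb
    obtain ⟨p₀, -, rfl⟩ := Finset.mem_image.1 hb
    rw [← h.card_inf, Nat.card_eq_fintype_card, Fintype.card_subtype]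
    refine Finset.card_le_card_of_injOn (fun p => (p₀.1 : G)⁻¹ * p.1) ?_ ?_
    · intro p hp
      simp only [Finset.coe_filter, Finset.mem_univ, true_and, Set.mem_ofPred_eq] at hp ⊢
      refine mem_inf.2 ⟨mul_mem (inv_mem p₀.1.2) p.1.2, ?_⟩
      have e : (p₀.1 : G)⁻¹ * p.1 = p₀.2 * (p.2 : G)⁻¹ := by
        rw [inv_mul_eq_iff_eq_mul, ← mul_assoc]
        exact eq_mul_inv_of_mul_eq hp
      rw [e]; exact mul_mem p₀.2.2 (inv_mem p.2.2)
    · intro p hp q hq hpq
      simp only [Finset.coe_filter, Finset.mem_univ, true_and, Set.mem_ofPred_eq] at hp hq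
      have e1 : (p.1 : G) = q.1 := mul_left_cancel hpq
      have e2 : (p.1 : G) * p.2 = q.1 * q.2 := hp.trans hq.symm
      rw [e1] at e2
      exact Prod.ext (Subtype.ext e1) (Subtype.ext (mul_left_cancel e2))
  have h1 := Finset.card_le_mul_card_image Finset.univ 4 hfib
  have hVA : (Finset.univ : Finset (V × A)).card = 256 := by
    rw [Finset.card_univ, Fintype.card_prod, ← Nat.card_eq_fintype_card (α := V),
      ← Nat.card_eq_fintype_card (α := A), h.card_left, h.card_right]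
  have hsub : Finset.univ.image f ⊆ Finset.univ.filter (· ∈ (S : Subgroup G)) := by
    intro b hb
    obtain ⟨p, -, rfl⟩ := Finset.mem_image.1 hb
    exact Finset.mem_filter.2 ⟨Finset.mem_univ _, mul_mem (h.left_le p.1.2) (h.right_le p.2.2)⟩
  have hScard : (Finset.univ.filter (· ∈ (S : Subgroup G))).card = 64 := by
    rw [← h.card_sylow, Nat.card_eq_fintype_card, Fintype.card_subtype]
  have heq := Finset.eq_of_subset_of_card_le hsub (by omega)
  have hsm : s ∈ Finset.univ.image f := heq ▸ Finset.mem_filter.2 ⟨Finset.mem_univ _, hs⟩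
  obtain ⟨p, -, hp⟩ := Finset.mem_image.1 hsm
  exact ⟨p.1, p.1.2, p.2, p.2.2, hp⟩

theorem sylow_le : (S : Subgroup G) ≤ normalizer (V : Set G) := by
  intro s hs
  obtain ⟨v, hv, a, ha, rfl⟩ := h.exists_mul_eq hs
  exact mul_mem (le_normalizer hv) (h.right_normalizes ha)

theorem commute_iff {w : G} (hwV : w ∈ V) (hwA : w ∈ A) (hw1 : w ≠ 1) {g : G} :
    g * w = w * g ↔ g ∈ (S : Subgroup G) := by
  have hle : (S : Subgroup G) ≤ centralizer ({w} : Set G) := by
    intro s hs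
    obtain ⟨v, hv, a, ha, rfl⟩ := h.exists_mul_eq hs
    rw [mem_centralizer_singleton_iff]
    exact (Commute.mul_left (h.comm_left v hv w hwV) (h.comm_right a ha w hwA)).eq
  have heq : centralizer ({w} : Set G) = (S : Subgroup G) :=
    S.is_maximal' (h.cit w (invo_of_sq hw1 (h.sq_left w hwV))) hle
  rw [← heq, mem_centralizer_singleton_iff]

theorem exists_conj {x : G} (hx : x ∈ V) (hx1 : x ≠ 1) :
    ∃ n ∈ normalizer (V : Set G), n * z * n⁻¹ = x := by
  classical
  have := Fintype.ofFinite G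
  let f : normalizer (V : Set G) → G := fun n => n * z * (n : G)⁻¹
  have hfib : ∀ b ∈ Finset.univ.image f, (Finset.univ.filter fun n => f n = b).card ≤ 64 := by
    intro b hb
    obtain ⟨n₀, -, rfl⟩ := Finset.mem_image.1 hb
    rw [← h.card_sylow, Nat.card_eq_fintype_card, Fintype.card_subtype]
    refine Finset.card_le_card_of_injOn (fun n => (n₀ : G)⁻¹ * n) ?_ ?_
    · intro n hn
      simp only [Finset.coe_filter, Finset.mem_univ, true_and, Set.mem_ofPred_eq] at hn ⊢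
      exact (h.commute_iff h.z_left h.z_right h.z_ne).1 (conj_eq_iff.1 hn.symm)
    · intro n _ m _ hnm
      exact Subtype.ext (mul_left_cancel hnm)
  have h1 := Finset.card_le_mul_card_image Finset.univ 64 hfib
  have hN : (Finset.univ : Finset (normalizer (V : Set G))).card = 960 := by
    rw [Finset.card_univ, ← Nat.card_eq_fintype_card, h.card_normalizer_left]
  have hsub : Finset.univ.image f ⊆ (Finset.univ.filter (· ∈ V)).erase 1 := by
    intro b hb
    obtain ⟨n, -, rfl⟩ := Finset.mem_image.1 hb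
    exact Finset.mem_erase.2 ⟨fun e => h.z_ne (conj_eq_one_iff.1 e),
      Finset.mem_filter.2 ⟨Finset.mem_univ _, (mem_normalizer_iff.1 n.2 z).1 h.z_left⟩⟩
  have hV : ((Finset.univ.filter (· ∈ V)).erase 1).card = 15 := by
    rw [Finset.card_erase_of_mem (by simp), ← Fintype.card_subtype, ← Nat.card_eq_fintype_card,
      h.card_left]
  have heq := Finset.eq_of_subset_of_card_le hsub (by omega)
  have hxm : x ∈ Finset.univ.image f := heq ▸ Finset.mem_erase.2 ⟨hx1, by simp [hx]⟩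
  obtain ⟨n, -, hn⟩ := Finset.mem_image.1 hxm
  exact ⟨n, n.2, hn⟩

theorem mem_normalizer {k : G} (hk : k * z * k⁻¹ ∈ V) : k ∈ normalizer (V : Set G) := by
  obtain ⟨n, hn, hnz⟩ := h.exists_conj hk (fun e => h.z_ne (conj_eq_one_iff.1 e))
  have := h.sylow_le ((h.commute_iff h.z_left h.z_right h.z_ne).1 (conj_eq_iff.1 hnz))
  simpa using mul_mem hn this

theorem normalizes_sylow {g : G} (hg : g ∈ normalizer ((S : Subgroup G) : Set G)) :
    g ∈ normalizer (V : Set G) := by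
  have hmem : ∀ {K : Subgroup G}, K ≤ (S : Subgroup G) →
      ∀ v ∈ K, g * v * g⁻¹ ∈ (S : Subgroup G) := fun hK v hv => (mem_normalizer_iff.1 hg v).1 (hK hv)
  rcases h.conj_eq_or (hmem h.left_le) with h1 | h1
  · exact mem_normalizer_of_conj_mem h1
  rcases h.symm.conj_eq_or (hmem h.right_le) with h2 | h2
  · exfalso
    refine h.ne (eq_of_le_of_card_ge (fun v hv => ?_) (by rw [h.card_left, h.card_right]))
    have := (mem_normalizer_iff.1 (mem_normalizer_of_conj_mem h2) v).2 (h1 v hv)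
    exact this
  · exact h.mem_normalizer (h2 z h.z_right)

/-- `S` as a Sylow 2-subgroup of the normaliser of `V`. -/
theorem exists_conj_le {P : Subgroup G} (hP : IsPGroup 2 P) (hPN : P ≤ normalizer (V : Set G)) :
    ∃ n ∈ normalizer (V : Set G), ∀ p ∈ P, n⁻¹ * p * n ∈ (S : Subgroup G) := by
  have : Fact (Nat.Prime 2) := ⟨Nat.prime_two⟩
  set N := normalizer (V : Set G)
  have hP' : IsPGroup 2 (P.subgroupOf N) := hP.of_equiv (subgroupOfEquivOfLe hPN).symm
  obtain ⟨T, hT⟩ := hP'.exists_le_sylow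
  let S' : Sylow 2 N := S.subtype h.sylow_le
  obtain ⟨n, hn⟩ := MulAction.exists_smul_eq N S' T
  refine ⟨n, n.2, fun p hp => ?_⟩
  have hpT : (⟨p, hPN hp⟩ : N) ∈ T := hT (by simpa [mem_subgroupOf] using hp)
  rw [← hn] at hpT
  have hpT' : (⟨p, hPN hp⟩ : N) ∈ (S' : Subgroup N).map (MulAut.conj n).toMonoidHom := hpT
  obtain ⟨s, hs, hsp⟩ := hpT'
  have hs' : (s : G) ∈ (S : Subgroup G) := by
    simpa [S', mem_subgroupOf] using hs
  have hsp' : (n : G) * s * (n : G)⁻¹ = p := congrArg Subtype.val hsp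
  rw [← hsp']
  simpa [mul_assoc] using hs'

theorem exists_conj_invo {y : G} (hyN : y ∈ normalizer (V : Set G)) (hy : y * y = 1) :
    ∃ n ∈ normalizer (V : Set G), n⁻¹ * y * n ∈ V ∨ n⁻¹ * y * n ∈ A := by
  have : Fact (Nat.Prime 2) := ⟨Nat.prime_two⟩
  have hp : IsPGroup 2 (zpowers y) := by
    obtain ⟨k, -, hk⟩ := (Nat.dvd_prime_pow Nat.prime_two).1
      (orderOf_dvd_of_pow_eq_one (x := y) (n := 2 ^ 1) (by rwa [pow_one, pow_two]))
    exact IsPGroup.of_card (n := k) (by rw [Nat.card_zpowers, hk])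
  obtain ⟨n, hn, hS⟩ := h.exists_conj_le hp (zpowers_le.2 hyN)
  exact ⟨n, hn, h.cover _ (hS y (mem_zpowers y)) (sq_one_of_conj hy)⟩

theorem exists_conj_eq {x : G} (hx1 : x ≠ 1) (hx2 : x * x = 1) : ∃ g : G, g * z * g⁻¹ = x := by
  have : Fact (Nat.Prime 2) := ⟨Nat.prime_two⟩
  obtain ⟨T, hT⟩ := (IsPGroup.of_card (n := 1)
    (by rw [Nat.card_zpowers, invo_of_sq hx1 hx2, pow_one]) : IsPGroup 2 (zpowers x)).exists_le_sylow
  obtain ⟨g, hg⟩ := MulAction.exists_smul_eq G S T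
  have hxT : x ∈ (S : Subgroup G).map (MulAut.conj g).toMonoidHom := by
    have := hT (mem_zpowers x)
    rw [← hg] at this
    exact this
  obtain ⟨s, hs, hsx⟩ := hxT
  have hsx' : g * s * g⁻¹ = x := hsx
  have hs1 : s ≠ 1 := fun e => hx1 (by rw [← hsx', e]; group)
  have hs2 : s * s = 1 := by
    have := sq_one_of_conj (n := g) hx2
    rwa [← hsx', show g⁻¹ * (g * s * g⁻¹) * g = s by group] at this
  have key : ∃ n : G, n * z * n⁻¹ = s := by
    rcases h.cover s hs hs2 with hc | hc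
    · obtain ⟨n, -, hn⟩ := h.exists_conj hc hs1; exact ⟨n, hn⟩
    · obtain ⟨n, -, hn⟩ := h.symm.exists_conj hc hs1; exact ⟨n, hn⟩
  obtain ⟨n, rfl⟩ := key
  exact ⟨g * n, by rw [← hsx']; group⟩

theorem eq_mk_of_conj_eq {g g' : G} (e : g * z * g⁻¹ = g' * z * g'⁻¹) :
    (g : Pt V) = g' :=
  QuotientGroup.eq.2 (h.sylow_le ((h.commute_iff h.z_left h.z_right h.z_ne).1 (conj_eq_iff.1 e)))

/-- The points fixed by the involution `g z g⁻¹` are those of the line `g`. -/
theorem fix_iff {g : G} {P : Pt V} :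
    (g * z * g⁻¹) • P = P ↔ Inc P (g : Pt A) := by
  constructor
  · induction P using QuotientGroup.induction_on with
    | _ g' =>
      intro e
      rw [inc_mk_iff_smul] at e
      obtain ⟨n, hn, hc⟩ := h.exists_conj_invo e (sq_one_of_conj (by
        calc g * z * g⁻¹ * (g * z * g⁻¹) = g * (z * z) * g⁻¹ := by group
          _ = 1 := by rw [h.sq_left z h.z_left]; group))
      have e2 : n⁻¹ * (g'⁻¹ * (g * z * g⁻¹) * g') * n =
          (n⁻¹ * g'⁻¹ * g) * z * (n⁻¹ * g'⁻¹ * g)⁻¹ := by group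
      rw [e2] at hc
      rcases hc with hc | hc
      · refine ⟨g, QuotientGroup.eq.2 ?_, rfl⟩
        have := mul_mem hn (h.mem_normalizer hc)
        rw [show n * (n⁻¹ * g'⁻¹ * g) = g'⁻¹ * g by group] at this
        simpa using inv_mem this
      · rw [inc_mk_left]
        refine ⟨n, hn, (QuotientGroup.eq.2 ?_).symm⟩
        have := h.symm.mem_normalizer hc
        rwa [show n⁻¹ * g'⁻¹ * g = (g' * n)⁻¹ * g by group] at this
  · rintro ⟨k, rfl, hk⟩
    rw [inc_mk_iff_smul, show k⁻¹ * (g * z * g⁻¹) * k = (k⁻¹ * g) * z * (k⁻¹ * g)⁻¹ by group]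
    exact h.right_normalizes ((mem_normalizer_iff.1 (QuotientGroup.eq.1 hk) z).1 h.z_right)

theorem fixes_line {n b : G} (hb : b ∈ A) {P : Pt V} (hP : Inc P (n : Pt A)) :
    (n * b * n⁻¹) • P = P := by
  rcases eq_or_ne b 1 with rfl | hb1
  · simp
  obtain ⟨m, hm, rfl⟩ := h.symm.exists_conj hb hb1
  have he : ((n * m : G) : Pt A) = n := (QuotientGroup.eq.2 (by simpa using hm)).symm
  rw [show n * (m * z * m⁻¹) * n⁻¹ = (n * m) * z * (n * m)⁻¹ by group, h.fix_iff, he]
  exact hP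

theorem line_eq_of_conj_mem {n n' b b' : G} (hb : b ∈ A) (hb' : b' ∈ A) (hb1 : b ≠ 1)
    (e : n * b * n⁻¹ = n' * b' * n'⁻¹) : (n : Pt A) = n' := by
  have hb1' : b' ≠ 1 := by
    rintro rfl
    exact hb1 (conj_eq_one_iff.1 (e.trans (by group)))
  obtain ⟨m, hm, rfl⟩ := h.symm.exists_conj hb hb1
  obtain ⟨m', hm', rfl⟩ := h.symm.exists_conj hb' hb1'
  have h1 : ((n * m : G) : Pt A) = n := (QuotientGroup.eq.2 (by simpa using hm)).symm
  have h2 : ((n' * m' : G) : Pt A) = n' := (QuotientGroup.eq.2 (by simpa using hm')).symm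
  rw [← h1, ← h2]
  exact h.symm.eq_mk_of_conj_eq (Eq.trans (by group) (e.trans (by group)))

omit h in
theorem mem_of_normalizes {P : Sylow 2 G} {b : G}
    (hb : b ∈ normalizer ((P : Subgroup G) : Set G)) (hb2 : b * b = 1) : b ∈ (P : Subgroup G) := by
  have : Fact (Nat.Prime 2) := ⟨Nat.prime_two⟩
  obtain ⟨k, -, hk⟩ := (Nat.dvd_prime_pow Nat.prime_two).1
    (orderOf_dvd_of_pow_eq_one (x := b) (n := 2 ^ 1) (by rwa [pow_one, pow_two]))
  have hp : IsPGroup 2 (zpowers b) := IsPGroup.of_card (n := k) (by rw [Nat.card_zpowers, hk])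
  have := P.is_maximal' (hp.to_sup_of_normal_right' P.2 (zpowers_le.2 hb)) le_sup_right
  rw [← this]
  exact mem_sup_left (mem_zpowers b)

theorem left_fixes {n₁ n₂ : G} (hn₁ : n₁ ∈ normalizer (V : Set G))
    (hn₂ : n₂ ∈ normalizer (V : Set G)) (hne : (n₁ : Pt A) ≠ n₂) {Q : Pt V}
    (h₁ : Inc Q (n₁ : Pt A)) (h₂ : Inc Q (n₂ : Pt A)) : ∀ v ∈ V, v • Q = Q := by
  classical
  have := Fintype.ofFinite G
  set K := MulAction.stabilizer G Q ⊓ V with hK
  have hcV : ∀ {n : G}, n ∈ normalizer (V : Set G) → ∀ {v : G}, v ∈ V → n * v * n⁻¹ ∈ V :=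
    fun hn v hv => (mem_normalizer_iff.1 hn v).1 hv
  let Z : Finset G := Finset.univ.filter fun q => q ∈ V ⊓ A
  have hZ : Z.card = 4 := by
    rw [← h.card_inf, Nat.card_eq_fintype_card, Fintype.card_subtype]
  let Z₁ : Finset G := (Z.erase 1).image fun w => n₁ * w * n₁⁻¹
  let T : Finset G := ((Finset.univ.filter (· ∈ A)) ×ˢ Z.erase 1).image
    fun p => (n₁ * p.1 * n₁⁻¹) * (n₂ * p.2 * n₂⁻¹) * (n₁ * p.1 * n₁⁻¹)⁻¹
  have hZe : (Z.erase 1).card = 3 := by
    rw [Finset.card_erase_of_mem (Finset.mem_filter.2 ⟨Finset.mem_univ _, one_mem _⟩), hZ]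
  have hZ₁ : Z₁.card = 3 := by
    rw [Finset.card_image_of_injective _ fun a b hab => mul_left_cancel (mul_right_cancel hab), hZe]
  have hmemZ : ∀ {q : G}, q ∈ Z.erase 1 ↔ q ≠ 1 ∧ q ∈ V ∧ q ∈ A := by
    intro q; simp [Z, Finset.mem_erase, mem_inf]
  -- equality of two of the conjugates
  have key : ∀ a ∈ A, ∀ w ∈ Z.erase 1, ∀ w' ∈ Z.erase 1,
      (n₁ * a * n₁⁻¹) * (n₂ * w * n₂⁻¹) * (n₁ * a * n₁⁻¹)⁻¹ = n₂ * w' * n₂⁻¹ →
      a ∈ V ∧ w = w' := by
    intro a ha w hw w' hw' e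
    obtain ⟨hw1, hwV, hwA⟩ := hmemZ.1 hw
    obtain ⟨hw1', hwV', hwA'⟩ := hmemZ.1 hw'
    set b := n₂⁻¹ * (n₁ * a * n₁⁻¹) * n₂ with hb
    have hb2 : b * b = 1 := by
      refine sq_one_of_conj ?_
      calc n₁ * a * n₁⁻¹ * (n₁ * a * n₁⁻¹) = n₁ * (a * a) * n₁⁻¹ := by group
        _ = 1 := by rw [h.sq_right a ha]; group
    have hbw : b * w * b⁻¹ = w' := by
      calc b * w * b⁻¹ = n₂⁻¹ * ((n₁ * a * n₁⁻¹) * (n₂ * w * n₂⁻¹) * (n₁ * a * n₁⁻¹)⁻¹) * n₂ := by
            rw [hb]; group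
        _ = w' := by rw [e]; group
    have hbS : b ∈ (S : Subgroup G) := by
      refine mem_of_normalizes (mem_normalizer_of_conj_mem fun s hs => ?_) hb2
      rw [← h.commute_iff hwV' hwA' hw1', ← hbw]
      have hs' := (h.commute_iff hwV hwA hw1).2 hs
      calc b * s * b⁻¹ * (b * w * b⁻¹) = b * (s * w) * b⁻¹ := by group
        _ = b * w * b⁻¹ * (b * s * b⁻¹) := by rw [hs']; group
    have hww : w = w' := by
      rw [← hbw, mul_inv_eq_iff_eq_mul.2]
      exact (h.commute_iff hwV hwA hw1).2 hbS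
    refine ⟨?_, hww⟩
    rcases h.cover b hbS hb2 with hc | hc
    · have h1 : n₂ * b * n₂⁻¹ ∈ V := hcV hn₂ hc
      rw [show n₂ * b * n₂⁻¹ = n₁ * a * n₁⁻¹ by rw [hb]; group] at h1
      exact (mem_normalizer_iff.1 hn₁ a).2 h1
    · by_contra haV
      exact hne (h.line_eq_of_conj_mem ha hc (fun e1 => haV (e1 ▸ one_mem V))
        (by rw [hb]; group))
  have hfib : ∀ b ∈ T, (((Finset.univ.filter (· ∈ A)) ×ˢ Z.erase 1).filter fun p =>
      (n₁ * p.1 * n₁⁻¹) * (n₂ * p.2 * n₂⁻¹) * (n₁ * p.1 * n₁⁻¹)⁻¹ = b).card ≤ 4 := by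
    intro b hb
    obtain ⟨⟨a₀, w₀⟩, hp₀, rfl⟩ := Finset.mem_image.1 hb
    rw [Finset.mem_product] at hp₀
    have ha₀ : a₀ ∈ A := (Finset.mem_filter.1 hp₀.1).2
    rw [← hZ]
    refine Finset.card_le_card_of_injOn (fun p => a₀⁻¹ * p.1) ?_ ?_
    · rintro ⟨a, w⟩ hp
      simp only [Finset.coe_filter, Finset.mem_product, Finset.mem_filter, Finset.mem_univ, true_and,
        Set.mem_ofPred_eq] at hp
      obtain ⟨⟨ha, hw⟩, e⟩ := hp
      refine Finset.mem_filter.2 ⟨Finset.mem_univ _, mem_inf.2 ⟨?_, mul_mem (inv_mem ha₀) ha⟩⟩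
      refine (key _ (mul_mem (inv_mem ha₀) ha) w hw w₀ hp₀.2 ?_).1
      calc n₁ * (a₀⁻¹ * a) * n₁⁻¹ * (n₂ * w * n₂⁻¹) * (n₁ * (a₀⁻¹ * a) * n₁⁻¹)⁻¹
          = (n₁ * a₀ * n₁⁻¹)⁻¹ * ((n₁ * a * n₁⁻¹) * (n₂ * w * n₂⁻¹) * (n₁ * a * n₁⁻¹)⁻¹) *
            (n₁ * a₀ * n₁⁻¹) := by group
        _ = n₂ * w₀ * n₂⁻¹ := by rw [e]; group
    · rintro ⟨a, w⟩ hp ⟨a', w'⟩ hp' e'
      simp only [Finset.coe_filter, Finset.mem_product, Finset.mem_filter, Finset.mem_univ, true_and,
        Set.mem_ofPred_eq] at hp hp'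
      have haa : a = a' := mul_left_cancel e'
      subst haa
      have e3 := hp.2.trans hp'.2.symm
      simpa using e3
  have hcard : 48 ≤ 4 * T.card := by
    refine le_trans ?_ (Finset.card_le_mul_card_image _ 4 hfib)
    rw [Finset.card_product, hZe]
    have : (Finset.univ.filter (· ∈ A)).card = 16 := by
      rw [← h.card_right, Nat.card_eq_fintype_card, Fintype.card_subtype]
    omega
  have hdisj : Disjoint Z₁ T := by
    rw [Finset.disjoint_left]
    intro x hx1 hx2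
    obtain ⟨u, hu, rfl⟩ := Finset.mem_image.1 hx1
    obtain ⟨⟨a, w⟩, hp, e⟩ := Finset.mem_image.1 hx2
    obtain ⟨hp1, hp2⟩ := Finset.mem_product.1 hp
    have ha : a ∈ A := (Finset.mem_filter.1 hp1).2
    obtain ⟨hu1, -, huA⟩ := hmemZ.1 hu
    obtain ⟨-, -, hwA⟩ := hmemZ.1 hp2
    refine hne (h.line_eq_of_conj_mem huA hwA hu1 ?_)
    calc n₁ * u * n₁⁻¹ = n₁ * (a⁻¹ * (u * a)) * n₁⁻¹ := by
          rw [h.comm_right u huA a ha]; group
      _ = (n₁ * a * n₁⁻¹)⁻¹ * (n₁ * u * n₁⁻¹) * (n₁ * a * n₁⁻¹) := by group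
      _ = n₂ * w * n₂⁻¹ := by rw [← e]; group
  have hsub : Z₁ ∪ T ⊆ Finset.univ.filter (· ∈ K) := by
    intro x hx
    refine Finset.mem_filter.2 ⟨Finset.mem_univ _, ?_⟩
    rcases Finset.mem_union.1 hx with hx | hx
    · obtain ⟨u, hu, rfl⟩ := Finset.mem_image.1 hx
      obtain ⟨-, huV, huA⟩ := hmemZ.1 hu
      exact mem_inf.2 ⟨MulAction.mem_stabilizer_iff.2 (h.fixes_line huA h₁), hcV hn₁ huV⟩
    · obtain ⟨⟨a, w⟩, hp, rfl⟩ := Finset.mem_image.1 hx
      obtain ⟨hp1, hp2⟩ := Finset.mem_product.1 hp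
      have ha : a ∈ A := (Finset.mem_filter.1 hp1).2
      obtain ⟨-, hwV, hwA⟩ := hmemZ.1 hp2
      have haS : n₁ * a * n₁⁻¹ ∈ MulAction.stabilizer G Q :=
        MulAction.mem_stabilizer_iff.2 (h.fixes_line ha h₁)
      have hwS : n₂ * w * n₂⁻¹ ∈ MulAction.stabilizer G Q :=
        MulAction.mem_stabilizer_iff.2 (h.fixes_line hwA h₂)
      exact mem_inf.2 ⟨mul_mem (mul_mem haS hwS) (inv_mem haS),
        hcV (mul_mem (mul_mem hn₁ (h.right_normalizes ha)) (inv_mem hn₁)) (hcV hn₂ hwV)⟩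
  have h15 : 15 ≤ Nat.card K := by
    rw [Nat.card_eq_fintype_card, Fintype.card_subtype]
    refine le_trans ?_ (Finset.card_le_card hsub)
    rw [Finset.card_union_of_disjoint hdisj, hZ₁]
    omega
  have hdvd : Nat.card K ∣ 2 ^ 4 := by
    have := card_dvd_of_le (inf_le_right : K ≤ V)
    rwa [h.card_left] at this
  obtain ⟨j, hj, hjK⟩ := (Nat.dvd_prime_pow Nat.prime_two).1 hdvd
  have hKV : K = V := by
    refine eq_of_le_of_card_ge inf_le_right ?_
    rw [h.card_left, hjK]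
    interval_cases j <;> omega
  intro v hv
  rw [← hKV] at hv
  exact MulAction.mem_stabilizer_iff.1 hv.1

/-- Two lines through the base point share no further point. -/
theorem eq_base {n₁ n₂ : G} (hn₁ : n₁ ∈ normalizer (V : Set G))
    (hn₂ : n₂ ∈ normalizer (V : Set G)) (hne : (n₁ : Pt A) ≠ n₂) {Q : Pt V}
    (h₁ : Inc Q (n₁ : Pt A)) (h₂ : Inc Q (n₂ : Pt A)) : Q = ((1 : G) : Pt V) := by
  have hv := h.left_fixes hn₁ hn₂ hne h₁ h₂
  induction Q using QuotientGroup.induction_on with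
  | _ g =>
    have hle : (S : Subgroup G).map (MulAut.conj (g⁻¹ * n₁)).toMonoidHom ≤
        normalizer (V : Set G) := by
      rintro _ ⟨s, hs, rfl⟩
      obtain ⟨v, hvV, a, ha, rfl⟩ := h.exists_mul_eq hs
      show g⁻¹ * n₁ * (v * a) * (g⁻¹ * n₁)⁻¹ ∈ _
      rw [show g⁻¹ * n₁ * (v * a) * (g⁻¹ * n₁)⁻¹ =
        g⁻¹ * ((n₁ * v * n₁⁻¹) * (n₁ * a * n₁⁻¹)) * g by group, ← inc_mk_iff_smul, mul_smul,
        h.fixes_line ha h₁, hv _ ((mem_normalizer_iff.1 hn₁ v).1 hvV)]
    obtain ⟨n, hn, hk⟩ := h.exists_conj_le (S.2.map _) hle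
    have hkN : n⁻¹ * (g⁻¹ * n₁) ∈ normalizer (V : Set G) := by
      refine h.normalizes_sylow (mem_normalizer_of_conj_mem fun s hs => ?_)
      have := hk _ ⟨s, hs, rfl⟩
      simpa [mul_assoc] using this
    refine QuotientGroup.eq.2 ?_
    have := mul_mem (mul_mem hn hkN) (inv_mem hn₁)
    rwa [show n * (n⁻¹ * (g⁻¹ * n₁)) * n₁⁻¹ = g⁻¹ * 1 by group] at this

/-- Two points lie on at most one line. -/
theorem line_unique {P Q : Pt V} {c c' : Pt A} (hPQ : P ≠ Q) (h1 : Inc P c) (h2 : Inc Q c)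
    (h3 : Inc P c') (h4 : Inc Q c') : c = c' := by
  induction P using QuotientGroup.induction_on with
  | _ g =>
    by_contra hne
    obtain ⟨n₁, hn₁, rfl⟩ := inc_mk_left.1 h1
    obtain ⟨n₂, hn₂, rfl⟩ := inc_mk_left.1 h3
    have e : ∀ n : G, ((g * n : G) : Pt A) = g • (n : Pt A) := fun n => rfl
    have h2' : Inc (g⁻¹ • Q) (n₁ : Pt A) := by
      have := inc_smul g⁻¹ h2
      rwa [e, inv_smul_smul] at this
    have h4' : Inc (g⁻¹ • Q) (n₂ : Pt A) := by
      have := inc_smul g⁻¹ h4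
      rwa [e, inv_smul_smul] at this
    have hb := h.eq_base hn₁ hn₂ (fun e' => hne (by rw [e, e, e'])) h2' h4'
    refine hPQ ?_
    rw [inv_smul_eq_iff] at hb
    rw [hb]
    exact (congrArg _ (mul_one g)).symm

/-- Every line carries five points. -/
theorem card_line (c : Pt A) : Nat.card {P : Pt V // Inc P c} = 5 := by
  classical
  have := Fintype.ofFinite G
  have hbase : Nat.card {P : Pt V // Inc P ((1 : G) : Pt A)} = 5 := by
    let A' : Finset G := (Finset.univ.filter (· ∈ A)).erase 1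
    have hA' : A'.card = 15 := by
      rw [Finset.card_erase_of_mem (by simp), ← Fintype.card_subtype, ← Nat.card_eq_fintype_card,
        h.card_right]
    have hmem : ∀ {x : G}, x ∈ A' ↔ x ≠ 1 ∧ x ∈ A := fun {x} => by simp [A', Finset.mem_erase]
    choose! f hf hfx using fun x (hx : x ∈ A') =>
      h.symm.exists_conj (hmem.1 hx).2 (hmem.1 hx).1
    let π : G → Pt V := fun x => (f x : Pt V)
    let L : Finset (Pt V) := Finset.univ.filter fun P => Inc P ((1 : G) : Pt A)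
    have hπ : ∀ x ∈ A', π x ∈ L := fun x hx =>
      Finset.mem_filter.2 ⟨Finset.mem_univ _, f x, rfl, (QuotientGroup.eq.2 (by simpa using inv_mem (hf x hx)))⟩
    have hfib : ∀ P ∈ L, (A'.filter fun x => π x = P).card = 3 := by
      intro P hP
      obtain ⟨m, hm, rfl⟩ := inc_mk_right.1 (Finset.mem_filter.1 hP).2
      rw [one_mul]
      have : A'.filter (fun x => π x = (m : Pt V)) =
          ((Finset.univ.filter (· ∈ V ⊓ A)).erase 1).image fun w => m * w * m⁻¹ := by
        ext x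
        simp only [Finset.mem_filter, Finset.mem_image, Finset.mem_erase, mem_inf, Finset.mem_univ,
          true_and]
        constructor
        · rintro ⟨hx, e⟩
          obtain ⟨hx1, hxA⟩ := hmem.1 hx
          refine ⟨m⁻¹ * x * m, ⟨fun e1 => hx1 ?_, ?_, ?_⟩, by group⟩
          · calc x = m * (m⁻¹ * x * m) * m⁻¹ := by group
              _ = 1 := by rw [e1]; group
          · rw [← hfx x hx, show m⁻¹ * (f x * z * (f x)⁻¹) * m =
              (m⁻¹ * f x) * z * (m⁻¹ * f x)⁻¹ by group]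
            have hk : m⁻¹ * f x ∈ normalizer (V : Set G) := by
              simpa using inv_mem (QuotientGroup.eq.1 e)
            exact (mem_normalizer_iff.1 hk z).1 h.z_left
          · simpa using (mem_normalizer_iff.1 (inv_mem hm) x).1 hxA
        · rintro ⟨w, ⟨hw1, hwV, hwA⟩, rfl⟩
          have hx : m * w * m⁻¹ ∈ A' :=
            hmem.2 ⟨fun e => hw1 (conj_eq_one_iff.1 e), (mem_normalizer_iff.1 hm w).1 hwA⟩
          refine ⟨hx, QuotientGroup.eq.2 ?_⟩
          have hk : m⁻¹ * f (m * w * m⁻¹) ∈ normalizer (V : Set G) := by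
            refine h.mem_normalizer ?_
            rw [show m⁻¹ * f (m * w * m⁻¹) * z * (m⁻¹ * f (m * w * m⁻¹))⁻¹ =
              m⁻¹ * (f (m * w * m⁻¹) * z * (f (m * w * m⁻¹))⁻¹) * m by group, hfx _ hx]
            simpa [mul_assoc] using hwV
          simpa using inv_mem hk
      rw [this, Finset.card_image_of_injective _ fun a b hab => mul_left_cancel (mul_right_cancel hab),
        Finset.card_erase_of_mem (by simp), ← Fintype.card_subtype, ← Nat.card_eq_fintype_card,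
        h.card_inf]
    have h15 := Finset.card_eq_sum_card_fiberwise hπ
    rw [Finset.sum_congr rfl hfib, Finset.sum_const, smul_eq_mul, hA'] at h15
    rw [Nat.card_eq_fintype_card, Fintype.card_subtype]
    show L.card = 5
    omega
  induction c using QuotientGroup.induction_on with
  | _ g =>
    rw [← hbase]
    refine Nat.card_congr ((MulAction.toPerm g⁻¹).subtypeEquiv fun P => ?_)
    show Inc P (g : Pt A) ↔ Inc (g⁻¹ • P) ((1 : G) : Pt A)
    conv_rhs => rw [show ((1 : G) : Pt A) = g⁻¹ • (g : Pt A) by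
      rw [MulAction.Quotient.smul_mk, smul_eq_mul, inv_mul_cancel]]
    rw [inc_smul_iff]

end Config

end Cfsg.Agent.Lib.CIT.Plane
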