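import Mathlib
import Cfsg.Prelude.Def_Exceptional
import Cfsg.Agent.Lib.CIT.Basic
import Cfsg.Agent.Lib.PSLSpectrum.Spectrum
import Cfsg.Agent.Lib.Perm.ProjCongr
import Cfsg.Agent.Lib.LinGroup.Order
import Cfsg.Agent.Lib.Burnside.Paqb
import Cfsg.Agent.Lib.Components.GenFitting
import Cfsg.Agent.S1475
import Cfsg.Agent.S3992

/-!
Groups whose nontrivial elements have order a power of two or a prime other than five:
with at least three prime divisors such a group is `PSL₂(7)`, given the list of simple
CIT groups (statement S0348, taken as a hypothesis).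
-/

set_option autoImplicit false

namespace Cfsg.Agent.Lib.CIT.PrimeOrders

open Subgroup

universe u

/-- The classification of simple CIT groups, in the shape of statement S0348. -/
def CITList : Prop :=
  ∀ (G : Type u) [Group G] [Finite G] [IsSimpleGroup G],
    (∃ a b : G, a * b ≠ b * a) →
    (∀ t : G, orderOf t = 2 → IsPGroup 2 (Subgroup.centralizer ({t} : Set G))) →
    (∃ (F : Type) (_ : Field F) (_ : Fintype F),
        (Fintype.card F = 9 ∨ (∃ n : ℕ, Fintype.card F = 2 ^ n) ∨
          ((Fintype.card F).Prime ∧ ∃ k : ℕ, Fintype.card F = 2 ^ k + 1 ∨ Fintype.card F + 1 = 2 ^ k)) ∧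
        Nonempty (G ≃* Matrix.ProjectiveSpecialLinearGroup (Fin 2) F)) ∨
    (∃ (F : Type) (_ : Field F) (_ : Fintype F), Fintype.card F = 4 ∧
        Nonempty (G ≃* Matrix.ProjectiveSpecialLinearGroup (Fin 3) F)) ∨
    Cfsg.IsSuzuki G

/-- Every nontrivial element has order a power of two or a prime other than five. -/
def HOrd (G : Type*) [Group G] : Prop :=
  ∀ g : G, g ≠ 1 → (∃ k : ℕ, orderOf g = 2 ^ k) ∨ ((orderOf g).Prime ∧ orderOf g ≠ 5)

section

variable {G H : Type*} [Group G] [Group H]

theorem HOrd.of_dvd (h : HOrd G)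
    (hd : ∀ x : H, x ≠ 1 → ∃ g : G, g ≠ 1 ∧ orderOf x ∣ orderOf g) : HOrd H := by
  intro x hx
  obtain ⟨g, hg, hxg⟩ := hd x hx
  rcases h g hg with ⟨k, hk⟩ | ⟨hp, h5⟩
  · obtain ⟨j, -, hj⟩ := (Nat.dvd_prime_pow Nat.prime_two).1 (hk ▸ hxg)
    exact Or.inl ⟨j, hj⟩
  · rcases (Nat.dvd_prime hp).1 hxg with e | e
    · exact absurd (orderOf_eq_one_iff.1 e) hx
    · exact Or.inr (e ▸ ⟨hp, h5⟩)

theorem HOrd.of_injective (h : HOrd G) (f : H →* G) (hf : Function.Injective f) : HOrd H :=
  h.of_dvd fun x hx =>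
    ⟨f x, fun e => hx (hf (by rw [e, map_one])), (orderOf_injective f hf x).symm ▸ dvd_rfl⟩

theorem HOrd.of_surjective (h : HOrd G) (f : G →* H) (hf : Function.Surjective f) : HOrd H :=
  h.of_dvd fun x hx => by
    obtain ⟨g, rfl⟩ := hf x
    exact ⟨g, fun e => hx (by rw [e, map_one]), orderOf_map_dvd f g⟩

theorem HOrd.isPrimePow (h : HOrd G) (g : G) (hg : g ≠ 1) : IsPrimePow (orderOf g) := by
  rcases h g hg with ⟨k, hk⟩ | ⟨hp, -⟩
  · have hk0 : k ≠ 0 := fun e => hg (orderOf_eq_one_iff.1 (by rw [hk, e, pow_zero]))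
    exact hk ▸ (Nat.prime_two.isPrimePow).pow hk0
  · exact hp.isPrimePow

theorem HOrd.not_five [Finite G] (h : HOrd G) : ¬ 5 ∣ Nat.card G := fun hd => by
  haveI : Fact (Nat.Prime 5) := ⟨by norm_num⟩
  obtain ⟨g, hg⟩ := exists_prime_orderOf_dvd_card' 5 hd
  rcases h g (fun e => by rw [e, orderOf_one] at hg; omega) with ⟨k, hk⟩ | ⟨-, h5⟩
  · rw [hg] at hk
    exact absurd ((Nat.prime_dvd_prime_iff_eq (by norm_num) Nat.prime_two).1
      ((by norm_num : Nat.Prime 5).dvd_of_dvd_pow (dvd_of_eq hk))) (by norm_num)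
  · exact h5 hg

/-- An odd order of an element is one or a prime other than five. -/
theorem HOrd.of_odd (h : HOrd G) {g : G} {n : ℕ} (hg : orderOf g = n) (hodd : Odd n)
    (hn : 1 < n) : n.Prime ∧ n ≠ 5 := by
  rcases h g (fun e => by rw [e, orderOf_one] at hg; omega) with ⟨k, hk⟩ | hp
  · rw [hg] at hk
    rcases Nat.eq_zero_or_pos k with rfl | hk0
    · simp at hk; omega
    · exact absurd (hk ▸ hodd) (Nat.not_odd_iff_even.2 ((Nat.even_pow).2 ⟨even_two, hk0.ne'⟩))
  · exact hg ▸ hp

theorem HOrd.isCIT [Finite G] (h : HOrd G) : IsCIT G := by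
  intro t ht
  rintro ⟨y, hy⟩
  haveI : Fact (Nat.Prime 2) := ⟨Nat.prime_two⟩
  have hc : t * y = y * t := (mem_centralizer_singleton_iff.1 hy).symm
  by_cases hy1 : y = 1
  · exact ⟨0, Subtype.ext (by simpa using hy1)⟩
  rcases h y hy1 with ⟨k, hk⟩ | ⟨hp, -⟩
  · exact ⟨k, Subtype.ext (by
      rw [SubmonoidClass.coe_pow]
      exact hk ▸ pow_orderOf_eq_one y)⟩
  · rcases hp.eq_two_or_odd' with h2 | hodd
    · exact ⟨1, Subtype.ext (by
        rw [SubmonoidClass.coe_pow, pow_one]
        exact h2 ▸ pow_orderOf_eq_one y)⟩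
    exfalso
    have hco : (orderOf t).Coprime (orderOf y) := by
      rw [ht]
      exact Nat.coprime_two_left.2 hodd
    have hord : orderOf (t * y) = 2 * orderOf y := by
      rw [Commute.orderOf_mul_eq_mul_orderOf_of_coprime hc hco, ht]
    rcases h (t * y) (fun e => by rw [e, orderOf_one] at hord; omega) with ⟨k, hk⟩ | ⟨hp', -⟩
    · have : orderOf y ∣ 2 ^ k := ⟨2, by rw [← hk, hord, mul_comm]⟩
      have := (Nat.prime_dvd_prime_iff_eq hp Nat.prime_two).1 (hp.dvd_of_dvd_pow this)
      rw [this] at hodd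
      exact absurd hodd (by decide)
    · rw [hord] at hp'
      exact Nat.not_prime_mul (by norm_num) hp.ne_one hp'

/-- Elements commuting with an element of odd prime order `r` have order dividing `r`. -/
theorem HOrd.pow_eq_one_of_commute [Finite G] (h : HOrd G) {y z : G} {r : ℕ} (hr : r.Prime)
    (hr2 : r ≠ 2) (hy : orderOf y = r) (hc : y * z = z * y) : z ^ r = 1 := by
  by_cases hz1 : z = 1
  · rw [hz1, one_pow]
  by_cases hzr : orderOf z = r
  · exact hzr ▸ pow_orderOf_eq_one z
  exfalso
  rcases h z hz1 with ⟨k, hk⟩ | ⟨hp, -⟩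
  · exact (show orderOf y ≠ 1 by rw [hy]; exact hr.ne_one) (orderOf_eq_one_iff.2
      (h.isCIT.eq_one_of_commute (k := k) (hk ▸ pow_orderOf_eq_one z) hz1
        (hy.symm ▸ hr.odd_of_ne_two hr2) hc.symm))
  · have hco : (orderOf y).Coprime (orderOf z) := by
      rw [hy]
      exact (Nat.coprime_primes hr hp).2 (Ne.symm hzr)
    have hord : orderOf (y * z) = r * orderOf z := by
      rw [Commute.orderOf_mul_eq_mul_orderOf_of_coprime hc hco, hy]
    rcases h (y * z) (fun e => by
        rw [e, orderOf_one] at hord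
        exact hr.ne_one (Nat.eq_one_of_mul_eq_one_right hord.symm)) with ⟨k, hk⟩ | ⟨hp', -⟩
    · exact hr2 ((Nat.prime_dvd_prime_iff_eq hr Nat.prime_two).1
        (hr.dvd_of_dvd_pow (⟨orderOf z, by rw [← hk, hord]⟩ : r ∣ 2 ^ k)))
    · rw [hord] at hp'
      exact Nat.not_prime_mul hr.ne_one hp.ne_one hp'

end

theorem three_dvd_two_pow_odd_add_one (j : ℕ) : 3 ∣ 2 ^ (2 * j + 1) + 1 := by
  rw [pow_succ, pow_mul, Nat.dvd_iff_mod_eq_zero, Nat.add_mod, Nat.mul_mod, Nat.pow_mod]
  simp

theorem three_dvd_two_pow_even_sub_one (j : ℕ) : 3 ∣ 2 ^ (2 * j) - 1 := by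
  have h := Nat.sub_dvd_pow_sub_pow (2 ^ 2) 1 j
  rw [one_pow] at h
  rw [pow_mul]
  exact (show 3 ∣ 2 ^ 2 - 1 by norm_num).trans h

theorem five_dvd_two_pow_four_mul_sub_one (j : ℕ) : 5 ∣ 2 ^ (4 * j) - 1 := by
  have h := Nat.sub_dvd_pow_sub_pow (2 ^ 4) 1 j
  rw [one_pow] at h
  rw [pow_mul]
  exact (show 5 ∣ 2 ^ 4 - 1 by norm_num).trans h

open Cfsg.Agent.Lib.SL2 in
theorem card_field_eq_seven {F : Type} [Field F] [Fintype F] (h : HOrd (PSLtwo F))
    (hns : ¬ Group.IsSolvable (PSLtwo F))
    (hc : Fintype.card F = 9 ∨ (∃ n : ℕ, Fintype.card F = 2 ^ n) ∨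
      ((Fintype.card F).Prime ∧ ∃ k : ℕ, Fintype.card F = 2 ^ k + 1 ∨ Fintype.card F + 1 = 2 ^ k)) :
    Fintype.card F = 7 := by
  have hq1 : 1 < Fintype.card F := Fintype.one_lt_card
  have no5 := h.not_five
  -- fields with two or three elements give solvable groups
  have hq2 : Fintype.card F ≠ 2 := fun e => by
    have := PSLSpectrum.card_psl_even (F := F) (by rw [e]; exact even_two)
    rw [e] at this
    exact hns (Burnside.isSolvable_of_card_eq_prime_pow_mul (p := 2) (q := 3) (a := 1) (b := 1)
      (by norm_num) (by norm_num) (by rw [this]; norm_num))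
  have hq3 : Fintype.card F ≠ 3 := fun e => by
    have := PSLSpectrum.card_psl_odd (F := F) (by rw [e]; decide)
    rw [e] at this
    exact hns (Burnside.isSolvable_of_card_eq_prime_pow_mul (p := 2) (q := 3) (a := 2) (b := 1)
      (by norm_num) (by norm_num) (by omega))
  rcases hc with h9 | ⟨n, hn⟩ | ⟨hp, k, hk⟩
  · have := PSLSpectrum.card_psl_odd (F := F) (by rw [h9]; decide)
    rw [h9] at this
    exact absurd (by omega : 5 ∣ Nat.card (PSLtwo F)) no5
  · exfalso
    have heven : Even (Fintype.card F) := by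
      rw [hn]
      refine (Nat.even_pow).2 ⟨even_two, fun e => ?_⟩
      rw [e, pow_zero] at hn
      omega
    rcases Nat.even_or_odd n with ⟨j, hj⟩ | ⟨j, hj⟩
    · refine no5 ?_
      rw [PSLSpectrum.card_psl_even heven]
      refine Dvd.dvd.mul_left ?_ _
      have e : (Fintype.card F + 1) * (Fintype.card F - 1) = 2 ^ (4 * j) - 1 := by
        rw [← Nat.sq_sub_sq, one_pow, hn, ← pow_mul]
        congr 2
        omega
      rw [e]
      exact five_dvd_two_pow_four_mul_sub_one j
    · obtain ⟨x, hx⟩ := PSLSpectrum.exists_orderOf_psl_plus (F := F)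
      have hg : Nat.gcd 2 (Fintype.card F - 1) = 1 := by
        rw [Nat.coprime_two_left.2]
        obtain ⟨i, hi⟩ := heven
        exact ⟨i - 1, by omega⟩
      rw [hg, Nat.div_one] at hx
      obtain ⟨hp, -⟩ := h.of_odd hx (Even.add_one heven) (by omega)
      have h3 : 3 ∣ Fintype.card F + 1 := by
        rw [hn, hj]
        exact three_dvd_two_pow_odd_add_one j
      have := (Nat.prime_dvd_prime_iff_eq Nat.prime_three hp).1 h3
      omega
  · rcases hk with hk | hk
    · -- Fermat
      exfalso
      rcases Nat.even_or_odd k with ⟨j, hj⟩ | ⟨j, hj⟩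
      · rcases Nat.eq_zero_or_pos j with rfl | hj0
        · rw [hj] at hk
          norm_num at hk
          exact hq2 hk
        obtain ⟨i, rfl⟩ : ∃ i, j = i + 1 := ⟨j - 1, by omega⟩
        have hodd : Odd (Fintype.card F) := by
          rw [hk]
          exact Even.add_one ((Nat.even_pow).2 ⟨even_two, by omega⟩)
        obtain ⟨x, hx⟩ := PSLSpectrum.exists_orderOf_psl_plus (F := F)
        have hg : Nat.gcd 2 (Fintype.card F - 1) = 2 := by
          obtain ⟨m, hm⟩ := hodd
          exact Nat.gcd_eq_left ⟨m, by omega⟩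
        have hk' : k = (2 * i + 1) + 1 := by omega
        have hval : (Fintype.card F + 1) / 2 = 2 ^ (2 * i + 1) + 1 := by
          rw [hk, hk', pow_succ]
          omega
        rw [hg, hval] at hx
        have hpos : 2 ≤ 2 ^ (2 * i + 1) := le_self_pow (by norm_num) (by omega)
        obtain ⟨hp', -⟩ := h.of_odd hx
          (Even.add_one ((Nat.even_pow).2 ⟨even_two, by omega⟩)) (by omega)
        have h3 := (Nat.prime_dvd_prime_iff_eq Nat.prime_three hp').1
          (three_dvd_two_pow_odd_add_one i)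
        have h5 : Fintype.card F = 5 := by
          rw [hk, hk', pow_succ]
          omega
        have := PSLSpectrum.card_psl_odd (F := F) hodd
        rw [h5] at this
        exact no5 (by omega)
      · have h3 : 3 ∣ Fintype.card F := by
          rw [hk, hj]
          exact three_dvd_two_pow_odd_add_one j
        exact hq3 ((Nat.prime_dvd_prime_iff_eq Nat.prime_three hp).1 h3).symm
    · -- Mersenne
      rcases Nat.even_or_odd k with ⟨j, hj⟩ | ⟨j, hj⟩
      · exfalso
        have h3 : 3 ∣ Fintype.card F := by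
          rw [show Fintype.card F = 2 ^ (2 * j) - 1 by rw [two_mul, ← hj]; omega]
          exact three_dvd_two_pow_even_sub_one j
        exact hq3 ((Nat.prime_dvd_prime_iff_eq Nat.prime_three hp).1 h3).symm
      · rcases Nat.eq_zero_or_pos j with rfl | hj0
        · rw [hj] at hk
          norm_num at hk
          omega
        have hpow : 4 ≤ 2 ^ (2 * j) :=
          le_trans (by norm_num : 4 ≤ 2 ^ 2) (Nat.pow_le_pow_right (by norm_num) (by omega))
        have hk' : Fintype.card F + 1 = 2 ^ (2 * j) * 2 := by rw [hk, hj, pow_succ]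
        have hg : Nat.gcd 2 (Fintype.card F - 1) = 2 := Nat.gcd_eq_left ⟨2 ^ (2 * j) - 1, by omega⟩
        obtain ⟨x, hx⟩ := PSLSpectrum.exists_orderOf_psl_minus (F := F) (by omega)
        rw [hg, show (Fintype.card F - 1) / 2 = 2 ^ (2 * j) - 1 by omega] at hx
        have hoddv : Odd (2 ^ (2 * j) - 1) := by
          obtain ⟨m, hm⟩ : Even (2 ^ (2 * j)) := (Nat.even_pow).2 ⟨even_two, by omega⟩
          exact ⟨m - 1, by omega⟩
        obtain ⟨hp', -⟩ := h.of_odd hx hoddv (by omega)
        have h3 := (Nat.prime_dvd_prime_iff_eq Nat.prime_three hp').1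
          (three_dvd_two_pow_even_sub_one j)
        omega

/-- A simple non-abelian group with these element orders is `PSL₂` over seven elements. -/
theorem simple_case (hL : CITList.{u}) {M : Type u} [Group M] [Finite M] [IsSimpleGroup M]
    (hna : ∃ a b : M, a * b ≠ b * a) (h : HOrd M) :
    ∃ (F : Type) (_ : Field F) (_ : Fintype F), Fintype.card F = 7 ∧
      Nonempty (M ≃* Matrix.ProjectiveSpecialLinearGroup (Fin 2) F) := by
  rcases hL M hna h.isCIT with ⟨F, fF, fnF, hc, ⟨e⟩⟩ | ⟨F, fF, fnF, hc, ⟨e⟩⟩ | hS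
  · refine ⟨F, fF, fnF, card_field_eq_seven
      (h.of_injective e.symm.toMonoidHom e.symm.injective) (fun hs => ?_) hc, ⟨e⟩⟩
    haveI := hs
    haveI : Group.IsSolvable M := Group.isSolvable_of_isSolvable_injective (f := e.toMonoidHom) e.injective
    obtain ⟨a, b, hab⟩ := hna
    exact hab (IsSimpleGroup.comm_iff_isSolvable.2 inferInstance a b)
  · exfalso
    refine h.not_five ?_
    have hcard := Cfsg.Agent.Lib.LinGroup.card_PSL_mul (F := F) 3 (by norm_num)
    rw [Fin.prod_univ_three, hc] at hcard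
    norm_num at hcard
    rw [Nat.card_congr e.toEquiv]
    omega
  · exfalso
    obtain ⟨-, m, -, hcard⟩ := hS
    refine h.not_five ?_
    rw [hcard]
    refine Dvd.dvd.mul_right (Dvd.dvd.mul_left ?_ _) _
    have : (2 ^ (2 * m + 1)) ^ 2 = 4 * 16 ^ m := by
      rw [show (16 : ℕ) = 2 ^ 4 by norm_num, ← pow_mul, ← pow_mul,
        show (2 * m + 1) * 2 = 4 * m + 2 by ring, pow_add]
      ring
    rw [this, Nat.dvd_iff_mod_eq_zero, Nat.add_mod, Nat.mul_mod, Nat.pow_mod]
    simp

theorem card_psl_seven {F : Type} [Field F] [Fintype F] (h7 : Fintype.card F = 7) :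
    Nat.card (Matrix.ProjectiveSpecialLinearGroup (Fin 2) F) = 168 := by
  have := PSLSpectrum.card_psl_odd (F := F) (by rw [h7]; decide)
  rw [h7] at this
  show Nat.card (SL2.PSLtwo F) = 168
  omega

theorem factorization_seven : (168 : ℕ).factorization 7 = 1 := by
  rw [show (168 : ℕ) = 7 * 24 by norm_num, Nat.factorization_mul (by norm_num) (by norm_num),
    Finsupp.add_apply, Nat.Prime.factorization_self (by norm_num),
    Nat.factorization_eq_zero_of_not_dvd (by norm_num)]

/-- The normalizer of a Sylow 7-subgroup of a simple group of order 168 has order 21. -/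
theorem card_normalizer_seven {M : Type*} [Group M] [Finite M] [IsSimpleGroup M]
    [Fact (Nat.Prime 7)] (hM : Nat.card M = 168) (P : Sylow 7 M) :
    Nat.card (normalizer (P : Set M)) = 21 := by
  have hP : Nat.card (P : Subgroup M) = 7 := by
    rw [P.card_eq_multiplicity, hM]
    rw [factorization_seven, pow_one]
  have h1 : Nat.card (Sylow 7 M) % 7 = 1 := card_sylow_modEq_one 7 M
  have h2 := P.card_eq_index_normalizer
  have h3 := Subgroup.card_mul_index (normalizer (P : Set M))
  rw [← h2, hM] at h3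
  have h4 : 7 ∣ Nat.card (normalizer (P : Set M)) := by
    simpa [hP] using Subgroup.card_dvd_of_le (Subgroup.le_normalizer (H := (P : Subgroup M)))
  obtain ⟨c, hc⟩ := h4
  rw [hc] at h3
  have hne : Nat.card (Sylow 7 M) ≠ 1 := fun e => by
    have hle : (P : Subgroup M).Normal := by
      rw [← Subgroup.normalizer_eq_top_iff, ← Subgroup.index_eq_one]
      exact h2.symm.trans e
    rcases hle.eq_bot_or_eq_top with hb | ht
    · rw [hb, Subgroup.card_bot] at hP
      omega
    · rw [ht, Subgroup.card_top, hM] at hP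
      omega
  have hd : Nat.card (Sylow 7 M) ∣ 24 := ⟨c, by
    have : 7 * (Nat.card (Sylow 7 M) * c) = 7 * 24 := by linear_combination h3
    omega⟩
  have hle := Nat.le_of_dvd (by norm_num) hd
  have h8 : Nat.card (Sylow 7 M) = 8 := by
    obtain ⟨d, hd'⟩ := hd
    interval_cases hs : Nat.card (Sylow 7 M) <;> omega
  rw [h8] at h3
  rw [hc]
  omega

/-- The element-order group with trivial solvable radical structure is simple. -/
theorem eq_top_of_socle {X : Type*} [Group X] [Finite X] (hX : HOrd X) {M : Subgroup X}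
    [M.Normal] [IsSimpleGroup M] (hM : Nat.card M = 168)
    (hmin : ∀ N : Subgroup X, N.Normal → N ≠ ⊥ → M ≤ N) : M = ⊤ := by
  classical
  haveI : Fact (Nat.Prime 7) := ⟨by norm_num⟩
  obtain ⟨P⟩ : Nonempty (Sylow 7 M) := inferInstance
  have hN21 := card_normalizer_seven hM P
  -- the action of `X` on the Sylow 7-subgroups of `M`
  let φ : X →* Equiv.Perm (Sylow 7 M) :=
    (MulAction.toPermHom (MulAut M) (Sylow 7 M)).comp MulAut.conjNormal
  have hker : φ.ker = ⊥ := by
    by_contra hk
    have hle := hmin φ.ker (MonoidHom.normal_ker φ) hk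
    have hall : normalizer (P : Set M) = ⊤ := by
      rw [Subgroup.eq_top_iff']
      intro m
      rw [← Sylow.smul_eq_iff_mem_normalizer]
      have hfix : φ (m : X) P = P := by
        rw [MonoidHom.mem_ker.1 (hle m.2)]
        rfl
      refine Eq.trans ?_ hfix
      show m • P = (MulAut.conjNormal (H := M) (m : X)) • P
      rw [MulAut.conjNormal_val]
      rfl
    rw [hall, Subgroup.card_top, hM] at hN21
    omega
  have hS8 : Nat.card (Sylow 7 M) = 8 := by
    have h2 := P.card_eq_index_normalizer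
    have h3 := Subgroup.card_mul_index (normalizer (P : Set M))
    rw [← h2, hM, hN21] at h3
    omega
  have hdvd : Nat.card X ∣ Nat.factorial 8 := by
    have := Subgroup.card_dvd_of_injective φ ((MonoidHom.ker_eq_bot_iff φ).1 hker)
    rwa [Nat.card_perm, hS8] at this
  -- the normalizer in `X` of the Sylow 7-subgroup
  set P' : Subgroup X := (P : Subgroup M).map M.subtype with hP'
  have hPcard : Nat.card P' = 7 := by
    rw [hP', Subgroup.card_map_of_injective M.subtype_injective, P.card_eq_multiplicity, hM]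
    rw [factorization_seven, pow_one]
  set N := normalizer (P' : Set X) with hN
  have hfr : N ⊔ M = ⊤ := Sylow.normalizer_sup_eq_top P
  have hNM : Nat.card (M.subgroupOf N) = 21 := by
    rw [← hN21]
    refine Nat.card_congr ?_
    refine Equiv.ofBijective (fun x => ⟨⟨(x : N).1, x.2⟩, ?_⟩) ⟨fun a b e => ?_, fun m => ?_⟩
    · have hx := Subgroup.mem_normalizer_iff.1 (x : N).2
      refine (Subgroup.mem_normalizer_iff (H := (P : Subgroup M))).2 ?_
      intro h
      have hmem : ∀ a : M, a ∈ (P : Subgroup M) ↔ (a : X) ∈ P' := fun a => by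
        rw [hP']; exact (Subgroup.mem_map_iff_mem M.subtype_injective).symm
      rw [hmem, hmem]
      exact hx (h : X)
    · exact Subtype.ext (Subtype.ext (congrArg (fun z : normalizer (P : Set M) =>
        ((z : M) : X)) e))
    · obtain ⟨m, hm⟩ := m
      refine ⟨⟨⟨(m : X), ?_⟩, m.2⟩, rfl⟩
      refine Subgroup.mem_normalizer_iff.2 ?_
      intro z
      replace hm := (Subgroup.mem_normalizer_iff (H := (P : Subgroup M))).1 hm
      constructor
      · rintro ⟨w, hw, rfl⟩
        exact ⟨m * w * m⁻¹, (hm w).1 hw, by simp⟩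
      · rintro ⟨w, hw, e⟩
        have hzM : z ∈ M := by
          have : z = (m : X)⁻¹ * (w : X) * (m : X) := by
            have e' : (w : X) = (m : X) * z * (m : X)⁻¹ := e
            rw [e']
            group
          rw [this]
          exact M.mul_mem (M.mul_mem (M.inv_mem m.2) w.2) m.2
        refine ⟨⟨z, hzM⟩, (hm _).2 ?_, rfl⟩
        have : m * ⟨z, hzM⟩ * m⁻¹ = w := Subtype.ext e.symm
        rw [this]
        exact hw
  obtain ⟨y, hy⟩ : ∃ y : P', orderOf (y : X) = 7 := by
    obtain ⟨y, hy⟩ := exists_prime_orderOf_dvd_card' (G := P') 7 (by rw [hPcard])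
    exact ⟨y, (Subgroup.orderOf_coe y).trans hy⟩
  set C := (centralizer (P' : Set X)).subgroupOf N with hCdef
  haveI hCn : C.Normal := inferInstance
  have hC7 : IsPGroup 7 C := fun c => ⟨1, Subtype.ext (Subtype.ext (by
    simp only [SubmonoidClass.coe_pow, pow_one, OneMemClass.coe_one]
    exact hX.pow_eq_one_of_commute (by norm_num) (by norm_num) hy
      (Subgroup.mem_centralizer_iff.1 c.2 _ y.2)))⟩
  have hCcard : Nat.card C ∣ 7 := by
    obtain ⟨j, hj⟩ := IsPGroup.iff_card.1 hC7
    have h7 : 7 ^ j ∣ Nat.factorial 8 :=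
      hj ▸ (Subgroup.card_subgroup_dvd_card C).trans ((Subgroup.card_subgroup_dvd_card N).trans hdvd)
    rcases Nat.lt_or_ge j 2 with hlt | hge
    · interval_cases j <;> simp [hj]
    · exact absurd ((pow_dvd_pow 7 hge).trans h7) (by decide)
  -- the image in the automorphism group of order six
  haveI hcyc : IsCyclic P' := isCyclic_of_prime_card hPcard
  let ψ : N →* MulAut P' := Subgroup.normalizerMonoidHom P'
  have hψ : ψ.ker = C := Subgroup.normalizerMonoidHom_ker P'
  have hA : Nat.card (MulAut P') = 6 := by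
    rw [Nat.card_congr (IsCyclic.mulAutMulEquiv P').toEquiv, hPcard, Nat.card_eq_fintype_card,
      ZMod.card_units_eq_totient, Nat.totient_prime (by norm_num)]
  have hcomm : ∀ a b : MulAut P', a * b = b * a := fun a b =>
    (IsCyclic.mulAutMulEquiv P').injective (by rw [map_mul, map_mul, mul_comm])
  have hNdvd : Nat.card N ∣ 42 := by
    rw [← Subgroup.index_mul_card C, ← hψ, Subgroup.index_ker, show (42 : ℕ) = 6 * 7 by norm_num]
    exact mul_dvd_mul (hA ▸ Subgroup.card_subgroup_dvd_card _) (hψ ▸ hCcard)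
  -- no element of order two
  have hodd : ¬ 2 ∣ Nat.card N := fun h2 => by
    haveI : Fact (Nat.Prime 2) := ⟨Nat.prime_two⟩
    haveI : Fact (Nat.Prime 3) := ⟨Nat.prime_three⟩
    obtain ⟨s, hs⟩ := exists_prime_orderOf_dvd_card' (G := N) 2 h2
    obtain ⟨z, hz⟩ := exists_prime_orderOf_dvd_card' (G := N) 3
      ((show 3 ∣ 21 by norm_num).trans (hNM ▸ Subgroup.card_subgroup_dvd_card _))
    have horder : ∀ (w : N) (r : ℕ), r.Prime → r ≠ 7 → orderOf w = r → orderOf (ψ w) = r := by
      intro w r hr hr7 hw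
      rcases (Nat.dvd_prime hr).1 (hw ▸ orderOf_map_dvd ψ w) with e | e
      · exfalso
        have hwC : w ∈ C := hψ ▸ MonoidHom.mem_ker.2 (orderOf_eq_one_iff.1 e)
        have := (Subgroup.orderOf_mk w hwC) ▸ orderOf_dvd_natCard (⟨w, hwC⟩ : C)
        exact hr7 ((Nat.prime_dvd_prime_iff_eq hr (by norm_num)).1 (hw ▸ this.trans hCcard))
      · exact e
    have h6 : orderOf (ψ (s * z)) = 6 := by
      rw [map_mul, Commute.orderOf_mul_eq_mul_orderOf_of_coprime (hcomm _ _),
        horder s 2 Nat.prime_two (by norm_num) hs, horder z 3 Nat.prime_three (by norm_num) hz]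
      rw [horder s 2 Nat.prime_two (by norm_num) hs, horder z 3 Nat.prime_three (by norm_num) hz]
      norm_num
    have hdv : 6 ∣ orderOf ((s * z : N) : X) := by
      rw [Subgroup.orderOf_coe, ← h6]
      exact orderOf_map_dvd ψ _
    rcases hX ((s * z : N) : X) (fun e => by rw [e, orderOf_one] at hdv; omega) with ⟨k, hk⟩ | ⟨hp, -⟩
    · rw [hk] at hdv
      have := Nat.prime_three.dvd_of_dvd_pow (dvd_trans (by norm_num) hdv)
      omega
    · have h2' := (Nat.prime_dvd_prime_iff_eq Nat.prime_two hp).1 (dvd_trans (by norm_num) hdv)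
      omega
  have hN21' : Nat.card N = 21 := by
    have h1 : 21 ∣ Nat.card N := hNM ▸ Subgroup.card_subgroup_dvd_card _
    have h2 := Nat.le_of_dvd (by norm_num) hNdvd
    omega
  have hle : N ≤ M := Subgroup.subgroupOf_eq_top.1
    (Subgroup.eq_top_of_card_eq _ (by rw [hNM, hN21']))
  rw [← hfr, sup_eq_right.2 hle]

theorem final (hL : CITList.{u}) {G : Type u} [Group G] [Finite G] {F : Type*} [Field F]
    [Fintype F] (hF : Fintype.card F = 7) (h3 : 3 ≤ (Nat.card G).primeFactors.card)
    (hord : HOrd G) :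
    Nonempty (G ≃* Matrix.ProjectiveSpecialLinearGroup (Fin 2) F) := by
  classical
  have hns : ¬ Group.IsSolvable G := fun hs => by
    haveI := hs
    have := Cfsg.Agent.S1475.result (G := G)
      (fun g => (em (g = 1)).symm.imp (hord.isPrimePow g) id)
    omega
  let R := Cfsg.solvableRadical G
  haveI : R.Normal := Components.solvableRadical_normal
  have hRs : Group.IsSolvable R := Components.solvableRadical_isSolvable
  obtain ⟨⟨p, hp, hRp⟩, ⟨M, hMn, hMs, hMna, hmin⟩, h2p⟩ :=
    Cfsg.Agent.S3992.result hns hord.isPrimePow R hRs (fun N h1 h2 => le_sSup ⟨h1, h2⟩)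
  haveI := hMn
  haveI := hMs
  haveI := Fact.mk hp
  have hX : HOrd (G ⧸ R) := hord.of_surjective _ (QuotientGroup.mk'_surjective R)
  have hna : ∃ a b : M, a * b ≠ b * a := by
    by_contra hh
    push_neg at hh
    exact hMna ⟨⟨hh⟩⟩
  obtain ⟨F', _, _, hF', ⟨eM⟩⟩ := simple_case hL hna (hX.of_injective M.subtype M.subtype_injective)
  have hM168 : Nat.card M = 168 := by rw [Nat.card_congr eM.toEquiv, card_psl_seven hF']
  haveI : Fact (Nat.Prime 2) := ⟨Nat.prime_two⟩
  haveI : Fact (Nat.Prime 7) := ⟨by norm_num⟩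
  -- the radical is trivial
  have hR1 : R = ⊥ := by
    by_contra hR
    have hpR : p ∣ Nat.card R := by
      obtain ⟨j, hj⟩ := IsPGroup.iff_card.1 hRp
      rw [hj]
      refine dvd_pow_self p fun e => hR (Subgroup.eq_bot_of_card_eq R ?_)
      rw [hj, e, pow_zero]
    rcases hp.eq_two_or_odd' with rfl | hodd
    · obtain ⟨P⟩ : Nonempty (Sylow 7 M) := inferInstance
      set H := (normalizer (P : Set M)).map M.subtype with hH
      have hHcard : Nat.card H = 21 := by
        rw [hH, Subgroup.card_map_of_injective M.subtype_injective, card_normalizer_seven hM168]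
      set K := H.comap (QuotientGroup.mk' R) with hK
      have hRK : R ≤ K := fun r hr => by
        show (QuotientGroup.mk' R r) ∈ H
        rw [QuotientGroup.mk'_apply, (QuotientGroup.eq_one_iff r).2 hr]
        exact H.one_mem
      let f : K →* H := ((QuotientGroup.mk' R).comp K.subtype).codRestrict H fun k => k.2
      have hfsurj : Function.Surjective f := by
        rintro ⟨h, hh⟩
        obtain ⟨g, rfl⟩ := QuotientGroup.mk'_surjective R h
        exact ⟨⟨g, hh⟩, rfl⟩
      have hker : f.ker = R.subgroupOf K := by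
        ext k
        rw [MonoidHom.mem_ker, Subgroup.mem_subgroupOf, Subtype.ext_iff]
        exact QuotientGroup.eq_one_iff (k : G)
      have hKcard : Nat.card K = Nat.card R * 21 := by
        rw [← Subgroup.index_mul_card f.ker, Subgroup.index_ker,
          MonoidHom.range_eq_top.2 hfsurj, Subgroup.card_top, hHcard, hker,
          Nat.card_congr (Subgroup.subgroupOfEquivOfLe hRK).toEquiv, mul_comm]
      haveI hHs : Group.IsSolvable H :=
        Burnside.isSolvable_of_card_eq_prime_pow_mul (p := 3) (q := 7) (a := 1) (b := 1)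
          (by norm_num) (by norm_num) (by rw [hHcard]; norm_num)
      haveI : Group.IsSolvable (R.subgroupOf K) := Components.isSolvable_subgroupOf hRs
      have hKs : Group.IsSolvable K :=
        Group.isSolvable_of_ker_le_range (R.subgroupOf K).subtype f
          (by rw [hker, Subgroup.range_subtype])
      have h3K := h2p K hKs
      have hsub : ({2, 3, 7} : Finset ℕ) ⊆ (Nat.card K).primeFactors := by
        intro r hr
        rw [Nat.mem_primeFactors, hKcard]
        simp only [Finset.mem_insert, Finset.mem_singleton] at hr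
        refine ⟨?_, ?_, (Nat.mul_pos Nat.card_pos (by norm_num)).ne'⟩
        · rcases hr with rfl | rfl | rfl <;> norm_num
        · rcases hr with rfl | rfl | rfl
          · exact hpR.mul_right _
          · exact Dvd.dvd.mul_left (by norm_num) _
          · exact Dvd.dvd.mul_left (by norm_num) _
      have := Finset.card_le_card hsub
      rw [show ({2, 3, 7} : Finset ℕ).card = 3 from rfl] at this
      omega
    · -- involutions invert the radical
      have hcit := hord.isCIT
      have hoddR : Odd (Nat.card R) := by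
        obtain ⟨j, hj⟩ := IsPGroup.iff_card.1 hRp
        rw [hj]
        exact hodd.pow
      have hoddel : ∀ r ∈ R, Odd (orderOf r) := fun r hr => by
        have h' := orderOf_dvd_natCard (⟨r, hr⟩ : R)
        rw [Subgroup.orderOf_mk] at h'
        exact hoddR.of_dvd_nat h'
      have hinv : ∀ t : G, orderOf t = 2 → ∀ r ∈ R, t * r * t⁻¹ = r⁻¹ := fun t ht =>
        inv_of_fixedPointFree (SECount.invo_sq ht)
          (fun r hr => ‹R.Normal›.conj_mem r hr t)
          (fun r hr e => hcit.eq_one_of_commute_invo ht (hoddel r hr) e)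
      obtain ⟨r₀, hr₀, hr₀1⟩ := (Subgroup.bot_or_exists_ne_one R).resolve_left hR
      set C := Subgroup.centralizer (R : Set G) with hC
      haveI : C.Normal := inferInstance
      have hCodd : ¬ 2 ∣ Nat.card C := fun h2 => by
        obtain ⟨t, ht⟩ := exists_prime_orderOf_dvd_card' (G := C) 2 h2
        rw [← Subgroup.orderOf_coe] at ht
        exact hr₀1 (hcit.eq_one_of_commute_invo ht (hoddel r₀ hr₀)
          (Subgroup.mem_centralizer_iff.1 t.2 r₀ hr₀).symm)
      have hCimg : C.map (QuotientGroup.mk' R) = ⊥ := by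
        by_contra hne
        have hle := hmin _ (Subgroup.Normal.map inferInstance _ (QuotientGroup.mk'_surjective R)) hne
        have h168 : 168 ∣ Nat.card (C.map (QuotientGroup.mk' R)) :=
          hM168 ▸ Subgroup.card_dvd_of_le hle
        exact hCodd (((show 2 ∣ 168 by norm_num).trans h168).trans (C.card_map_dvd _))
      have hCR : ∀ c ∈ C, (QuotientGroup.mk c : G ⧸ R) = 1 := fun c hc => by
        have : QuotientGroup.mk' R c ∈ C.map (QuotientGroup.mk' R) := ⟨c, hc, rfl⟩
        rw [hCimg] at this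
        exact this
      have h2G : 2 ∣ Nat.card G := by
        have h1 : Nat.card M ∣ Nat.card (G ⧸ R) := Subgroup.card_subgroup_dvd_card M
        have h2 : Nat.card (G ⧸ R) ∣ Nat.card G := Subgroup.card_quotient_dvd_card R
        exact ((show 2 ∣ 168 by norm_num).trans (hM168 ▸ h1)).trans h2
      obtain ⟨t, ht⟩ := exists_prime_orderOf_dvd_card' (G := G) 2 h2G
      have hcentral : ∀ g : G, (QuotientGroup.mk (g * t * g⁻¹) : G ⧸ R) = QuotientGroup.mk t := by
        intro g
        have hs : orderOf (g * t * g⁻¹) = 2 := by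
          rw [show g * t * g⁻¹ = MulAut.conj g t from rfl, MulEquiv.orderOf_eq, ht]
        have hmem : (g * t * g⁻¹) * t ∈ C := by
          rw [hC, Subgroup.mem_centralizer_iff]
          intro r hr
          have e1 := hinv t ht r hr
          have e2 := hinv _ hs r⁻¹ (R.inv_mem hr)
          rw [inv_inv] at e2
          have e3 : (g * t * g⁻¹ * t) * r * (g * t * g⁻¹ * t)⁻¹ = r := by
            calc (g * t * g⁻¹ * t) * r * (g * t * g⁻¹ * t)⁻¹
                = (g * t * g⁻¹) * (t * r * t⁻¹) * (g * t * g⁻¹)⁻¹ := by group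
              _ = r := by rw [e1, e2]
          exact (mul_inv_eq_iff_eq_mul.1 e3).symm
        have h1 := hCR _ hmem
        rw [QuotientGroup.mk_mul] at h1
        rw [eq_inv_of_mul_eq_one_left h1]
        rw [inv_eq_iff_mul_eq_one, ← QuotientGroup.mk_mul, SECount.invo_sq ht, QuotientGroup.mk_one]
      set tb : G ⧸ R := QuotientGroup.mk t with htb
      have hcen : tb ∈ Subgroup.center (G ⧸ R) := by
        rw [Subgroup.mem_center_iff]
        intro gb
        obtain ⟨g, rfl⟩ := QuotientGroup.mk_surjective gb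
        have := hcentral g
        rw [QuotientGroup.mk_mul, QuotientGroup.mk_mul, QuotientGroup.mk_inv] at this
        exact mul_inv_eq_iff_eq_mul.1 this
      have hzn : (Subgroup.zpowers tb).Normal := ⟨fun n hn g => by
        have hz : n ∈ Subgroup.center (G ⧸ R) := Subgroup.zpowers_le.2 hcen hn
        rw [Subgroup.mem_center_iff.1 hz g, mul_inv_cancel_right]
        exact hn⟩
      have htb1 : tb ≠ 1 := fun e => by
        have := hoddel t ((QuotientGroup.eq_one_iff t).1 e)
        rw [ht] at this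
        exact absurd this (by decide)
      have hle := Subgroup.card_dvd_of_le (hmin _ hzn (by simpa using htb1))
      rw [hM168, Nat.card_zpowers] at hle
      have h2 : orderOf tb ∣ 2 := ht ▸ orderOf_map_dvd (QuotientGroup.mk' R) t
      have := Nat.le_of_dvd (by norm_num) (hle.trans h2)
      omega
  have hMtop := eq_top_of_socle hX hM168 hmin
  let f : F' ≃+* F := FiniteField.ringEquivOfCardEq (by
    rw [hF', hF])
  obtain ⟨e3⟩ := Cfsg.Agent.Lib.Perm.ProjCongr.nonempty_psl (n := Fin 2) f
  have e1 : G ≃* G ⧸ R :=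
    (QuotientGroup.quotientBot).symm.trans (QuotientGroup.quotientMulEquivOfEq hR1.symm)
  exact ⟨e1.trans (Subgroup.topEquiv.symm.trans ((MulEquiv.subgroupCongr hMtop.symm).trans
    (eM.trans e3)))⟩

end Cfsg.Agent.Lib.CIT.PrimeOrders
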