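import Cfsg.Prelude.Def_Solvable
import Mathlib
import Cfsg.Agent.Lib.CIT.Basic
import Cfsg.Agent.Lib.Core.PiCore
import Cfsg.Agent.Lib.MinimalNormal

/-!
CIT groups without normal 2-subgroups have trivially intersecting Sylow 2-subgroups, given this for
their simple normal subgroups.
-/

set_option autoImplicit false
set_option linter.style.haveILetI false

namespace Cfsg.Agent.Lib.CIT

open Cfsg.Agent.Lib.SECount
open scoped Pointwise

/-- The Sylow 2-subgroups intersect trivially and some nontrivial element of odd order normalises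
exactly two of them. -/
structure TIData (N : Type*) [Group N] : Prop where
  ti : ∀ P Q : Sylow 2 N, P ≠ Q → (P : Subgroup N) ⊓ (Q : Subgroup N) = ⊥
  pair : ∃ (U V : Sylow 2 N) (y : N), U ≠ V ∧ y ≠ 1 ∧ Odd (orderOf y) ∧
    ∀ W : Sylow 2 N, y • W = W ↔ W = U ∨ W = V

theorem twoGroup_invo {G : Type*} [Group G] [Finite G] {W : Subgroup G} (hW : IsPGroup 2 W)
    (hne : W ≠ ⊥) : ∃ w ∈ W, orderOf w = 2 := by
  haveI := Fact.mk Nat.prime_two
  obtain ⟨k, hk⟩ := hW.exists_card_eq
  have hk0 : k ≠ 0 := by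
    rintro rfl
    exact hne (W.eq_bot_of_card_eq (by simpa using hk))
  obtain ⟨w, hw⟩ := exists_prime_orderOf_dvd_card' (G := W) 2 (hk ▸ dvd_pow_self 2 hk0)
  exact ⟨w, w.2, (Subgroup.orderOf_coe w).trans hw⟩

/-- An involution normalising a nontrivial 2-subgroup centralises a nontrivial element of it. -/
theorem exists_fixed_twoGroup {G : Type*} [Group G] [Finite G] {W : Subgroup G} {s : G}
    (hs : s * s = 1) (hW : IsPGroup 2 W) (hne : W ≠ ⊥) (hn : ∀ x ∈ W, s * x * s⁻¹ ∈ W) :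
    ∃ w ∈ W, w ≠ 1 ∧ s * w = w * s := by
  by_contra hno
  push Not at hno
  have hinv := inv_of_fixedPointFree hs hn fun x hx hc => by_contra fun h => hno x hx h hc
  obtain ⟨w, hw, hw2⟩ := twoGroup_invo hW hne
  refine hno w hw (invo_ne_one hw2) ?_
  have h := hinv w hw
  rw [invo_inv hw2] at h
  exact mul_inv_eq_iff_eq_mul.1 h

/-- With a nontrivial normal subgroup of odd order, the Sylow 2-subgroups meet trivially. -/
theorem ti_of_oddNormal {X : Type*} [Group X] [Finite X] (hX : IsCIT X) {N : Subgroup X} [N.Normal]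
    (hN : Odd (Nat.card N)) (hne : N ≠ ⊥) {P Q : Sylow 2 X} (hPQ : P ≠ Q) :
    (P : Subgroup X) ⊓ (Q : Subgroup X) = ⊥ := by
  haveI := Fact.mk Nat.prime_two
  by_contra hI
  obtain ⟨t, ht, ht2⟩ := twoGroup_invo (P.isPGroup'.to_le inf_le_left) hI
  have huniq : ∀ S : Sylow 2 X, t ∈ (S : Subgroup X) →
      (S : Subgroup X) ≤ Subgroup.centralizer ({t} : Set X) := by
    intro S htS
    have hne' : ∀ a b : X, orderOf a = 2 → orderOf b = 2 → a * b = b * a → a = b :=
      fun a b ha hb hc => by_contra fun hab => hne (eq_bot_of_four hX hN ha hb hab hc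
        (fun x hx => ‹N.Normal›.conj_mem x hx a) (fun x hx => ‹N.Normal›.conj_mem x hx b))
    haveI : Nontrivial (S : Subgroup X) :=
      ⟨⟨⟨t, htS⟩, 1, fun e => invo_ne_one ht2 (congrArg Subtype.val e)⟩⟩
    have hZ : Nontrivial (Subgroup.center (S : Subgroup X)) := S.isPGroup'.center_nontrivial
    obtain ⟨z, hz, hz2⟩ := twoGroup_invo (G := (S : Subgroup X))
      (S.isPGroup'.to_subgroup (Subgroup.center (S : Subgroup X)))
      ((Subgroup.nontrivial_iff_ne_bot _).1 hZ)
    have hzc : ∀ a : (S : Subgroup X), (a : X) * z = z * a := fun a =>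
      congrArg Subtype.val (Subgroup.mem_center_iff.1 hz a)
    have htz : t = z := hne' t z ht2 ((Subgroup.orderOf_coe z).trans hz2) (hzc ⟨t, htS⟩)
    intro a ha
    exact Subgroup.mem_centralizer_singleton_iff.2 (htz ▸ hzc ⟨a, ha⟩)
  have hP := P.is_maximal' (hX t ht2) (huniq P (Subgroup.mem_inf.1 ht).1)
  have hQ := Q.is_maximal' (hX t ht2) (huniq Q (Subgroup.mem_inf.1 ht).2)
  exact hPQ (Sylow.ext (hP.symm.trans hQ))

theorem aut_smul_smul {N : Type*} [Group N] (σ : MulAut N) (n : N) (W : Sylow 2 N) :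
    σ • (n • W) = σ n • (σ • W) := by
  rw [Sylow.smul_def, Sylow.smul_def, smul_smul, smul_smul]
  congr 1
  ext z
  simp

/-- A normal subgroup with the TI data contains all Sylow 2-subgroups. -/
theorem sylow_le_of_tiData {X : Type*} [Group X] [Finite X] (hX : IsCIT X) {N : Subgroup X} [N.Normal]
    (hd : TIData N) (S : Sylow 2 X) : (S : Subgroup X) ≤ N := by
  haveI := Fact.mk Nat.prime_two
  obtain ⟨U, U', y, hUU, hy1, hyodd, hy⟩ := hd.pair
  set Us : Subgroup X := (U : Subgroup N).map N.subtype with hUs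
  have hUs2 : IsPGroup 2 Us := U.isPGroup'.map _
  obtain ⟨T, hT⟩ := hUs2.exists_le_sylow
  suffices hTN : (T : Subgroup X) ≤ N by
    obtain ⟨g, hg⟩ := MulAction.exists_smul_eq X T S
    intro s hs
    rw [← hg] at hs
    change s ∈ (MulAut.conj g • (T : Subgroup X)) at hs
    obtain ⟨t, ht, rfl⟩ := Subgroup.mem_smul_pointwise_iff_exists _ _ _ |>.1 hs
    exact ‹N.Normal›.conj_mem t (hTN ht) g
  by_contra hTN
  have hU_eq : ((T : Subgroup X).subgroupOf N) = (U : Subgroup N) :=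
    U.is_maximal' (T.isPGroup'.comap_subtype) fun u hu =>
      Subgroup.mem_subgroupOf.2 (hT (Subgroup.mem_map_of_mem N.subtype hu))
  have hTnorm : ∀ t ∈ (T : Subgroup X), ∀ x : N, x ∈ (U : Subgroup N) →
      MulAut.conjNormal t x ∈ (U : Subgroup N) := by
    intro t ht x hx
    rw [← hU_eq, Subgroup.mem_subgroupOf] at hx ⊢
    rw [MulAut.conjNormal_apply]
    exact mul_mem (mul_mem ht hx) (inv_mem ht)
  have hTmem : ∀ t : X, t ∈ (T : Subgroup X) → t ∈ N → t ∈ Us := fun t ht htN =>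
    ⟨⟨t, htN⟩, hU_eq ▸ (Subgroup.mem_subgroupOf.2 ht), rfl⟩
  obtain ⟨τ, hτT, hτN, hτ2⟩ : ∃ τ ∈ (T : Subgroup X), τ ∉ N ∧ τ * τ ∈ N := by
    obtain ⟨a, haT, haN⟩ := SetLike.not_le_iff_exists.1 hTN
    obtain ⟨k, hk⟩ := T.isPGroup' ⟨a, haT⟩
    have hak : a ^ 2 ^ k ∈ N := by
      rw [show a ^ 2 ^ k = 1 from congrArg Subtype.val hk]; exact one_mem N
    classical
    have hex : ∃ k, a ^ 2 ^ k ∈ N := ⟨k, hak⟩
    have hpos : 0 < Nat.find hex := Nat.pos_of_ne_zero fun h => by
      have := Nat.find_spec hex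
      rw [h, pow_zero, pow_one] at this
      exact haN this
    refine ⟨a ^ 2 ^ (Nat.find hex - 1), pow_mem haT _, Nat.find_min hex (by omega), ?_⟩
    rw [← pow_two, ← pow_mul, ← pow_succ, Nat.sub_add_cancel hpos]
    exact Nat.find_spec hex
  set σ : MulAut N := MulAut.conjNormal τ with hσ
  have hτU : ∀ x ∈ Us, τ * x * τ⁻¹ ∈ Us := by
    rintro _ ⟨x, hx, rfl⟩
    exact ⟨σ x, hTnorm τ hτT x hx, MulAut.conjNormal_apply τ x⟩
  have hyN : y ∈ Subgroup.normalizer ((U : Subgroup N) : Set N) :=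
    Sylow.smul_eq_iff_mem_normalizer.1 ((hy U).2 (Or.inl rfl))
  set L := Subgroup.normalizer (Us : Set X) with hL
  have hτL : τ ∈ L := Subgroup.mem_normalizer_fintype fun x hx => hτU x hx
  have hmL : ∀ m : N, m ∈ Subgroup.normalizer ((U : Subgroup N) : Set N) → (m : X) ∈ L := by
    intro m hm
    refine Subgroup.mem_normalizer_fintype ?_
    rintro _ ⟨x, hx, rfl⟩
    exact ⟨m * x * m⁻¹, (Subgroup.mem_normalizer_iff.1 hm x).1 hx, rfl⟩
  set R : Subgroup L := Us.subgroupOf L with hR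
  haveI hRn : R.Normal := Subgroup.normal_in_normalizer
  have hR2 : IsPGroup 2 R := hUs2.comap_subtype
  have hLq : IsCIT (L ⧸ R) := (hX.subgroup L).quotient hR2
  -- the image of the normaliser of `U` in `N`
  set M : Subgroup (L ⧸ R) := (N.subgroupOf L).map (QuotientGroup.mk' R) with hM
  haveI : M.Normal := (inferInstance : (N.subgroupOf L).Normal).map _ (QuotientGroup.mk'_surjective R)
  have hModd : Odd (Nat.card M) := by
    rw [Nat.odd_iff, ← Nat.two_dvd_ne_zero]
    intro h2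
    obtain ⟨⟨m, hm⟩, hm2⟩ := exists_prime_orderOf_dvd_card' (G := M) 2 h2
    rw [Subgroup.orderOf_mk] at hm2
    obtain ⟨l, hl, rfl⟩ := hm
    set m : N := ⟨(l : X), hl⟩ with hmdef
    have hmn : m ∈ Subgroup.normalizer ((U : Subgroup N) : Set N) := by
      refine Subgroup.mem_normalizer_fintype fun x hx => ?_
      have := (Subgroup.mem_normalizer_iff.1 l.2 (x : X)).1 (Subgroup.mem_map_of_mem N.subtype hx)
      obtain ⟨x', hx', he⟩ := this
      have e' : x' = m * x * m⁻¹ := Subtype.ext he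
      exact e' ▸ hx'
    have hm2U : m * m ∈ (U : Subgroup N) := by
      have : l * l ∈ R := (QuotientGroup.eq_one_iff _).1 (by
        rw [QuotientGroup.mk_mul]; exact invo_sq hm2)
      obtain ⟨x, hx, he⟩ := Subgroup.mem_subgroupOf.1 this
      have e' : x = m * m := Subtype.ext he
      exact e' ▸ hx
    have hmU : m ∈ (U : Subgroup N) := by
      have hzp : IsPGroup 2 (Subgroup.zpowers m) := by
        obtain ⟨j, hj⟩ := U.isPGroup' ⟨_, hm2U⟩
        have hj' : m ^ 2 ^ (j + 1) = 1 := by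
          rw [pow_succ, mul_comm, pow_mul, pow_two]; exact congrArg Subtype.val hj
        obtain ⟨i, -, hi⟩ := (Nat.dvd_prime_pow Nat.prime_two).1 (orderOf_dvd_of_pow_eq_one hj')
        exact IsPGroup.of_card (n := i) (by rw [Nat.card_zpowers, hi])
      have hsup := IsPGroup.to_sup_of_normal_left' U.isPGroup' hzp
        (Subgroup.zpowers_le.2 hmn)
      exact U.is_maximal' hsup le_sup_left ▸ Subgroup.mem_sup_right (Subgroup.mem_zpowers m)
    refine invo_ne_one hm2 ((QuotientGroup.eq_one_iff l).2 ?_)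
    exact Subgroup.mem_subgroupOf.2 ⟨m, hmU, rfl⟩
  set τ' : L ⧸ R := QuotientGroup.mk ⟨τ, hτL⟩ with hτ'
  have hτR : τ * τ ∈ Us := hTmem _ (mul_mem hτT hτT) hτ2
  have hτ'2 : orderOf τ' = 2 := by
    refine invo_of_sq (fun e => hτN ?_) ?_
    · obtain ⟨x, -, hx⟩ := Subgroup.mem_subgroupOf.1 ((QuotientGroup.eq_one_iff _).1 e)
      rw [show τ = (x : X) from hx.symm]
      exact x.2
    · rw [hτ', ← QuotientGroup.mk_mul, QuotientGroup.eq_one_iff]
      exact Subgroup.mem_subgroupOf.2 hτR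
  set yl : L := ⟨(y : X), hmL y hyN⟩ with hyl
  have hinv := inv_of_fixedPointFree (invo_sq hτ'2) (N := M)
    (fun x hx => ‹M.Normal›.conj_mem x hx τ')
    (fun x hx hc => hLq.eq_one_of_commute_invo hτ'2
      (Odd.of_dvd_nat hModd (Subgroup.orderOf_mk x hx ▸ orderOf_dvd_natCard (⟨x, hx⟩ : M))) hc)
    (QuotientGroup.mk yl) (Subgroup.mem_map_of_mem _ (Subgroup.mem_subgroupOf.2 y.2))
  have hinvU : τ * (y : X) * τ⁻¹ * (y : X) ∈ Us := by
    have : (⟨τ, hτL⟩ : L) * yl * (⟨τ, hτL⟩ : L)⁻¹ * yl ∈ R := by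
      rw [← QuotientGroup.eq_one_iff, QuotientGroup.mk_mul, QuotientGroup.mk_mul,
        QuotientGroup.mk_mul, QuotientGroup.mk_inv]
      exact mul_eq_one_iff_eq_inv.2 hinv
    exact Subgroup.mem_subgroupOf.1 this
  have hyodd' : Odd (orderOf (y : X)) := by rwa [Subgroup.orderOf_coe]
  have hy1' : (y : X) ≠ 1 := fun e => hy1 (Subtype.ext e)
  obtain ⟨c, hc, hs2, hsy⟩ := exists_invo_lift (R := Us) hyodd' hy1' hτU
    (fun x hx => by
      have := (Subgroup.mem_normalizer_iff.1 (inv_mem (hmL y hyN)) x).1 hx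
      rwa [inv_inv] at this)
    hτR hinvU
    (fun x hx h => hX.eq_one_of_mem hUs2 hyodd' hy1' hx h)
  set s := c * τ with hs
  have hsT : s ∈ (T : Subgroup X) := mul_mem (hT hc) hτT
  set ρ : MulAut N := MulAut.conjNormal s with hρ
  have hρy : ρ y = y⁻¹ := Subtype.ext (by rw [MulAut.conjNormal_apply, Subgroup.coe_inv]; exact hsy)
  have hρU : ρ • U = U := by
    refine Sylow.ext (le_antisymm ?_ ?_)
    · intro x hx
      obtain ⟨u, hu, rfl⟩ := (Subgroup.mem_smul_pointwise_iff_exists _ _ _).1 hx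
      exact hTnorm s hsT u hu
    · intro x hx
      refine (Subgroup.mem_smul_pointwise_iff_exists _ _ _).2 ⟨ρ⁻¹ x, ?_, MulAut.apply_inv_self _ ρ x⟩
      have : ρ⁻¹ = MulAut.conjNormal s⁻¹ := by rw [hρ, map_inv]
      rw [this]
      exact hTnorm s⁻¹ (inv_mem hsT) x hx
  have hρU' : ρ • U' = U' := by
    have h1 : y⁻¹ • (ρ • U') = ρ • U' := by
      rw [← hρy, ← aut_smul_smul, (hy U').2 (Or.inr rfl)]
    have h2 : y • (ρ • U') = ρ • U' := by
      conv_lhs => rw [← h1]
      rw [smul_inv_smul]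
    rcases (hy _).1 h2 with e | e
    · exact absurd (smul_left_cancel ρ (e.trans hρU.symm)).symm hUU
    · exact e
  have hbot : ∀ W : Sylow 2 N, (W : Subgroup N) ≠ ⊥ := by
    intro W hW
    haveI : Subsingleton (Sylow 2 N) := ⟨fun A B => Sylow.ext (by
      have hA : Nat.card (A : Subgroup N) = 1 := by
        rw [Nat.card_congr (A.equiv W).toEquiv, hW, Subgroup.card_bot]
      have hB : Nat.card (B : Subgroup N) = 1 := by
        rw [Nat.card_congr (B.equiv W).toEquiv, hW, Subgroup.card_bot]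
      rw [Subgroup.eq_bot_of_card_eq _ hA, Subgroup.eq_bot_of_card_eq _ hB])⟩
    exact hUU (Subsingleton.elim _ _)
  have hfix : ∀ W : Sylow 2 N, ρ • W = W → ∃ w : N, w ∈ (W : Subgroup N) ∧ w ≠ 1 ∧
      s * (w : X) = (w : X) * s := by
    intro W hW
    obtain ⟨_, ⟨w, hw, rfl⟩, hw1, hsw⟩ := exists_fixed_twoGroup (W := (W : Subgroup N).map N.subtype)
      (invo_sq hs2) (W.isPGroup'.map _)
      (fun e => hbot W ((Subgroup.map_eq_bot_iff_of_injective _ N.subtype_injective).1 e))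
      (by
        rintro _ ⟨x, hx, rfl⟩
        refine ⟨ρ x, ?_, MulAut.conjNormal_apply s x⟩
        have : ρ x ∈ ((ρ • W : Sylow 2 N) : Subgroup N) :=
          (Subgroup.mem_smul_pointwise_iff_exists _ _ _).2 ⟨x, hx, rfl⟩
        rwa [hW] at this)
    exact ⟨w, hw, fun e => hw1 (by rw [e, map_one]), hsw⟩
  obtain ⟨u, hu, hu1, hsu⟩ := hfix U hρU
  obtain ⟨v, hv, hv1, hsv⟩ := hfix U' hρU'
  have hC : IsPGroup 2 ↥((Subgroup.centralizer ({s} : Set X)).subgroupOf N) :=
    (hX s hs2).comap_subtype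
  obtain ⟨W, hW⟩ := hC.exists_le_sylow
  have hmemW : ∀ w : N, s * (w : X) = (w : X) * s → w ∈ (W : Subgroup N) := fun w hw =>
    hW (Subgroup.mem_subgroupOf.2 (Subgroup.mem_centralizer_singleton_iff.2 hw.symm))
  have e1 : W = U := by_contra fun e => hu1 (Subgroup.mem_bot.1
    (hd.ti W U e ▸ Subgroup.mem_inf.2 ⟨hmemW u hsu, hu⟩))
  have e2 : W = U' := by_contra fun e => hv1 (Subgroup.mem_bot.1
    (hd.ti W U' e ▸ Subgroup.mem_inf.2 ⟨hmemW v hsv, hv⟩))
  exact hUU (e1.symm.trans e2)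

/-- A minimal normal subgroup is simple and nonabelian. -/
theorem isSimple_minimal {X : Type*} [Group X] [Finite X] (hX : IsCIT X)
    (hcore : Cfsg.pCore 2 X = ⊥) (hodd : ∀ N : Subgroup X, N.Normal → Odd (Nat.card N) → N = ⊥)
    {N : Subgroup X} [N.Normal] (hne : N ≠ ⊥)
    (hmin : ∀ K : Subgroup X, K.Normal → K ≤ N → K = ⊥ ∨ K = N) :
    IsSimpleGroup N ∧ ¬ IsMulCommutative N := by
  haveI := Fact.mk Nat.prime_two
  haveI : Nontrivial N := (Subgroup.nontrivial_iff_ne_bot N).2 hne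
  -- normal subgroups of `N` are subnormal in `X`
  have hsub : ∀ K : Subgroup N, K.Normal → IsPGroup 2 K → K = ⊥ := by
    intro K hK hK2
    have h1 : (Cfsg.pCore 2 N).map N.subtype ≤ Cfsg.pCore 2 X := by
      rw [PiCore.pCore_eq_piCore, PiCore.pCore_eq_piCore, PiCore.map_subtype_piCore_of_normal]
      exact inf_le_left
    have h2 : K.map N.subtype ≤ (Cfsg.pCore 2 N).map N.subtype :=
      Subgroup.map_mono (le_sSup ⟨hK, hK2⟩)
    exact (Subgroup.map_eq_bot_iff_of_injective _ N.subtype_injective).1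
      (le_bot_iff.1 ((h2.trans h1).trans hcore.le))
  have hsubOdd : ∀ K : Subgroup N, K.Normal → Odd (Nat.card K) → K = ⊥ := by
    intro K hK hKo
    have h1 : (Cfsg.piCore {2}ᶜ N).map N.subtype ≤ Cfsg.piCore {2}ᶜ X := by
      rw [PiCore.map_subtype_piCore_of_normal]
      exact inf_le_left
    have hXbot : Cfsg.piCore {2}ᶜ X = ⊥ := by
      haveI := PiCore.piCore_characteristic (π := ({2}ᶜ : Set ℕ)) (G := X)
      refine hodd _ inferInstance ?_
      rw [Nat.odd_iff, ← Nat.two_dvd_ne_zero]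
      exact fun h => PiCore.isPiNumber_piCore (π := {2}ᶜ) (G := X) 2 Nat.prime_two h rfl
    have hKpi : Hall.IsPiNumber {2}ᶜ (Nat.card K) := fun q hq hqd (e : q = 2) => by
      subst e
      exact (Nat.not_even_iff_odd.2 hKo) (even_iff_two_dvd.2 hqd)
    haveI := hK
    exact (Subgroup.map_eq_bot_iff_of_injective _ N.subtype_injective).1
      (le_bot_iff.1 (((Subgroup.map_mono (PiCore.le_piCore hKpi)).trans h1).trans hXbot.le))
  have hna : ¬ IsMulCommutative N := by
    intro hab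
    obtain ⟨p, hp, hpd⟩ := Nat.exists_prime_and_dvd (Finite.one_lt_card (α := N)).ne'
    haveI := Fact.mk hp
    obtain ⟨x, hx⟩ := exists_prime_orderOf_dvd_card' (G := N) p hpd
    have hcm : ∀ a b : N, a * b = b * a := fun a b => hab.is_comm.comm a b
    have hxn : (Subgroup.zpowers x).Normal := ⟨fun z hz g => by rwa [hcm g z, mul_inv_cancel_right]⟩
    have hbot : Subgroup.zpowers x ≠ ⊥ := fun e => by
      have : x = 1 := Subgroup.zpowers_eq_bot.1 e
      rw [this, orderOf_one] at hx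
      exact hp.one_lt.ne hx
    rcases hp.eq_two_or_odd' with rfl | hpo
    · exact hbot (hsub _ hxn (IsPGroup.of_card (n := 1) (by rw [Nat.card_zpowers, hx, pow_one])))
    · exact hbot (hsubOdd _ hxn (by rwa [Nat.card_zpowers, hx]))
  refine ⟨⟨fun K hK => ?_⟩, hna⟩
  by_contra hK'
  push Not at hK'
  haveI := hK
  obtain ⟨A, hAn, hA0, hAK, hAmin⟩ := MinimalNormal.exists_minimal_normal_le hK hK'.1
  -- a conjugate different from `A`
  obtain ⟨g, hg⟩ : ∃ g : X, (MulAut.conjNormal g : MulAut N) • A ≠ A := by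
    by_contra hall
    push Not at hall
    have hAX : (A.map N.subtype).Normal := ⟨fun z hz g => by
      obtain ⟨a, ha, rfl⟩ := hz
      refine ⟨MulAut.conjNormal g a, ?_, MulAut.conjNormal_apply g a⟩
      rw [← hall g]
      exact (Subgroup.mem_smul_pointwise_iff_exists _ _ _).2 ⟨a, ha, rfl⟩⟩
    rcases hmin _ hAX (Subgroup.map_subtype_le A) with e | e
    · exact hA0 ((Subgroup.map_eq_bot_iff_of_injective _ N.subtype_injective).1 e)
    · refine hK'.2 (top_le_iff.1 fun x _ => hAK ?_)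
      obtain ⟨a, ha, hax⟩ := (show (x : X) ∈ A.map N.subtype by rw [e]; exact x.2)
      rwa [← Subtype.ext hax]
  set B : Subgroup N := (MulAut.conjNormal g : MulAut N) • A with hB
  have hBn : B.Normal := by
    rw [hB, Subgroup.pointwise_smul_def]
    exact hAn.map _ (MulDistribMulAction.toMulEquiv N (MulAut.conjNormal g : MulAut N)).surjective
  haveI := hAn
  haveI := hBn
  have hAB : A ⊓ B = ⊥ := by
    rcases hAmin (A ⊓ B) inferInstance inf_le_left with e | e
    · exact e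
    · exfalso
      refine hg (Subgroup.eq_of_le_of_card_ge (inf_eq_left.1 e) (le_of_eq ?_)).symm
      exact (Nat.card_congr (Subgroup.equivSMul (MulAut.conjNormal g : MulAut N) A).toEquiv).symm
  have hcomm : ∀ a ∈ A, ∀ b ∈ B, a * b = b * a := fun a ha b hb =>
    Subgroup.commute_of_normal_of_disjoint A B hAn hBn (disjoint_iff.2 hAB) a b ha hb
  have hB0 : B ≠ ⊥ := fun e => hA0 (by
    have := congrArg (fun H => (MulAut.conjNormal g : MulAut N)⁻¹ • H) e
    simpa [hB] using this)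
  obtain ⟨a, ha, ha2⟩ : ∃ a ∈ A, orderOf a = 2 := by
    have : 2 ∣ Nat.card A := by
      by_contra h
      exact hA0 (hsubOdd A hAn (Nat.odd_iff.2 (Nat.two_dvd_ne_zero.1 h)))
    obtain ⟨a, ha⟩ := exists_prime_orderOf_dvd_card' (G := A) 2 this
    exact ⟨a, a.2, (Subgroup.orderOf_coe a).trans ha⟩
  obtain ⟨q, hq, hq2, hqd⟩ : ∃ q, q.Prime ∧ q ≠ 2 ∧ q ∣ Nat.card B := by
    by_contra h
    push Not at h
    refine hB0 (hsub B hBn (IsPGroup.of_card (n := (Nat.card B).primeFactorsList.length) ?_))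
    exact Nat.eq_prime_pow_of_unique_prime_dvd Nat.card_pos.ne' fun {r} hr hrd =>
      by_contra fun hr2 => h r hr hr2 hrd
  haveI := Fact.mk hq
  obtain ⟨b, hb⟩ := exists_prime_orderOf_dvd_card' (G := B) q hqd
  have hb' : orderOf (b : N) = q := (Subgroup.orderOf_coe b).trans hb
  have h1 := (hX.subgroup N).eq_one_of_commute_invo (y := (b : N)) ha2
    (hb' ▸ hq.odd_of_ne_two hq2) (hcomm a ha b b.2)
  rw [h1, orderOf_one] at hb'
  exact hq.one_lt.ne hb'

/-- A CIT group without normal 2-subgroup has trivially intersecting Sylow 2-subgroups, given the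
TI data for its simple normal subgroups. -/
theorem ti_of_coreless {X : Type*} [Group X] [Finite X] (hX : IsCIT X)
    (hcore : Cfsg.pCore 2 X = ⊥)
    (hd : ∀ (N : Subgroup X) [N.Normal], IsSimpleGroup N → ¬ IsMulCommutative N → TIData N)
    {P Q : Sylow 2 X} (hPQ : P ≠ Q) : (P : Subgroup X) ⊓ (Q : Subgroup X) = ⊥ := by
  haveI := Fact.mk Nat.prime_two
  by_cases hodd : ∀ N : Subgroup X, N.Normal → Odd (Nat.card N) → N = ⊥
  · rcases subsingleton_or_nontrivial X with h | h
    · exact absurd (Sylow.ext (Subsingleton.elim _ _)) hPQ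
    obtain ⟨N, hN, hne, -, hmin⟩ :=
      MinimalNormal.exists_minimal_normal_le (inferInstance : (⊤ : Subgroup X).Normal) top_ne_bot
    haveI := hN
    obtain ⟨hs, hna⟩ := isSimple_minimal hX hcore hodd hne hmin
    have hdN := hd N hs hna
    have hP := sylow_le_of_tiData hX hdN P
    have hQ := sylow_le_of_tiData hX hdN Q
    have hne' : P.subtype hP ≠ Q.subtype hQ := fun e => hPQ (Sylow.subtype_injective e)
    have h := hdN.ti _ _ hne'
    rw [Subgroup.eq_bot_iff_forall]
    intro x hx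
    obtain ⟨hxP, hxQ⟩ := Subgroup.mem_inf.1 hx
    have : (⟨x, hP hxP⟩ : N) ∈ ((P.subtype hP : Sylow 2 N) : Subgroup N) ⊓
        ((Q.subtype hQ : Sylow 2 N) : Subgroup N) :=
      Subgroup.mem_inf.2 ⟨Subgroup.mem_subgroupOf.2 hxP, Subgroup.mem_subgroupOf.2 hxQ⟩
    rw [h, Subgroup.mem_bot] at this
    exact congrArg Subtype.val this
  · push Not at hodd
    obtain ⟨N, hN, hNo, hne⟩ := hodd
    exact ti_of_oddNormal hX hNo hne hPQ

end Cfsg.Agent.Lib.CIT
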