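import Cfsg.Prelude.Def_Involutions
import Mathlib
import Cfsg.Agent.Lib.CIT.Basic
import Cfsg.Agent.Lib.CIT.Flag
import Cfsg.Agent.Lib.CIT.QuotientTI

/-!
A simple CIT group acting fixed point freely (on its elements of odd order) on a 2-group: connected
four-groups give a strongly embedded subgroup.
-/

set_option autoImplicit false
set_option linter.style.haveILetI false

namespace Cfsg.Agent.Lib.CIT

open Cfsg.Agent.Lib.SECount
open scoped Pointwise

section Action

variable {N V : Type*} [Group N] [CommGroup V] (φ : N →* MulAut V)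

/-- The fixed subgroup of an element. -/
def fixSub (n : N) : Subgroup V := (φ n).toMonoidHom.eqLocus (MonoidHom.id V)

theorem mem_fixSub {n : N} {v : V} : v ∈ fixSub φ n ↔ φ n v = v := Iff.rfl

theorem fixSub_conj {g t : N} {v : V} : v ∈ fixSub φ (g * t * g⁻¹) ↔ φ g⁻¹ v ∈ fixSub φ t := by
  simp only [mem_fixSub]
  rw [map_mul, map_mul, MulAut.mul_apply, MulAut.mul_apply]
  constructor
  · intro h
    calc φ t (φ g⁻¹ v) = φ g⁻¹ (φ g (φ t (φ g⁻¹ v))) := by
          rw [map_inv φ g, MulAut.inv_apply_self]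
      _ = φ g⁻¹ v := by rw [h]
  · intro h
    rw [h, map_inv φ g, MulAut.apply_inv_self]

theorem mul_apply' (a b : N) (v : V) : φ (a * b) v = φ a (φ b v) := by
  rw [map_mul, MulAut.mul_apply]

/-- A step: fixed points of `a` are carried to themselves by `y` and fixed by its conjugate. -/
theorem apply_mem_fixSub {a b y : N} (ha : a * a = 1) (hb : b * b = 1) (hy : y * y * y = 1)
    (hfy : ∀ v : V, φ y v = v → v = 1) (hab : y * a * y⁻¹ = b) (hbc : y * b * y⁻¹ = a * b)
    (hc : a * b = b * a) {v : V} (hv : v ∈ fixSub φ a) :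
    φ y v ∈ fixSub φ a ∧ φ y v ∈ fixSub φ b := by
  rw [mem_fixSub] at hv
  have hsum : ∀ u : V, u * φ y u * φ (y * y) u = 1 := fun u => hfy _ (by
    rw [map_mul, map_mul, ← mul_apply', ← mul_apply', ← mul_assoc, hy, map_one, MulAut.one_apply]
    ac_rfl)
  have hya : y * a = b * y := mul_inv_eq_iff_eq_mul.1 hab
  have hyb : y * b = a * b * y := mul_inv_eq_iff_eq_mul.1 hbc
  have h1 : a * y * b = b * y := by
    rw [mul_assoc, hyb, ← mul_assoc, ← mul_assoc, ha, one_mul]
  have h2 : a * b * (y * y) * b = b * (y * y) := by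
    have : y * y * b = a * (y * y) := by
      calc y * y * b = y * (y * b) := by rw [mul_assoc]
        _ = y * a * b * y := by rw [hyb]; group
        _ = b * (y * b) * y := by rw [hya]; group
        _ = b * (b * a) * y * y := by rw [hyb, hc]; group
        _ = a * (y * y) := by rw [← mul_assoc b b a, hb, one_mul, mul_assoc]
    rw [mul_assoc (a * b), this, ← mul_assoc, hc, mul_assoc b a a, ha, mul_one]
  have h3 : a * b * (y * y) = y * y * a := by
    calc a * b * (y * y) = (a * b * y) * y := by group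
      _ = y * b * y := by rw [hyb]
      _ = y * (y * a) := by rw [hya, mul_assoc]
      _ = y * y * a := by rw [mul_assoc]
  have hid : v * φ (a * y) v * φ (a * b * (y * y)) v = 1 := by
    have hbb : φ b (φ b v) = v := by rw [← mul_apply', hb, map_one, MulAut.one_apply]
    have e : φ b (φ b v * φ y (φ b v) * φ (y * y) (φ b v)) = 1 := by rw [hsum, map_one]
    rw [map_mul, map_mul, hbb] at e
    rw [← mul_apply' φ b y, ← mul_apply' φ b (y * y), ← h1, ← h2] at e
    rw [← mul_apply' φ (a * y * b), ← mul_apply' φ (a * b * (y * y) * b)] at e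
    rwa [mul_assoc (a * y) b b, mul_assoc (a * b * (y * y)) b b, hb, mul_one, mul_one] at e
  rw [h3, mul_apply' φ (y * y) a, hv, mul_apply'] at hid
  have h4 : φ a (φ y v) = φ y v := mul_left_cancel (mul_right_cancel (hid.trans (hsum v).symm))
  refine ⟨h4, ?_⟩
  rw [mem_fixSub, ← mul_apply', ← hya, mul_apply', hv]

variable [Finite V]

theorem fixSub_le {a b y : N} (ha : a * a = 1) (hb : b * b = 1) (hy : y * y * y = 1)
    (hfy : ∀ v : V, φ y v = v → v = 1) (hab : y * a * y⁻¹ = b) (hbc : y * b * y⁻¹ = a * b)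
    (hc : a * b = b * a) : fixSub φ a ≤ fixSub φ b := by
  intro w hw
  let f : fixSub φ a → fixSub φ a := fun v => ⟨φ y v, (apply_mem_fixSub φ ha hb hy hfy hab hbc hc v.2).1⟩
  have hinj : Function.Injective f := fun u v e =>
    Subtype.ext ((φ y).injective (congrArg Subtype.val e))
  obtain ⟨v, hv⟩ := (Finite.injective_iff_surjective.1 hinj) ⟨w, hw⟩
  rw [show w = φ y v from (congrArg Subtype.val hv).symm]
  exact (apply_mem_fixSub φ ha hb hy hfy hab hbc hc v.2).2

/-- Two involutions permuted with their product by an element of order three have the same fixed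
points. -/
theorem fixSub_eq {a b y : N} (ha : a * a = 1) (hb : b * b = 1) (hy : y * y * y = 1)
    (hfy : ∀ v : V, φ y v = v → v = 1) (hab : y * a * y⁻¹ = b) (hbc : y * b * y⁻¹ = a * b)
    (hc : a * b = b * a) : fixSub φ a = fixSub φ b := by
  refine le_antisymm (fixSub_le φ ha hb hy hfy hab hbc hc) ?_
  have hcc : a * b * (a * b) = 1 := by
    rw [mul_assoc, ← mul_assoc b a b, ← hc, mul_assoc a b b, hb, mul_one, ha]
  have hca : y * (a * b) * y⁻¹ = a := by
    calc y * (a * b) * y⁻¹ = (y * a * y⁻¹) * (y * b * y⁻¹) := by group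
      _ = a := by rw [hab, hbc, hc, ← mul_assoc, hb, one_mul]
  refine le_trans (fixSub_le φ hb hcc hy hfy hbc ?_ ?_) (fixSub_le φ hcc ha hy hfy hca ?_ ?_)
  · rw [hca, hc, ← mul_assoc, hb, one_mul]
  · rw [← mul_assoc, ← hc]
  · rw [hab, hc, mul_assoc, ha, mul_one]
  · rw [hc, mul_assoc, ha, mul_one, ← hc, ← mul_assoc, ha, one_mul]

variable [Finite N] [IsSimpleGroup N]

/-- If all involutions of each Sylow 2-subgroup have the same fixed points, there is a strongly
embedded subgroup. -/
theorem exists_stronglyEmbedded (hna : ¬ IsMulCommutative N) (hV : IsPGroup 2 V) [Nontrivial V]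
    (hfpf : ∀ n : N, Odd (orderOf n) → ∀ v : V, φ n v = v → n = 1 ∨ v = 1)
    (hconst : ∀ S : Sylow 2 N, ∀ s ∈ (S : Subgroup N), ∀ t ∈ (S : Subgroup N), orderOf s = 2 →
      orderOf t = 2 → fixSub φ s = fixSub φ t)
    {t₀ : N} (ht₀ : orderOf t₀ = 2) : ∃ M : Subgroup N, Cfsg.IsStronglyEmbedded M := by
  haveI := Fact.mk Nat.prime_two
  set U₀ := fixSub φ t₀ with hU₀
  let H : Subgroup N :=
    { carrier := {g | ∀ v, v ∈ U₀ ↔ φ g v ∈ U₀}
      one_mem' := fun v => by rw [map_one, MulAut.one_apply]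
      mul_mem' := fun {a b} ha hb v => by rw [mul_apply']; exact (hb v).trans (ha _)
      inv_mem' := fun {a} ha v => by
        rw [ha (φ a⁻¹ v), ← mul_apply', mul_inv_cancel, map_one, MulAut.one_apply] }
  have hfix_eq : ∀ g : N, fixSub φ (g * t₀ * g⁻¹) = U₀ → g ∈ H := by
    intro g hg v
    have e : φ g v ∈ fixSub φ (g * t₀ * g⁻¹) ↔ v ∈ U₀ := by
      rw [fixSub_conj, ← mul_apply', inv_mul_cancel, map_one, MulAut.one_apply]
    rw [hg] at e
    exact e.symm
  have ht₀z : IsPGroup 2 (Subgroup.zpowers t₀) :=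
    IsPGroup.of_card (n := 1) (by rw [Nat.card_zpowers, ht₀, pow_one])
  obtain ⟨S, hS⟩ := ht₀z.exists_le_sylow
  have ht₀S : t₀ ∈ (S : Subgroup N) := hS (Subgroup.mem_zpowers t₀)
  have hSH : (S : Subgroup N) ≤ H := fun g hg => hfix_eq g
    (hconst S _ (mul_mem (mul_mem hg ht₀S) (inv_mem hg)) _ ht₀S
      ((orderOf_conj_eq g t₀).trans ht₀) ht₀)
  -- involutions of `H`
  have hHinv : ∀ s ∈ H, orderOf s = 2 → fixSub φ s = U₀ := by
    intro s hs hs2
    have hsz : IsPGroup 2 (Subgroup.zpowers (⟨s, hs⟩ : H)) :=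
      IsPGroup.of_card (n := 1) (by rw [Nat.card_zpowers, Subgroup.orderOf_mk, hs2, pow_one])
    obtain ⟨W, hW⟩ := hsz.exists_le_sylow
    obtain ⟨h, hh⟩ := MulAction.exists_smul_eq H W (S.subtype hSH)
    have hmem : h * ⟨s, hs⟩ * h⁻¹ ∈ ((S.subtype hSH : Sylow 2 H) : Subgroup H) := by
      rw [← hh]
      exact (Subgroup.mem_smul_pointwise_iff_exists _ _ _).2
        ⟨_, hW (Subgroup.mem_zpowers _), rfl⟩
    have hS' : (h : N) * s * (h : N)⁻¹ ∈ (S : Subgroup N) := Subgroup.mem_subgroupOf.1 hmem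
    have e := hconst S _ hS' _ ht₀S ((orderOf_conj_eq (h : N) s).trans hs2) ht₀
    ext v
    have e' : φ (h : N) v ∈ fixSub φ ((h : N) * s * (h : N)⁻¹) ↔ v ∈ fixSub φ s := by
      rw [fixSub_conj, ← mul_apply', inv_mul_cancel, map_one, MulAut.one_apply]
    rw [e] at e'
    exact e'.symm.trans (h.2 v).symm
  refine ⟨H, ?_, even_iff_two_dvd.2 ?_, fun g hg => ?_⟩
  · intro htop
    -- all involutions would share their fixed points
    obtain ⟨v, hv, hv1⟩ : ∃ v ∈ U₀, v ≠ 1 := by
      by_cases h : ∀ w : V, φ t₀ w = w⁻¹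
      · obtain ⟨k, hk⟩ := hV.exists_card_eq
        have hk0 : k ≠ 0 := fun e => by
          subst e
          exact (Finite.one_lt_card (α := V)).ne' (hk.trans (pow_zero 2))
        obtain ⟨v, hv⟩ := exists_prime_orderOf_dvd_card' (G := V) 2 (hk ▸ dvd_pow_self 2 hk0)
        exact ⟨v, by rw [hU₀, mem_fixSub, h, invo_inv hv], invo_ne_one hv⟩
      · push Not at h
        obtain ⟨w, hw⟩ := h
        refine ⟨w * φ t₀ w, ?_, fun e => hw (eq_inv_of_mul_eq_one_right e)⟩
        rw [hU₀, mem_fixSub, map_mul, ← mul_apply', invo_sq ht₀, map_one, MulAut.one_apply, mul_comm]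
    let K : Subgroup N :=
      { carrier := {n | φ n v = v}
        one_mem' := by simp
        mul_mem' := fun {a b} ha hb => by
          show φ (a * b) v = v
          rw [mul_apply', show φ b v = v from hb, show φ a v = v from ha]
        inv_mem' := fun {a} ha => by
          show φ a⁻¹ v = v
          nth_rw 1 [show v = φ a v from (show φ a v = v from ha).symm]
          rw [← mul_apply', inv_mul_cancel, map_one, MulAut.one_apply] }
    have hKinv : Subgroup.normalClosure ({t₀} : Set N) ≤ K := by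
      refine (Subgroup.closure_le K).2 fun x hx => ?_
      obtain ⟨z, hz, hzx⟩ := Group.mem_conjugatesOfSet_iff.1 hx
      rw [Set.mem_singleton_iff.1 hz] at hzx
      obtain ⟨c, rfl⟩ := isConj_iff.1 hzx
      show φ (c * t₀ * c⁻¹) v = v
      rw [← mem_fixSub, hHinv _ (htop ▸ Subgroup.mem_top _) ((orderOf_conj_eq c t₀).trans ht₀)]
      exact hv
    have hnc : Subgroup.normalClosure ({t₀} : Set N) = ⊤ :=
      (IsSimpleGroup.eq_bot_or_eq_top_of_normal _ Subgroup.normalClosure_normal).resolve_left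
        fun e => invo_ne_one ht₀ (Subgroup.mem_bot.1 (e ▸ Subgroup.subset_normalClosure rfl))
    obtain ⟨q, hq, hq2, hqd⟩ : ∃ q, q.Prime ∧ q ≠ 2 ∧ q ∣ Nat.card N := by
      by_contra hno
      push Not at hno
      have hp : IsPGroup 2 N := IsPGroup.of_card (n := (Nat.card N).primeFactorsList.length)
        (Nat.eq_prime_pow_of_unique_prime_dvd Nat.card_pos.ne' fun {r} hr hrd =>
          by_contra fun hr2 => hno r hr hr2 hrd)
      haveI : Nontrivial N := ⟨⟨t₀, 1, invo_ne_one ht₀⟩⟩
      haveI := hp.center_nontrivial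
      have := (IsSimpleGroup.eq_bot_or_eq_top_of_normal (Subgroup.center N) inferInstance).resolve_left
        ((Subgroup.nontrivial_iff_ne_bot _).1 inferInstance)
      exact hna ⟨⟨fun a b => (Subgroup.mem_center_iff.1 (this ▸ Subgroup.mem_top a) b).symm⟩⟩
    haveI := Fact.mk hq
    obtain ⟨n, hn⟩ := exists_prime_orderOf_dvd_card' (G := N) q hqd
    rcases hfpf n (hn ▸ hq.odd_of_ne_two hq2) v (hKinv (hnc ▸ Subgroup.mem_top n)) with e | e
    · rw [e, orderOf_one] at hn
      exact hq.one_lt.ne hn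
    · exact hv1 e
  · have := orderOf_dvd_natCard (⟨t₀, hSH ht₀S⟩ : H)
    rwa [Subgroup.orderOf_mk, ht₀] at this
  · rw [Nat.odd_iff, ← Nat.two_dvd_ne_zero]
    intro h2
    obtain ⟨⟨s, hs⟩, hs2⟩ := exists_prime_orderOf_dvd_card' (G := _) 2 h2
    rw [Subgroup.orderOf_mk] at hs2
    obtain ⟨hsH, s', hs', hse⟩ := hs
    simp only [MulEquiv.coe_toMonoidHom, MulAut.conj_apply] at hse
    subst hse
    rw [orderOf_conj_eq] at hs2
    apply hg
    intro v
    have h1 := hHinv _ hsH ((orderOf_conj_eq g s').trans hs2)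
    have h2 := hHinv s' hs' hs2
    have e : φ g v ∈ fixSub φ (g * s' * g⁻¹) ↔ v ∈ fixSub φ s' := by
      rw [fixSub_conj, ← mul_apply', inv_mul_cancel, map_one, MulAut.one_apply]
    rw [h1, h2] at e
    exact e.symm

end Action

end Cfsg.Agent.Lib.CIT
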