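import Mathlib
import Cfsg.Prelude.Def_Sz
import Cfsg.Agent.Lib.CIT.Basic
import Cfsg.Agent.Lib.PSLSpectrum.Spectrum
import Cfsg.Agent.Lib.Perm.ProjCongr
import Cfsg.Agent.Lib.LinGroup.Order
import Cfsg.Agent.Lib.Burnside.Paqb
import Cfsg.Agent.Lib.SuzukiSolv.Totals
import Cfsg.Agent.Lib.SuzukiSp4.Iso
import Cfsg.Agent.S0252
import Cfsg.Agent.S0253
import Cfsg.Agent.S0254

/-!
Simple groups with all element orders prime powers, given the list of simple CIT groups with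
the Suzuki groups up to isomorphism.
-/

set_option autoImplicit false

namespace Cfsg.Agent.Lib.CIT.SimpleEPPO

universe u

/-- The classification of simple CIT groups, with the Suzuki groups up to isomorphism. -/
def CITListIso : Prop :=
  ∀ (G : Type u) [Group G] [Finite G] [IsSimpleGroup G],
    (∃ a b : G, a * b ≠ b * a) →
    (∀ t : G, orderOf t = 2 → IsPGroup 2 (Subgroup.centralizer ({t} : Set G))) →
    (∃ (F : Type) (_ : Field F) (_ : Fintype F),
        (Fintype.card F = 9 ∨ (∃ n : ℕ, Fintype.card F = 2 ^ n) ∨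
          ((Fintype.card F).Prime ∧ ∃ k : ℕ, Fintype.card F = 2 ^ k + 1 ∨ Fintype.card F + 1 = 2 ^ k)) ∧
        Nonempty (G ≃* Matrix.ProjectiveSpecialLinearGroup (Fin 2) F)) ∨
    (∃ (F : Type) (_ : Field F) (_ : Fintype F), Fintype.card F = 4 ∧
        Nonempty (G ≃* Matrix.ProjectiveSpecialLinearGroup (Fin 3) F)) ∨
    Cfsg.Lie.IsoSuzuki G

/-! ### Arithmetic -/

theorem three_dvd_two_pow_odd (j : ℕ) : 3 ∣ 2 ^ (2 * j + 1) + 1 := by
  induction j with
  | zero => norm_num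
  | succ j ih =>
    rw [show 2 * (j + 1) + 1 = 2 + (2 * j + 1) by ring, pow_add]
    omega

theorem three_dvd_two_pow_even (j : ℕ) : 3 ∣ 2 ^ (2 * j) - 1 := by
  induction j with
  | zero => norm_num
  | succ j ih =>
    rw [show 2 * (j + 1) = 2 + 2 * j by ring, pow_add]
    have : 1 ≤ 2 ^ (2 * j) := Nat.one_le_two_pow
    omega

/-- A prime power divisible by `3` is a power of `3`. -/
theorem eq_three_pow {n : ℕ} (hn : IsPrimePow n) (h : 3 ∣ n) : ∃ a, n = 3 ^ a := by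
  obtain ⟨p, k, hp, -, rfl⟩ := (isPrimePow_nat_iff n).1 hn
  exact ⟨k, by rw [(Nat.prime_dvd_prime_iff_eq Nat.prime_three hp).1
    (Nat.prime_three.dvd_of_dvd_pow h)]⟩

/-- The powers of `3` just above a power of `2`. -/
theorem two_pow_add_one {n a : ℕ} (h : 2 ^ n + 1 = 3 ^ a) : n = 1 ∨ n = 3 := by
  have hn0 : n ≠ 0 := by
    rintro rfl
    rcases a with _ | a
    · simp at h
    · rw [pow_succ] at h; omega
  rcases Nat.lt_or_ge n 3 with hn | hn
  · interval_cases n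
    · omega
    · exact Or.inl rfl
    · exfalso
      rcases a with _ | a
      · simp at h
      · rw [pow_succ] at h; omega
  · -- modulo 8: a is even
    obtain ⟨b, rfl | rfl⟩ : ∃ b, a = 2 * b ∨ a = 2 * b + 1 := ⟨a / 2, by omega⟩
    · have h1 : (3 ^ b - 1) * (3 ^ b + 1) = 2 ^ n := by
        have h1 : 1 ≤ 3 ^ b := Nat.one_le_pow _ _ (by norm_num)
        rw [pow_mul'] at h
        have h2 : (3 ^ b) ^ 2 - 1 ^ 2 = (3 ^ b + 1) * (3 ^ b - 1) := Nat.sq_sub_sq _ _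
        rw [one_pow, ← h] at h2
        rw [mul_comm, ← h2]
        exact Nat.add_sub_cancel (2 ^ n) 1
      obtain ⟨i, -, hi⟩ := (Nat.dvd_prime_pow Nat.prime_two).1 (Dvd.intro _ h1)
      obtain ⟨j, -, hj⟩ := (Nat.dvd_prime_pow Nat.prime_two).1 (Dvd.intro_left _ h1)
      have h1' : 1 ≤ 3 ^ b := Nat.one_le_pow _ _ (by norm_num)
      have hodd : 3 ^ b % 2 = 1 := by
        rw [Nat.pow_mod]
        norm_num
      have hne : 3 ^ b - 1 ≠ 0 := fun e0 => by
        rw [e0, zero_mul] at h1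
        exact absurd h1.symm (pow_ne_zero _ two_ne_zero)
      have hb : 3 ^ b = 3 := by
        rcases Nat.lt_or_ge i 2 with hi2 | hi2
        · interval_cases i <;> omega
        · rcases Nat.lt_or_ge j 2 with hj2 | hj2
          · interval_cases j <;> omega
          · obtain ⟨c, hc⟩ := Nat.pow_dvd_pow 2 hi2
            obtain ⟨d, hd⟩ := Nat.pow_dvd_pow 2 hj2
            omega
      refine Or.inr (Nat.pow_right_injective le_rfl (?_ : 2 ^ n = 2 ^ 3))
      rw [← h1, hb]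
      norm_num
    · exfalso
      have h8 : 8 ∣ 2 ^ n := (pow_dvd_pow 2 hn)
      have h3 : 3 ^ (2 * b + 1) % 8 = 3 := by
        rw [pow_succ, pow_mul, Nat.mul_mod, Nat.pow_mod]
        norm_num
      omega

/-- The powers of `3` just below a power of `4`. -/
theorem two_pow_sub_one {j a : ℕ} (h : 2 ^ (2 * j) - 1 = 3 ^ a) : j = 1 := by
  have h1 : 1 ≤ 2 ^ j := Nat.one_le_two_pow
  have h2 : (2 ^ j + 1) * (2 ^ j - 1) = 3 ^ a := by
    rw [← h, ← Nat.sq_sub_sq, one_pow, ← pow_mul, mul_comm]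
  obtain ⟨i, -, hi⟩ := (Nat.dvd_prime_pow Nat.prime_three).1 (Dvd.intro _ h2)
  obtain ⟨k, -, hk⟩ := (Nat.dvd_prime_pow Nat.prime_three).1 (Dvd.intro_left _ h2)
  rcases j with _ | j
  · simp at h
    exact absurd h.symm (pow_ne_zero _ (by norm_num))
  rcases k with _ | k
  · rw [pow_zero] at hk
    have : 2 ^ (j + 1) = 2 ^ 1 := by omega
    exact Nat.pow_right_injective le_rfl this
  · rcases i with _ | i
    · simp at hi
    · rw [pow_succ] at hi hk
      omega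

/-- The powers of `5` among `q ± r + 1`. -/
theorem five_pow_eq {m a : ℕ} (hm : 1 ≤ m)
    (h : 2 ^ (2 * m + 1) + 2 ^ (m + 1) + 1 = 5 ^ a ∨ 2 ^ (2 * m + 1) - 2 ^ (m + 1) + 1 = 5 ^ a) :
    m ≤ 2 := by
  by_contra! hm3
  have hle : 2 ^ (m + 1) ≤ 2 ^ (2 * m + 1) := Nat.pow_le_pow_right (by norm_num) (by omega)
  have hd : 2 ^ (m + 1) ∣ 2 ^ (2 * m + 1) := pow_dvd_pow 2 (by omega)
  have hlt : 5 ^ a < 2 ^ (2 * m + 2) := by
    rw [pow_succ 2 (2 * m + 1)]
    have : 2 ^ (m + 1) + 1 < 2 ^ (2 * m + 1) := by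
      have := Nat.pow_lt_pow_right (a := 2) (by norm_num) (show m + 2 < 2 * m + 1 by omega)
      rw [pow_succ] at this
      have : 2 ≤ 2 ^ (m + 1) := by
        rw [pow_succ]
        have : 1 ≤ 2 ^ m := Nat.one_le_two_pow
        omega
      omega
    omega
  have hdv : ((5 : ZMod (2 ^ (m + 1))) ^ a) = 1 := by
    have h5 : ((5 ^ a : ℕ) : ZMod (2 ^ (m + 1))) = 1 := by
      have hz : ∀ k, 2 ^ (m + 1) ∣ k → ((k + 1 : ℕ) : ZMod (2 ^ (m + 1))) = 1 := fun k hk => by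
        rw [Nat.cast_add, (ZMod.natCast_eq_zero_iff _ _).2 hk, zero_add, Nat.cast_one]
      rcases h with e | e <;> rw [← e]
      · exact hz _ (Nat.dvd_add hd dvd_rfl)
      · exact hz _ (Nat.dvd_sub hd dvd_rfl)
    simpa using h5
  obtain ⟨k, rfl⟩ : ∃ k, m = k + 3 := ⟨m - 3, by omega⟩
  have hord : orderOf (5 : ZMod (2 ^ (k + 3 + 1))) = 2 ^ (k + 2) := ZMod.orderOf_five (k + 2)
  have ha0 : a ≠ 0 := by
    rintro rfl
    rcases h with e | e <;> simp at e
    have := Nat.pow_lt_pow_right (a := 2) (by norm_num) (show k + 3 + 1 < 2 * (k + 3) + 1 by omega)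
    omega
  have hale : 2 ^ (k + 2) ≤ a := by
    rw [← hord]
    exact Nat.le_of_dvd (by omega) (orderOf_dvd_of_pow_eq_one hdv)
  have h1 : 5 ^ (2 ^ (k + 2)) ≤ 5 ^ a := Nat.pow_le_pow_right (by norm_num) hale
  have h2 : 2 ^ (2 * (k + 3) + 2) ≤ 5 ^ (2 ^ (k + 2)) := by
    calc 2 ^ (2 * (k + 3) + 2) ≤ 2 ^ (2 * 2 ^ (k + 2)) := by
          refine Nat.pow_le_pow_right (by norm_num) ?_
          have : k < 2 ^ k := Nat.lt_two_pow_self
          rw [pow_succ, pow_succ]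
          omega
      _ = 4 ^ (2 ^ (k + 2)) := by rw [pow_mul]; norm_num
      _ ≤ 5 ^ (2 ^ (k + 2)) := Nat.pow_le_pow_left (by norm_num) _
  omega

/-! ### The members of the list -/

section

variable {G : Type*} [Group G] (h : ∀ g : G, g ≠ 1 → IsPrimePow (orderOf g))
include h

theorem psl_card {F : Type} [Field F] [Fintype F]
    (e : G ≃* Matrix.ProjectiveSpecialLinearGroup (Fin 2) F) (h4 : 4 ≤ Fintype.card F)
    (hF : Fintype.card F = 9 ∨ (∃ n : ℕ, Fintype.card F = 2 ^ n) ∨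
      ((Fintype.card F).Prime ∧ ∃ k : ℕ, Fintype.card F = 2 ^ k + 1 ∨ Fintype.card F + 1 = 2 ^ k)) :
    Fintype.card F ∈ ({4, 5, 7, 8, 9, 17} : Finset ℕ) := by
  have hpp : ∀ {n : ℕ}, (∃ x : Matrix.ProjectiveSpecialLinearGroup (Fin 2) F, orderOf x = n) →
      3 ∣ n → ∃ a, n = 3 ^ a := by
    rintro n ⟨x, rfl⟩ h3
    refine eq_three_pow ?_ h3
    have hx : x ≠ 1 := fun e => by rw [e, orderOf_one] at h3; omega
    have := h (e.symm x) (fun h1 => hx (e.symm.injective (h1.trans (map_one e.symm).symm)))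
    rwa [MulEquiv.orderOf_eq] at this
  have hm := PSLSpectrum.exists_orderOf_psl_minus (F := F) h4
  have hp := PSLSpectrum.exists_orderOf_psl_plus (F := F)
  simp only [Finset.mem_insert, Finset.mem_singleton]
  rcases hF with h9 | ⟨n, hn⟩ | ⟨hprime, k, hk | hk⟩
  · omega
  · rw [hn] at hm hp h4 ⊢
    have hn0 : n ≠ 0 := by rintro rfl; simp at h4
    have hg : Nat.gcd 2 (2 ^ n - 1) = 1 := by
      obtain ⟨n, rfl⟩ := Nat.exists_eq_succ_of_ne_zero hn0
      rw [Nat.gcd_rec, pow_succ]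
      have : 1 ≤ 2 ^ n := Nat.one_le_two_pow
      rw [show (2 ^ n * 2 - 1) % 2 = 1 by omega]
      rfl
    rw [hg, Nat.div_one] at hm hp
    obtain ⟨j, rfl | rfl⟩ : ∃ j, n = 2 * j ∨ n = 2 * j + 1 := ⟨n / 2, by omega⟩
    · obtain ⟨a, ha⟩ := hpp hm (three_dvd_two_pow_even j)
      rw [two_pow_sub_one ha]
      norm_num
    · obtain ⟨a, ha⟩ := hpp hp (three_dvd_two_pow_odd j)
      rcases two_pow_add_one ha with e | e <;> rw [e] at h4 ⊢ <;> simp_all
  · rw [hk] at hp hprime h4 ⊢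
    rcases k with _ | k
    · norm_num at h4
    have hg : Nat.gcd 2 (2 ^ (k + 1) + 1 - 1) = 2 := by
      rw [Nat.add_sub_cancel]
      exact Nat.gcd_eq_left (dvd_pow_self 2 (by omega))
    rw [hg, show (2 ^ (k + 1) + 1 + 1) / 2 = 2 ^ k + 1 by rw [pow_succ]; omega] at hp
    obtain ⟨j, rfl | rfl⟩ : ∃ j, k = 2 * j ∨ k = 2 * j + 1 := ⟨k / 2, by omega⟩
    · exfalso
      have := (Nat.prime_dvd_prime_iff_eq Nat.prime_three hprime).1 (three_dvd_two_pow_odd j)
      omega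
    · obtain ⟨a, ha⟩ := hpp hp (three_dvd_two_pow_odd j)
      rcases two_pow_add_one ha with e | e <;> rw [e] <;> norm_num
  · have hq : Fintype.card F = 2 ^ k - 1 := by omega
    rw [hq] at hm hprime h4 ⊢
    rcases k with _ | k
    · norm_num at h4
    have hk1 : 1 ≤ 2 ^ k := Nat.one_le_two_pow
    have hk0 : k ≠ 0 := by rintro rfl; norm_num at h4
    have hg : Nat.gcd 2 (2 ^ (k + 1) - 1 - 1) = 2 := by
      refine Nat.gcd_eq_left ?_
      rw [pow_succ]
      omega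
    rw [hg, show (2 ^ (k + 1) - 1 - 1) / 2 = 2 ^ k - 1 by rw [pow_succ]; omega] at hm
    obtain ⟨j, rfl | rfl⟩ : ∃ j, k = 2 * j ∨ k = 2 * j + 1 := ⟨k / 2, by omega⟩
    · obtain ⟨a, ha⟩ := hpp hm (three_dvd_two_pow_even j)
      rw [two_pow_sub_one ha]
      norm_num
    · exfalso
      have h3 := three_dvd_two_pow_even (j + 1)
      rw [show 2 * (j + 1) = 2 * j + 1 + 1 by ring] at h3
      have := (Nat.prime_dvd_prime_iff_eq Nat.prime_three hprime).1 h3
      omega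

open Cfsg.Agent.Lib.Suzuki in
theorem suzuki_param {F : Type} [Field F] [Fintype F] {m : ℕ} (hm : 1 ≤ m)
    (hF : Fintype.card F = 2 ^ (2 * m + 1)) (e : G ≃* Cfsg.Lie.Sz F (2 ^ (m + 1))) : m ≤ 2 := by
  have hH : Hyp F m := ⟨hm, hF⟩
  let e' := (SuzukiSp4.szEquiv hH).trans e.symm
  have key : ∀ n, (n = 2 ^ (2 * m + 1) + 2 ^ (m + 1) + 1 ∨ n = 2 ^ (2 * m + 1) - 2 ^ (m + 1) + 1) →
      5 ∣ n → ∃ a, n = 5 ^ a := by
    intro n hn h5
    obtain ⟨U, hU, hUn⟩ := SuzukiSolv.exists_member_card hH n (Or.inr hn)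
    haveI := SuzukiSylow.finite_Sz hH
    haveI := SuzukiSolv.cyc_isCyclic hH hU
    obtain ⟨y, hy⟩ := IsCyclic.exists_generator (α := U)
    have hyn : orderOf (y : Cfsg.Sz F m) = n := by
      rw [Subgroup.orderOf_coe, orderOf_eq_card_of_forall_mem_zpowers hy, hUn]
    have hy1 : e' (y : Cfsg.Sz F m) ≠ 1 := fun h1 => by
      have := (MulEquiv.orderOf_eq e' (y : Cfsg.Sz F m))
      rw [h1, orderOf_one, hyn] at this
      omega
    have hpp := h _ hy1
    rw [MulEquiv.orderOf_eq, hyn] at hpp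
    obtain ⟨p, k, hp, -, rfl⟩ := (isPrimePow_nat_iff n).1 hpp
    exact ⟨k, by rw [(Nat.prime_dvd_prime_iff_eq (by norm_num) hp).1
      ((by norm_num : Nat.Prime 5).dvd_of_dvd_pow h5)]⟩
  have hle : 2 ^ (m + 1) ≤ 2 ^ (2 * m + 1) := Nat.pow_le_pow_right (by norm_num) (by omega)
  have h5 : 5 ∣ 2 ^ (2 * m + 1) + 2 ^ (m + 1) + 1 ∨ 5 ∣ 2 ^ (2 * m + 1) - 2 ^ (m + 1) + 1 := by
    refine (Nat.Prime.dvd_mul (by norm_num : Nat.Prime 5)).1 ?_
    have hprod : (2 ^ (2 * m + 1) + 2 ^ (m + 1) + 1) * (2 ^ (2 * m + 1) - 2 ^ (m + 1) + 1) =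
        4 * 16 ^ m + 1 := by
      have e1 : 2 ^ (2 * m + 1) = 2 * (2 ^ m) ^ 2 := by rw [← pow_mul, pow_succ, mul_comm m]; ring
      have e2 : 2 ^ (m + 1) = 2 * 2 ^ m := by ring
      have e3 : 16 ^ m = (2 ^ m) ^ 4 := by
        rw [← pow_mul, show m * 4 = 4 * m by ring, pow_mul]; norm_num
      rw [e1, e2] at hle ⊢
      rw [e3]
      zify [hle]
      ring
    rw [hprod, Nat.dvd_iff_mod_eq_zero, Nat.add_mod, Nat.mul_mod, Nat.pow_mod]
    norm_num
  rcases h5 with h5 | h5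
  · obtain ⟨a, ha⟩ := key _ (Or.inl rfl) h5
    exact five_pow_eq hm (Or.inl ha)
  · obtain ⟨a, ha⟩ := key _ (Or.inr rfl) h5
    exact five_pow_eq hm (Or.inr ha)

end

theorem isCIT_of_eppo {G : Type*} [Group G] [Finite G] (h : ∀ g : G, g ≠ 1 → IsPrimePow (orderOf g))
    (t : G) (ht : orderOf t = 2) : IsPGroup 2 (Subgroup.centralizer ({t} : Set G)) := by
  haveI : Fact (Nat.Prime 2) := ⟨Nat.prime_two⟩
  intro c
  rcases eq_or_ne c 1 with rfl | hc1
  · exact ⟨0, by simp⟩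
  have hc : (c : G) ≠ 1 := fun e => hc1 (Subtype.ext e)
  obtain ⟨p, k, hp, hk, hpk⟩ := (isPrimePow_nat_iff _).1 (h c hc)
  rcases eq_or_ne p 2 with rfl | hp2
  · refine ⟨k, Subtype.ext ?_⟩
    rw [SubmonoidClass.coe_pow, hpk, pow_orderOf_eq_one]
    rfl
  exfalso
  have hcop : Nat.Coprime (orderOf t) (orderOf (c : G)) := by
    rw [ht, ← hpk]
    exact Nat.Coprime.pow_right _ ((Nat.coprime_primes Nat.prime_two hp).2 hp2.symm)
  have hcomm : Commute t (c : G) := (Subgroup.mem_centralizer_singleton_iff.1 c.2).symm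
  have ho := hcomm.orderOf_mul_eq_mul_orderOf_of_coprime hcop
  rw [ht, ← hpk] at ho
  have htc : t * c ≠ 1 := fun e => by
    rw [e, orderOf_one] at ho
    omega
  obtain ⟨r, l, hr, -, hrl⟩ := (isPrimePow_nat_iff _).1 (h _ htc)
  rw [ho] at hrl
  have h2 := (Nat.prime_dvd_prime_iff_eq Nat.prime_two hr).1
    (Nat.prime_two.dvd_of_dvd_pow (hrl ▸ dvd_mul_right 2 (p ^ k)))
  have h3 := (Nat.prime_dvd_prime_iff_eq hp hr).1
    (hp.dvd_of_dvd_pow (hrl ▸ Dvd.dvd.mul_left (dvd_pow_self p (by omega)) 2))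
  omega

theorem final (hL : CITListIso.{u}) {G : Type u} [Group G] [Finite G] [IsSimpleGroup G]
    (hG : ¬ IsMulCommutative G) (h : ∀ g : G, g ≠ 1 → IsPrimePow (orderOf g)) :
    Nonempty (G ≃* alternatingGroup (Fin 6)) ∨
    (∃ (F : Type) (_ : Field F) (_ : Fintype F), Fintype.card F ∈ ({4, 7, 8, 17} : Finset ℕ) ∧
      Nonempty (G ≃* Matrix.ProjectiveSpecialLinearGroup (Fin 2) F)) ∨
    (∃ (F : Type) (_ : Field F) (_ : Fintype F), Fintype.card F = 4 ∧
      Nonempty (G ≃* Matrix.ProjectiveSpecialLinearGroup (Fin 3) F)) ∨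
    (∃ (F : Type) (_ : Field F) (_ : Fintype F),
      (Fintype.card F = 8 ∧ Nonempty (G ≃* ↥(Cfsg.Lie.Sz F 4))) ∨ (Fintype.card F = 32 ∧ Nonempty (G ≃* ↥(Cfsg.Lie.Sz F 8)))) := by
  have hab : ∃ a b : G, a * b ≠ b * a := by
    by_contra! hh
    exact hG ⟨⟨hh⟩⟩
  rcases hL G hab (isCIT_of_eppo h) with ⟨F, fF, fnF, hF, ⟨e⟩⟩ | h34 | ⟨F, fF, fnF, m, hm, hF', ⟨e⟩⟩
  · have h4 : 4 ≤ Fintype.card F := by
      by_contra! hlt
      have h1 := Fintype.one_lt_card (α := F)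
      haveI : Group.IsSolvable (Matrix.ProjectiveSpecialLinearGroup (Fin 2) F) := by
        obtain h2 | h3 : Fintype.card F = 2 ∨ Fintype.card F = 3 := by omega
        · have := PSLSpectrum.card_psl_even (F := F) (by rw [h2]; exact even_two)
          rw [h2] at this
          exact Burnside.isSolvable_of_card_eq_prime_pow_mul (p := 2) (q := 3) (a := 1) (b := 1)
            (by norm_num) (by norm_num) (by rw [this]; norm_num)
        · have := PSLSpectrum.card_psl_odd (F := F) (by rw [h3]; decide)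
          rw [h3] at this
          exact Burnside.isSolvable_of_card_eq_prime_pow_mul (p := 2) (q := 3) (a := 2) (b := 1)
            (by norm_num) (by norm_num) (by show Nat.card (SL2.PSLtwo F) = _; omega)
      haveI : Group.IsSolvable G :=
        Group.isSolvable_of_isSolvable_injective (f := e.toMonoidHom) e.injective
      obtain ⟨a, b, hab⟩ := hab
      exact hab (IsSimpleGroup.comm_iff_isSolvable.2 inferInstance a b)
    have hc := psl_card h e h4 hF
    simp only [Finset.mem_insert, Finset.mem_singleton] at hc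
    rcases hc with hc | hc | hc | hc | hc | hc
    · exact Or.inr (Or.inl ⟨F, inferInstance, inferInstance, by simp [hc], ⟨e⟩⟩)
    · -- five elements: the same group as for four elements
      let K := GaloisField 2 2
      let _ : Fintype K := Fintype.ofFinite _
      have hK : Fintype.card K = 4 := by
        rw [← Nat.card_eq_fintype_card, GaloisField.card 2 2 (by omega)]; rfl
      obtain ⟨e5⟩ := Cfsg.Agent.S0253.result hc
      obtain ⟨e4⟩ := Cfsg.Agent.S0252.result hK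
      exact Or.inr (Or.inl ⟨K, inferInstance, inferInstance, by simp [hK],
        ⟨e.trans (e5.trans e4.symm)⟩⟩)
    · exact Or.inr (Or.inl ⟨F, inferInstance, inferInstance, by simp [hc], ⟨e⟩⟩)
    · exact Or.inr (Or.inl ⟨F, inferInstance, inferInstance, by simp [hc], ⟨e⟩⟩)
    · obtain ⟨e9⟩ := Cfsg.Agent.S0254.result hc
      exact Or.inl ⟨e.trans e9⟩
    · exact Or.inr (Or.inl ⟨F, inferInstance, inferInstance, by simp [hc], ⟨e⟩⟩)
  · exact Or.inr (Or.inr (Or.inl h34))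
  · have := suzuki_param h hm hF' e
    interval_cases m
    · exact Or.inr (Or.inr (Or.inr ⟨F, inferInstance, inferInstance, Or.inl ⟨hF', ⟨e⟩⟩⟩))
    · exact Or.inr (Or.inr (Or.inr ⟨F, inferInstance, inferInstance, Or.inr ⟨hF', ⟨e⟩⟩⟩))

end Cfsg.Agent.Lib.CIT.SimpleEPPO
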