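import Mathlib
import Cfsg.Prelude.Def_Solvable
import Cfsg.Agent.Lib.Involution.BaerSuzuki
import Cfsg.Agent.Lib.PSolvable.Core

/-!
Offenders in a group acting on an elementary abelian 2-group such that elements of odd order act
fixed-point-freely and centralisers of involutions are 2-groups: the fixed spaces of the quadratic
offenders form a spread, the offenders are the Sylow 2-subgroups, any two of them meet trivially,
and the group has order `(r + 1) r (r - 1)`.
-/

set_option autoImplicit false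
set_option linter.unusedSectionVars false
set_option linter.style.haveILetI false

namespace Cfsg.Agent.Lib.CIT.Spread

open Cfsg.Agent.Lib

variable {X V : Type*} [Group X] [CommGroup V] [MulDistribMulAction X V]

/-- A faithful action on an elementary abelian `2`-group, odd elements fixed-point-free,
involution centralisers `2`-groups, trivial `2`-core. -/
structure FpfRep (X V : Type*) [Group X] [CommGroup V] [MulDistribMulAction X V] : Prop where
  exp : ∀ v : V, v * v = 1
  faithful : ∀ x : X, (∀ v : V, x • v = v) → x = 1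
  fpf : ∀ x : X, Odd (orderOf x) → x ≠ 1 → ∀ v : V, x • v = v → v = 1
  cit : ∀ t : X, orderOf t = 2 → IsPGroup 2 (Subgroup.centralizer ({t} : Set X))
  core : Cfsg.pCore 2 X = ⊥

/-- The elements of `V` fixed by the set `A`. -/
def fix (A : Set X) : Subgroup V where
  carrier := {v | ∀ a ∈ A, a • v = v}
  one_mem' := fun a _ => smul_one a
  mul_mem' := fun hv hw a ha => by rw [smul_mul', hv a ha, hw a ha]
  inv_mem' := fun hv a ha => by rw [smul_inv', hv a ha]

theorem mem_fix {A : Set X} {v : V} : v ∈ (fix A : Subgroup V) ↔ ∀ a ∈ A, a • v = v := Iff.rfl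

theorem mem_fix_singleton {a : X} {v : V} : v ∈ (fix {a} : Subgroup V) ↔ a • v = v := by
  simp [mem_fix]

theorem fix_anti {A B : Set X} (h : A ⊆ B) : (fix B : Subgroup V) ≤ fix A :=
  fun _ hv a ha => hv a (h ha)

/-- `v ↦ (a • v) / v`. -/
def delta (a : X) : V →* V where
  toFun v := a • v / v
  map_one' := by simp
  map_mul' v w := by rw [smul_mul', mul_div_mul_comm]

theorem delta_apply (a : X) (v : V) : delta a v = a • v / v := rfl

theorem ker_delta (a : X) : (delta a : V →* V).ker = fix {a} := by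
  ext v
  rw [MonoidHom.mem_ker, delta_apply, div_eq_one, mem_fix_singleton]

theorem mul_self_of_orderOf_two {a : X} (ha : orderOf a = 2) : a * a = 1 := by
  rw [← pow_two, ← ha, pow_orderOf_eq_one]

theorem orderOf_two {a : X} (h1 : a ≠ 1) (h : a * a = 1) : orderOf a = 2 :=
  orderOf_eq_prime (by rw [pow_two, h]) h1

theorem exists_pow_odd [Finite X] (x : X) : ∃ k : ℕ, Odd (orderOf (x ^ 2 ^ k)) := by
  refine ⟨(orderOf x).factorization 2, ?_⟩
  have hd : 2 ^ (orderOf x).factorization 2 ∣ orderOf x := Nat.ordProj_dvd _ _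
  rw [orderOf_pow_of_dvd (pow_ne_zero _ two_ne_zero) hd]
  exact Nat.odd_iff.2 (Nat.two_dvd_ne_zero.1
    (Nat.not_dvd_ordCompl Nat.prime_two (orderOf_pos x).ne'))

namespace FpfRep

variable (h : FpfRep X V)

include h

theorem smul_delta {a : X} (ha : a * a = 1) (v : V) : a • delta a v = delta a v := by
  rw [delta_apply, smul_div', smul_smul, ha, one_smul]
  refine eq_div_of_mul_eq' (div_mul_eq_mul_div v (a • v) v ▸ ?_)
  rw [h.exp v, one_div]
  exact inv_eq_of_mul_eq_one_right (h.exp _)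

theorem delta_mem_fix {a : X} (ha : a * a = 1) (v : V) : delta a v ∈ (fix {a} : Subgroup V) :=
  mem_fix_singleton.2 (h.smul_delta ha v)

variable [Finite X] [Finite V]

theorem isPGroup_stabilizer {z : V} (hz : z ≠ 1) :
    IsPGroup 2 (MulAction.stabilizer X z) := by
  rintro ⟨x, hx⟩
  obtain ⟨k, hk⟩ := exists_pow_odd x
  refine ⟨k, Subtype.ext ?_⟩
  by_contra hne
  exact hz (h.fpf _ hk hne z ((MulAction.stabilizer X z).pow_mem hx _))

theorem fix_ne_bot [Nontrivial V] {P : Subgroup X} (hP : IsPGroup 2 P) :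
    (fix (P : Set X) : Subgroup V) ≠ ⊥ := by
  haveI : Fact (Nat.Prime 2) := ⟨Nat.prime_two⟩
  haveI := Fintype.ofFinite V
  have hd : 2 ∣ Nat.card V := by
    obtain ⟨v, hv⟩ := exists_ne (1 : V)
    have : orderOf v = 2 := orderOf_eq_prime (by rw [pow_two, h.exp]) hv
    exact this ▸ orderOf_dvd_natCard v
  obtain ⟨b, hb, hb1⟩ := hP.exists_fixed_point_of_prime_dvd_card_of_fixed_point V hd
    (a := (1 : V)) (fun g => smul_one (g : X))
  intro hbot
  have : b ∈ (fix (P : Set X) : Subgroup V) := fun a ha => hb ⟨a, ha⟩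
  rw [hbot, Subgroup.mem_bot] at this
  exact hb1 this.symm

theorem exists_inverted {c : X} (hc : orderOf c = 2) :
    ∃ y : X, y ≠ 1 ∧ Odd (orderOf y) ∧ c * y * c⁻¹ = y⁻¹ := by
  haveI : Fact (Nat.Prime 2) := ⟨Nat.prime_two⟩
  have hcc := mul_self_of_orderOf_two hc
  have hc1 : c ≠ 1 := by rintro rfl; simp at hc
  obtain ⟨g, hg⟩ : ∃ g : X, ¬ IsPGroup 2 (Subgroup.closure ({c, g * c * g⁻¹} : Set X)) := by
    by_contra hne
    push Not at hne
    obtain ⟨N, hNn, hN2, hcN⟩ := Involution.baer_suzuki_element c hne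
    haveI := hNn
    have h1 := PSolvable.le_pCore (p := 2) hN2 hcN
    rw [h.core, Subgroup.mem_bot] at h1
    exact hc1 h1
  set d := g * c * g⁻¹ with hd
  have hdd : d * d = 1 := by
    rw [hd]
    calc g * c * g⁻¹ * (g * c * g⁻¹) = g * (c * c) * g⁻¹ := by group
      _ = 1 := by rw [hcc]; group
  have hci : c⁻¹ = c := inv_eq_of_mul_eq_one_right hcc
  have hdi : d⁻¹ = d := inv_eq_of_mul_eq_one_right hdd
  have hinv : c * (c * d) * c⁻¹ = (c * d)⁻¹ := by
    rw [mul_inv_rev, hdi, ← mul_assoc c c d, hcc, one_mul]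
  obtain ⟨k, hk⟩ := exists_pow_odd (c * d)
  refine ⟨(c * d) ^ 2 ^ k, fun hy => hg ?_, hk, by rw [← conj_pow, hinv, inv_pow]⟩
  set M := Subgroup.zpowers (c * d) with hM
  have hMp : IsPGroup 2 M := by
    refine IsPGroup.of_card (n := ?_) ?_
    · exact ((Nat.dvd_prime_pow Nat.prime_two).1 (orderOf_dvd_of_pow_eq_one hy)).choose
    · rw [hM, Nat.card_zpowers]
      exact ((Nat.dvd_prime_pow Nat.prime_two).1 (orderOf_dvd_of_pow_eq_one hy)).choose_spec.2
  have hcp : IsPGroup 2 (Subgroup.zpowers c) := IsPGroup.of_card (n := 1) (by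
    rw [Nat.card_zpowers, hc, pow_one])
  have hnorm : Subgroup.zpowers c ≤ Subgroup.normalizer (M : Set X) := by
    rw [Subgroup.zpowers_le]
    refine Subgroup.mem_normalizer_iff_map_conj_eq.2 ?_
    rw [hM, MonoidHom.map_zpowers]
    show Subgroup.zpowers (c * (c * d) * c⁻¹) = _
    rw [hinv]
    exact Subgroup.zpowers_inv
  refine IsPGroup.to_le (IsPGroup.to_sup_of_normal_left' hMp hcp hnorm) ?_
  rw [Subgroup.closure_le]
  rintro x (rfl | rfl)
  · exact Subgroup.mem_sup_right (Subgroup.mem_zpowers x)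
  · have h2 := (M ⊔ Subgroup.zpowers c).mul_mem (Subgroup.mem_sup_right (Subgroup.mem_zpowers c))
      (Subgroup.mem_sup_left (Subgroup.mem_zpowers (c * d)))
    rwa [← mul_assoc, hcc, one_mul] at h2

/-- An involution centralises exactly a half of `V`. -/
theorem card_fix_sq {c : X} (hc : orderOf c = 2) :
    Nat.card (fix {c} : Subgroup V) * Nat.card (fix {c} : Subgroup V) = Nat.card V := by
  have hcc := mul_self_of_orderOf_two hc
  obtain ⟨y, hy1, hyodd, hyc⟩ := h.exists_inverted hc
  set C : Subgroup V := fix {c} with hC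
  have hsep : ∀ v ∈ C, y • v ∈ C → v = 1 := by
    intro v hv hyv
    rw [hC, mem_fix_singleton] at hv hyv
    have h1 : y⁻¹ • v = y • v := by
      rw [← hyc, mul_smul, mul_smul, inv_smul_eq_iff.2 hv.symm, hyv]
    have h2 : (y * y) • v = v := by rw [mul_smul, ← h1, smul_inv_smul]
    refine h.fpf (y * y) ?_ ?_ v h2
    · exact hyodd.of_dvd_nat (by rw [← pow_two]; exact orderOf_pow_dvd 2)
    · intro hyy
      have h3 : orderOf y ∣ 2 := orderOf_dvd_of_pow_eq_one (by rw [pow_two, hyy])
      rcases (Nat.dvd_prime Nat.prime_two).1 h3 with h4 | h4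
      · exact hy1 (orderOf_eq_one_iff.1 h4)
      · rw [h4] at hyodd; exact absurd hyodd (by decide)
  have hle : Nat.card C * Nat.card C ≤ Nat.card V := by
    rw [← Nat.card_prod]
    refine Nat.card_le_card_of_injective (fun p : C × C => (p.1 : V) * y • (p.2 : V)) ?_
    rintro ⟨a, b⟩ ⟨a', b'⟩ he
    simp only at he
    have he' : y • ((b : V) * (b' : V)⁻¹) = (a : V)⁻¹ * a' := by
      rw [smul_mul', smul_inv']
      calc y • (b : V) * (y • (b' : V))⁻¹
          = (a : V)⁻¹ * ((a : V) * y • (b : V)) * (y • (b' : V))⁻¹ := by group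
        _ = (a : V)⁻¹ * ((a' : V) * y • (b' : V)) * (y • (b' : V))⁻¹ := by rw [he]
        _ = (a : V)⁻¹ * a' := by group
    have hb := hsep _ (C.mul_mem b.2 (C.inv_mem b'.2)) (he' ▸ C.mul_mem (C.inv_mem a.2) a'.2)
    have hbb : b = b' := Subtype.ext (mul_inv_eq_one.1 hb)
    subst hbb
    exact Prod.ext (Subtype.ext (mul_right_cancel he)) rfl
  refine le_antisymm hle ?_
  have h1 := (delta c : V →* V).ker.card_eq_card_quotient_mul_card_subgroup
  rw [Nat.card_congr (QuotientGroup.quotientKerEquivRange _).toEquiv, ker_delta, ← hC] at h1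
  rw [h1]
  exact Nat.mul_le_mul_right _ (Subgroup.card_le_of_le fun w ⟨v, hv⟩ => hv ▸ h.delta_mem_fix hcc v)

theorem nontrivial_of_involution {c : X} (hc : orderOf c = 2) : Nontrivial V := by
  rw [← not_subsingleton_iff_nontrivial]
  intro hs
  have : c = 1 := h.faithful c fun v => Subsingleton.elim _ _
  rw [this] at hc
  simp at hc

theorem card_fix_eq {a b : X} (ha : orderOf a = 2) (hb : orderOf b = 2) :
    Nat.card (fix {a} : Subgroup V) = Nat.card (fix {b} : Subgroup V) :=
  Nat.mul_self_inj.1 ((h.card_fix_sq ha).trans (h.card_fix_sq hb).symm)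

theorem fix_singleton_ne_top {a : X} (ha : orderOf a = 2) : ∃ v : V, a • v ≠ v := by
  by_contra hne
  push Not at hne
  rw [h.faithful a hne] at ha
  simp at ha

/-- An elementary abelian `2`-group all of whose involutions fix the same subgroup `R` and no
more embeds into `R`. -/
theorem card_le_of_same {A : Subgroup X} {R : Subgroup V} (hsq : ∀ a ∈ A, a * a = 1)
    (hfix : ∀ a ∈ A, a ≠ 1 → (fix {a} : Subgroup V) = R) {v : V} (hv : v ∉ R)
    {W : Subgroup V} (hW : ∀ a ∈ A, delta a v ∈ W) : Nat.card A ≤ Nat.card W := by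
  refine Nat.card_le_card_of_injective (fun a : A => (⟨delta (a : X) v, hW a a.2⟩ : W)) ?_
  intro a b hab
  have h1 : (a : X) • v = (b : X) • v := div_left_inj.1 (congrArg Subtype.val hab)
  by_contra hne
  have hne' : (b : X) * a ≠ 1 := fun h2 => hne (Subtype.ext (by
    calc (a : X) = (b * b) * a := by rw [hsq b b.2, one_mul]
      _ = b := by rw [mul_assoc, h2, mul_one]))
  apply hv
  rw [← hfix _ (A.mul_mem b.2 a.2) hne', mem_fix_singleton, mul_smul, h1, ← mul_smul,
    hsq b b.2, one_smul]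

omit [Finite X] [Finite V]

end FpfRep

/-- A quadratic offender: all involutions have the same fixed points, at least as many as
offending needs. -/
structure IsQuadOffender (V : Type*) [CommGroup V] [MulDistribMulAction X V] (A : Subgroup X) :
    Prop where
  ne_bot : A ≠ ⊥
  sq : ∀ a ∈ A, a * a = 1
  same : ∀ a ∈ A, a ≠ 1 → (fix {a} : Subgroup V) = fix (A : Set X)
  offends : Nat.card V ≤ Nat.card A * Nat.card (fix (A : Set X) : Subgroup V)

namespace IsQuadOffender

variable [Finite X] [Finite V] {A B : Subgroup X}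

theorem exists_involution (hA : IsQuadOffender V A) : ∃ a ∈ A, orderOf a = 2 := by
  obtain ⟨a, ha, ha1⟩ := A.ne_bot_iff_exists_ne_one.1 hA.ne_bot |> fun ⟨a, ha⟩ =>
    (⟨a, a.2, fun e => ha (Subtype.ext e)⟩ : ∃ x ∈ A, x ≠ 1)
  exact ⟨a, ha, orderOf_two ha1 (hA.sq a ha)⟩

theorem commute_of_mem (hA : IsQuadOffender V A) {a b : X} (ha : a ∈ A) (hb : b ∈ A) :
    a * b = b * a := by
  have h1 := inv_eq_of_mul_eq_one_right (hA.sq _ (A.mul_mem ha hb))
  rw [mul_inv_rev, inv_eq_of_mul_eq_one_right (hA.sq _ ha),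
    inv_eq_of_mul_eq_one_right (hA.sq _ hb)] at h1
  exact h1.symm

theorem isPGroup (hA : IsQuadOffender V A) : IsPGroup 2 A :=
  fun a => ⟨1, Subtype.ext (by simp [pow_two, hA.sq a a.2])⟩

theorem card_fix_sq (h : FpfRep X V) (hA : IsQuadOffender V A) :
    Nat.card (fix (A : Set X) : Subgroup V) * Nat.card (fix (A : Set X) : Subgroup V) =
      Nat.card V := by
  obtain ⟨a, ha, ha2⟩ := hA.exists_involution
  rw [← hA.same a ha (by rintro rfl; simp at ha2)]
  exact h.card_fix_sq ha2

theorem exists_notMem (h : FpfRep X V) (hA : IsQuadOffender V A) :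
    ∃ v : V, v ∉ (fix (A : Set X) : Subgroup V) := by
  obtain ⟨a, ha, ha2⟩ := hA.exists_involution
  obtain ⟨v, hv⟩ := h.fix_singleton_ne_top ha2
  exact ⟨v, fun hm => hv (hm a ha)⟩

theorem delta_mem (h : FpfRep X V) (hA : IsQuadOffender V A) {a : X} (ha : a ∈ A) (v : V) :
    delta a v ∈ (fix (A : Set X) : Subgroup V) := by
  rcases eq_or_ne a 1 with rfl | ha1
  · rw [delta_apply, one_smul, div_self']; exact Subgroup.one_mem _
  · rw [← hA.same a ha ha1]; exact h.delta_mem_fix (hA.sq a ha) v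

/-- A quadratic offender is exactly as large as its fixed space. -/
theorem card_eq (h : FpfRep X V) (hA : IsQuadOffender V A) :
    Nat.card A = Nat.card (fix (A : Set X) : Subgroup V) := by
  obtain ⟨v, hv⟩ := hA.exists_notMem h
  refine le_antisymm (h.card_le_of_same hA.sq hA.same hv fun a ha => hA.delta_mem h ha v) ?_
  have h1 := hA.offends
  rw [← hA.card_fix_sq h] at h1
  exact Nat.le_of_mul_le_mul_right h1 Nat.card_pos

theorem one_lt_card (hA : IsQuadOffender V A) : 1 < Nat.card A :=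
  A.one_lt_card_iff_ne_bot.2 hA.ne_bot

theorem fix_ne_bot (h : FpfRep X V) (hA : IsQuadOffender V A) :
    (fix (A : Set X) : Subgroup V) ≠ ⊥ := by
  rw [Ne, ← Subgroup.card_eq_one, ← hA.card_eq h]
  exact hA.one_lt_card.ne'

/-- A quadratic offender is the pointwise stabiliser of its fixed space. -/
theorem mem_of_fix (h : FpfRep X V) (hA : IsQuadOffender V A) {u : X}
    (hu : ∀ v ∈ (fix (A : Set X) : Subgroup V), u • v = v) : u ∈ A := by
  haveI : Fact (Nat.Prime 2) := ⟨Nat.prime_two⟩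
  set R : Subgroup V := fix (A : Set X) with hR
  let U : Subgroup X :=
    { carrier := {x | ∀ v ∈ R, x • v = v}
      one_mem' := fun v _ => one_smul _ v
      mul_mem' := fun hx hy v hv => by rw [mul_smul, hy v hv, hx v hv]
      inv_mem' := fun hx v hv => inv_smul_eq_iff.2 (hx v hv).symm }
  have hAU : A ≤ U := fun a ha v hv => hv a ha
  obtain ⟨z, hzR, hz⟩ : ∃ z ∈ R, z ≠ 1 := by
    have := hA.fix_ne_bot h
    rw [← hR, Subgroup.ne_bot_iff_exists_ne_one] at this
    obtain ⟨z, hz⟩ := this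
    exact ⟨z, z.2, fun e => hz (Subtype.ext e)⟩
  have hU2 : IsPGroup 2 U := (h.isPGroup_stabilizer hz).to_le fun x hx => hx z hzR
  haveI : Nontrivial U := U.nontrivial_iff_ne_bot.2 fun e => hA.ne_bot (le_bot_iff.1 (e ▸ hAU))
  obtain ⟨c, hcc⟩ : ∃ c : Subgroup.center U, orderOf c = 2 := by
    haveI := hU2.center_nontrivial
    obtain ⟨n, hn⟩ := (hU2.to_subgroup (Subgroup.center U)).exists_card_eq
    have hn0 : n ≠ 0 := by
      rintro rfl
      exact absurd hn (Nat.ne_of_gt (by simpa using Finite.one_lt_card (α := Subgroup.center U)))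
    exact exists_prime_orderOf_dvd_card' 2 (hn ▸ dvd_pow_self 2 hn0)
  set cx : X := ((c : U) : X) with hcx
  have hc2 : orderOf cx = 2 := by rw [hcx, Subgroup.orderOf_coe, Subgroup.orderOf_coe, hcc]
  have hcR : (fix {cx} : Subgroup V) = R := by
    obtain ⟨a, ha, ha2⟩ := hA.exists_involution
    refine (Subgroup.eq_of_le_of_card_ge (fun v hv => mem_fix_singleton.2 ((c : U).2 v hv)) ?_).symm
    rw [h.card_fix_eq hc2 ha2, hA.same a ha (by rintro rfl; simp at ha2)]
  have hcomm : ∀ x ∈ U, x * cx = cx * x := fun x hx =>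
    congrArg Subtype.val (Subgroup.mem_center_iff.1 c.2 ⟨x, hx⟩)
  have hmod : ∀ x ∈ U, ∀ v, delta x v ∈ R := by
    intro x hx v
    rw [← hcR, ← ker_delta, MonoidHom.mem_ker, delta_apply x, map_div, div_eq_one, delta_apply,
      delta_apply, ← mul_smul, ← hcomm x hx, mul_smul, ← smul_div', ← delta_apply cx v]
    exact hx _ (hcR ▸ h.delta_mem_fix (mul_self_of_orderOf_two hc2) v)
  have hsq : ∀ x ∈ U, x * x = 1 := fun x hx => h.faithful _ fun v => by
    have h1 : x • delta x v = delta x v := hx _ (hmod x hx v)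
    have h2 : x • v = delta x v * v := by rw [delta_apply, div_mul_cancel]
    rw [mul_smul, h2, smul_mul', h1, h2, ← mul_assoc, h.exp, one_mul]
  have hsame : ∀ x ∈ U, x ≠ 1 → (fix {x} : Subgroup V) = R := by
    intro x hx hx1
    obtain ⟨a, ha, ha2⟩ := hA.exists_involution
    refine (Subgroup.eq_of_le_of_card_ge (fun v hv => mem_fix_singleton.2 (hx v hv)) ?_).symm
    rw [h.card_fix_eq (orderOf_two hx1 (hsq x hx)) ha2, hA.same a ha (by rintro rfl; simp at ha2)]
  obtain ⟨v, hv⟩ := hA.exists_notMem h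
  have hle := h.card_le_of_same hsq hsame hv (W := R) fun x hx => hmod x hx v
  rw [← hA.card_eq h] at hle
  rw [Subgroup.eq_of_le_of_card_ge hAU hle]
  exact hu

theorem eq_of_fix_eq (h : FpfRep X V) (hA : IsQuadOffender V A) (hB : IsQuadOffender V B)
    (he : (fix (A : Set X) : Subgroup V) = fix (B : Set X)) : A = B :=
  le_antisymm (fun a ha => hB.mem_of_fix h fun v hv => (he ▸ hv : v ∈ fix (A : Set X)) a ha)
    fun b hb => hA.mem_of_fix h fun v hv => (he.symm ▸ hv : v ∈ fix (B : Set X)) b hb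

/-- The image of a quadratic offender under conjugation. -/
theorem conj (hA : IsQuadOffender V A) (g : X) :
    IsQuadOffender V (A.map (MulAut.conj g).toMonoidHom) := by
  have hsing : ∀ x : X, ∀ v : V, v ∈ (fix {g * x * g⁻¹} : Subgroup V) ↔
      g⁻¹ • v ∈ (fix {x} : Subgroup V) := by
    intro x v
    rw [mem_fix_singleton, mem_fix_singleton, mul_smul, mul_smul, smul_eq_iff_eq_inv_smul]
  have hset : ∀ v : V, v ∈ (fix ((A.map (MulAut.conj g).toMonoidHom : Subgroup X) : Set X) :
      Subgroup V) ↔ g⁻¹ • v ∈ (fix (A : Set X) : Subgroup V) := by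
    intro v
    constructor
    · intro hv a ha
      exact mem_fix_singleton.1 ((hsing a v).1 (mem_fix_singleton.2 (hv _ ⟨a, ha, rfl⟩)))
    · rintro hv _ ⟨a, ha, rfl⟩
      exact mem_fix_singleton.1 ((hsing a v).2 (mem_fix_singleton.2 (hv a ha)))
  have hcard : Nat.card (fix ((A.map (MulAut.conj g).toMonoidHom : Subgroup X) : Set X) :
      Subgroup V) = Nat.card (fix (A : Set X) : Subgroup V) :=
    Nat.card_congr ((MulAction.toPerm g⁻¹ : Equiv.Perm V).subtypeEquiv fun v => hset v)
  have hcA : Nat.card (A.map (MulAut.conj g).toMonoidHom) = Nat.card A :=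
    Subgroup.card_map_of_injective (MulAut.conj g).injective
  refine ⟨fun e => ?_, ?_, ?_, by rw [hcard, hcA]; exact hA.offends⟩
  · exact hA.ne_bot ((Subgroup.map_eq_bot_iff_of_injective _ (MulAut.conj g).injective).1 e)
  · rintro _ ⟨a, ha, rfl⟩
    rw [← map_mul, hA.sq a ha, map_one]
  · rintro _ ⟨a, ha, rfl⟩ hne
    ext v
    rw [hset, ← hA.same a ha (by rintro rfl; exact hne (map_one _))]
    exact hsing a v

theorem eq_of_preserves (h : FpfRep X V) (hA : IsQuadOffender V A) (hB : IsQuadOffender V B)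
    (hpres : ∀ b ∈ B, ∀ v ∈ (fix (A : Set X) : Subgroup V),
      b • v ∈ (fix (A : Set X) : Subgroup V)) : A = B := by
  refine hA.eq_of_fix_eq h hB ?_
  have hcard : Nat.card (fix (A : Set X) : Subgroup V) = Nat.card (fix (B : Set X) : Subgroup V) :=
    Nat.mul_self_inj.1 ((hA.card_fix_sq h).trans (hB.card_fix_sq h).symm)
  refine Subgroup.eq_of_le_of_card_ge ?_ hcard.ge
  by_contra hle
  obtain ⟨v, hvA, hvB⟩ := SetLike.not_le_iff_exists.1 hle
  set W : Subgroup V := fix (A : Set X) ⊓ fix (B : Set X) with hW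
  have h1 := h.card_le_of_same hB.sq hB.same hvB (W := W) fun b hb =>
    ⟨Subgroup.div_mem _ (hpres b hb v hvA) hvA, hB.delta_mem h hb v⟩
  have h2 : W = fix (B : Set X) :=
    Subgroup.eq_of_le_of_card_ge inf_le_right (hB.card_eq h ▸ h1)
  exact hle (le_of_eq (Subgroup.eq_of_le_of_card_ge (h2 ▸ inf_le_left) hcard.le).symm)

theorem eq_of_le_pGroup (h : FpfRep X V) : ∀ (P : Subgroup X), IsPGroup 2 P →
    ∀ A B : Subgroup X, IsQuadOffender V A → IsQuadOffender V B → A ≤ P → B ≤ P → A = B := by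
  haveI : Fact (Nat.Prime 2) := ⟨Nat.prime_two⟩
  intro P
  induction hn : Nat.card P using Nat.strong_induction_on generalizing P with
  | _ n ih =>
  subst hn
  intro hP A B hA hB hAP hBP
  rcases eq_or_lt_of_le hAP with rfl | hlt
  · refine hA.eq_of_fix_eq h hB ?_
    obtain ⟨b, hb, hb2⟩ := hB.exists_involution
    have hb1 : b ≠ 1 := by rintro rfl; simp at hb2
    rw [← hA.same b (hBP hb) hb1, hB.same b hb hb1]
  · obtain ⟨M, hAM, hMlt, hmax⟩ : ∃ M : Subgroup X, A ≤ M ∧ M < P ∧
        ∀ L : Subgroup X, M < L → L ≤ P → L = P := by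
      obtain ⟨M, hM⟩ := Set.Finite.exists_maximal
        (Set.toFinite {M : Subgroup X | A ≤ M ∧ M < P}) ⟨A, le_rfl, hlt⟩
      refine ⟨M, hM.prop.1, hM.prop.2, fun L hL hLP => ?_⟩
      by_contra hne
      exact hL.ne (le_antisymm hL.le (hM.le_of_ge ⟨hM.prop.1.trans hL.le,
        lt_of_le_of_ne hLP hne⟩ hL.le))
    have hnorm : P ≤ Subgroup.normalizer (M : Set X) := by
      haveI : Group.IsNilpotent P := hP.isNilpotent
      have hlt' : M.subgroupOf P < ⊤ := lt_top_iff_ne_top.2 fun e =>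
        hMlt.not_ge (Subgroup.subgroupOf_eq_top.1 e)
      obtain ⟨x, hxn, hxM⟩ := SetLike.exists_of_lt
        (Group.normalizerCondition_of_isNilpotent (M.subgroupOf P) hlt')
      have hN : M < Subgroup.normalizer (M : Set X) ⊓ P := by
        refine lt_of_le_of_ne (le_inf Subgroup.le_normalizer hMlt.le) fun e => hxM ?_
        have hx' : (x : X) ∈ Subgroup.normalizer (M : Set X) ⊓ P := by
          refine ⟨?_, x.2⟩
          rw [← Subgroup.subgroupOf_normalizer_eq hMlt.le] at hxn
          exact hxn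
        rw [← e] at hx'
        exact hx'
      exact (hmax _ hN inf_le_right).ge.trans inf_le_left
    refine hA.eq_of_preserves h hB (fun b hb v hv => ?_)
    have hconj : A.map (MulAut.conj b⁻¹).toMonoidHom = A := by
      refine ih _ (Nat.lt_of_le_of_ne (Subgroup.card_le_of_le hMlt.le) fun e => hMlt.ne (Subgroup.eq_of_le_of_card_ge hMlt.le e.ge)) M rfl (hP.to_le hMlt.le) _ _ (hA.conj b⁻¹) hA ?_ hAM
      rintro _ ⟨x, hx, rfl⟩
      exact (Subgroup.mem_normalizer_iff.1 (hnorm (hBP (B.inv_mem hb))) x).1 (hAM hx)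
    intro x hx
    have h1 : b⁻¹ * x * b ∈ A := by
      have h2 : (MulAut.conj b⁻¹).toMonoidHom x ∈ A.map (MulAut.conj b⁻¹).toMonoidHom :=
        Subgroup.mem_map_of_mem _ hx
      rw [hconj] at h2
      simpa using h2
    calc x • b • v = b • (b⁻¹ * x * b) • v := by rw [smul_smul, smul_smul]; congr 1; group
      _ = b • v := by rw [hv _ h1]

/-- Two quadratic offenders with a common non-trivial fixed element are equal. -/
theorem eq_of_common_fix (h : FpfRep X V) (hA : IsQuadOffender V A) (hB : IsQuadOffender V B)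
    {z : V} (hz : z ≠ 1) (hzA : z ∈ (fix (A : Set X) : Subgroup V))
    (hzB : z ∈ (fix (B : Set X) : Subgroup V)) : A = B :=
  eq_of_le_pGroup h _ (h.isPGroup_stabilizer hz) A B hA hB (fun a ha => hzA a ha)
    (fun b hb => hzB b hb)

theorem map_conj_eq_of_mem (h : FpfRep X V) (hA : IsQuadOffender V A) {P : Subgroup X}
    (hP : IsPGroup 2 P) (hAP : A ≤ P) {x : X} (hx : x ∈ P) :
    A.map (MulAut.conj x).toMonoidHom = A := by
  refine eq_of_le_pGroup h P hP _ _ (hA.conj x) hA ?_ hAP
  rintro _ ⟨a, ha, rfl⟩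
  exact P.mul_mem (P.mul_mem hx (hAP ha)) (P.inv_mem hx)

theorem eq_of_mem_normalizes (h : FpfRep X V) (hA : IsQuadOffender V A) (hB : IsQuadOffender V B)
    {a : X} (ha : a ∈ A) (ha1 : a ≠ 1) (haB : B.map (MulAut.conj a).toMonoidHom = B) : A = B := by
  haveI : Fact (Nat.Prime 2) := ⟨Nat.prime_two⟩
  have hza : IsPGroup 2 (Subgroup.zpowers a) := hA.isPGroup.to_le (Subgroup.zpowers_le.2 ha)
  have hP : IsPGroup 2 (B ⊔ Subgroup.zpowers a : Subgroup X) :=
    IsPGroup.to_sup_of_normal_left' hB.isPGroup hza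
      (Subgroup.zpowers_le.2 (Subgroup.mem_normalizer_iff_map_conj_eq.2 haB))
  haveI : Nontrivial V := h.nontrivial_of_involution (orderOf_two ha1 (hA.sq a ha))
  obtain ⟨z, hz⟩ := Subgroup.ne_bot_iff_exists_ne_one.1 (h.fix_ne_bot hP)
  refine hA.eq_of_common_fix h hB (z := (z : V)) (fun e => hz (Subtype.ext e)) ?_
    (fix_anti (le_sup_left : B ≤ B ⊔ Subgroup.zpowers a) z.2)
  rw [← hA.same a ha ha1, mem_fix_singleton]
  exact z.2 a (Subgroup.mem_sup_right (Subgroup.mem_zpowers a))

end IsQuadOffender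

end Cfsg.Agent.Lib.CIT.Spread
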