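import Cfsg.Agent.Lib.CIT.Spread

/-!
The consequences of a quadratic offender: the offenders are exactly the Sylow 2-subgroups, they meet
pairwise trivially, there are `r + 1` of them and the group has order `(r + 1) r (r - 1)`; the
stabiliser of two of them is abelian of order `r - 1`, inverted by every element swapping them.
-/

set_option autoImplicit false
set_option linter.unusedSectionVars false
set_option linter.style.haveILetI false

namespace Cfsg.Agent.Lib.CIT.Spread

open Cfsg.Agent.Lib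

variable {X V : Type*} [Group X] [CommGroup V] [MulDistribMulAction X V] [Finite X] [Finite V]

/-- The conjugate `x B x⁻¹`. -/
abbrev cjBy (x : X) (B : Subgroup X) : Subgroup X := B.map (MulAut.conj x).toMonoidHom

theorem cjBy_one (B : Subgroup X) : cjBy 1 B = B := by
  rw [cjBy, map_one]; exact Subgroup.map_id B

theorem cjBy_cjBy (x y : X) (B : Subgroup X) : cjBy x (cjBy y B) = cjBy (x * y) B := by
  rw [cjBy, cjBy, Subgroup.map_map]
  congr 1
  ext g
  simp [mul_assoc]

theorem cjBy_injective (x : X) : Function.Injective (cjBy x : Subgroup X → Subgroup X) :=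
  Subgroup.map_injective (MulAut.conj x).injective

theorem cjBy_eq_self_of_mem {x : X} {B : Subgroup X} (hx : x ∈ B) : cjBy x B = B :=
  Subgroup.mem_normalizer_iff_map_conj_eq.1 (Subgroup.le_normalizer hx)

/-- The set of quadratic offenders. -/
def members (X V : Type*) [Group X] [CommGroup V] [MulDistribMulAction X V] : Set (Subgroup X) :=
  {B | IsQuadOffender V B}

namespace IsQuadOffender

variable {A B C : Subgroup X}

theorem card_eq_card (h : FpfRep X V) (hA : IsQuadOffender V A) (hB : IsQuadOffender V B) :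
    Nat.card A = Nat.card B := by
  rw [hA.card_eq h, hB.card_eq h]
  exact Nat.mul_self_inj.1 ((hA.card_fix_sq h).trans (hB.card_fix_sq h).symm)

theorem exists_other (h : FpfRep X V) (hA : IsQuadOffender V A) :
    ∃ B : Subgroup X, IsQuadOffender V B ∧ B ≠ A := by
  by_contra hne
  push Not at hne
  have hn : A.Normal := ⟨fun n hn g => by
    have := hne _ (hA.conj g)
    rw [← this]
    exact Subgroup.mem_map_of_mem _ hn⟩
  haveI := hn
  have h1 := PSolvable.le_pCore (p := 2) hA.isPGroup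
  rw [h.core] at h1
  exact hA.ne_bot (le_bot_iff.1 h1)

theorem eq_of_cjBy_eq (h : FpfRep X V) (hA : IsQuadOffender V A) (hB : IsQuadOffender V B)
    (hne : B ≠ A) {a b : X} (ha : a ∈ A) (hb : b ∈ A) (he : cjBy a B = cjBy b B) : a = b := by
  by_contra hab
  refine hne (hA.eq_of_mem_normalizes h hB (a := b⁻¹ * a) (A.mul_mem (A.inv_mem hb) ha) ?_ ?_).symm
  · rw [Ne, inv_mul_eq_one]; exact fun e => hab e.symm
  · show cjBy (b⁻¹ * a) B = B
    rw [← cjBy_cjBy, he, cjBy_cjBy, inv_mul_cancel, cjBy_one]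

theorem ncard_orbit (h : FpfRep X V) (hA : IsQuadOffender V A) (hB : IsQuadOffender V B)
    (hne : B ≠ A) : ((fun a : A => cjBy (a : X) B) '' Set.univ).ncard = Nat.card A := by
  rw [Set.ncard_image_of_injective _ fun a b he => Subtype.ext
    (hA.eq_of_cjBy_eq h hB hne a.2 b.2 he), Set.ncard_univ]

theorem orbit_subset (hA : IsQuadOffender V A) (hB : IsQuadOffender V B) (hne : B ≠ A) :
    ((fun a : A => cjBy (a : X) B) '' Set.univ) ⊆ members X V \ {A} := by
  rintro _ ⟨a, -, rfl⟩
  refine ⟨hB.conj _, fun e => hne ?_⟩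
  simp only [Set.mem_singleton_iff] at e
  apply cjBy_injective (a : X)
  rw [e, cjBy_eq_self_of_mem a.2]

/-- The non-trivial fixed elements of the members do not overlap. -/
theorem ncard_members_le (h : FpfRep X V) (hA : IsQuadOffender V A) :
    (members X V).ncard ≤ Nat.card A + 1 := by
  classical
  set r := Nat.card A with hr
  haveI := Fintype.ofFinite V
  have hcard : ∀ B ∈ members X V, ((fix (B : Set X) : Subgroup V) : Set V).ncard = r := fun B hB => by
    rw [← Nat.card_coe_set_eq]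
    exact (hB.card_eq h).symm.trans (hB.card_eq_card h hA)
  have hfin : (members X V).Finite := Set.toFinite _
  have hdisj : (hfin.toFinset : Set (Subgroup X)).PairwiseDisjoint
      fun B => (((fix (B : Set X) : Subgroup V) : Set V) \ {1}).toFinset := by
    intro B hB C hC hne
    rw [Function.onFun, Finset.disjoint_left]
    intro v hv hv'
    simp only [Set.mem_toFinset, Set.mem_sdiff, SetLike.mem_coe, Set.mem_singleton_iff] at hv hv'
    exact hne (eq_of_common_fix h (hfin.mem_toFinset.1 hB) (hfin.mem_toFinset.1 hC) hv.2 hv.1 hv'.1)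
  have h1 := Finset.card_biUnion hdisj
  have h2 : (hfin.toFinset.biUnion fun B =>
      (((fix (B : Set X) : Subgroup V) : Set V) \ {1}).toFinset).card ≤ r * r - 1 := by
    refine (Finset.card_le_card (t := Finset.univ.erase (1 : V)) fun v hv => ?_).trans ?_
    · simp only [Finset.mem_biUnion, Set.mem_toFinset, Set.mem_sdiff, Set.mem_singleton_iff] at hv
      obtain ⟨B, -, -, hv⟩ := hv
      exact Finset.mem_erase.2 ⟨hv, Finset.mem_univ v⟩
    · rw [Finset.card_erase_of_mem (Finset.mem_univ _), Finset.card_univ,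
        ← Nat.card_eq_fintype_card, ← hA.card_fix_sq h, ← hA.card_eq h]
  rw [h1, Finset.sum_congr rfl (g := fun _ => r - 1), Finset.sum_const, smul_eq_mul] at h2
  · rw [← Set.ncard_eq_toFinset_card _ hfin] at h2
    have hr1 : 1 < r := hA.one_lt_card
    have h3 : r * r - 1 = (r + 1) * (r - 1) := by
      obtain ⟨k, hk⟩ : ∃ k, r = k + 2 := ⟨r - 2, by omega⟩
      have h4 : r * r = (r + 1) * (r - 1) + 1 := by
        rw [hk, show k + 2 - 1 = k + 1 from rfl]; ring
      omega
    rw [h3] at h2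
    exact Nat.le_of_mul_le_mul_right h2 (by omega)
  · intro B hB
    rw [← Set.ncard_eq_toFinset_card', Set.ncard_sdiff_singleton_of_mem (Subgroup.one_mem _),
      hcard B (hfin.mem_toFinset.1 hB)]

theorem ncard_members (h : FpfRep X V) (hA : IsQuadOffender V A) :
    (members X V).ncard = Nat.card A + 1 := by
  obtain ⟨B, hB, hne⟩ := hA.exists_other h
  refine le_antisymm (hA.ncard_members_le h) ?_
  have h1 := Set.ncard_le_ncard (hA.orbit_subset hB hne) (Set.toFinite _)
  rw [hA.ncard_orbit h hB hne, Set.ncard_sdiff_singleton_of_mem (s := members X V) hA] at h1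
  have : 0 < (members X V).ncard := (Set.ncard_pos (Set.toFinite _)).2 ⟨A, hA⟩
  omega

/-- A member is transitive on the others. -/
theorem exists_cjBy (h : FpfRep X V) (hA : IsQuadOffender V A) (hB : IsQuadOffender V B)
    (hC : IsQuadOffender V C) (hBA : B ≠ A) (hCA : C ≠ A) : ∃ a ∈ A, cjBy a B = C := by
  have heq : ((fun a : A => cjBy (a : X) B) '' Set.univ) = members X V \ {A} := by
    refine Set.eq_of_subset_of_ncard_le (hA.orbit_subset hB hBA) (le_of_eq ?_) (Set.toFinite _)
    rw [hA.ncard_orbit h hB hBA, Set.ncard_sdiff_singleton_of_mem (s := members X V) hA,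
      hA.ncard_members h, Nat.add_sub_cancel]
  have hmem : C ∈ ((fun a : A => cjBy (a : X) B) '' Set.univ) := heq ▸ ⟨hC, hCA⟩
  obtain ⟨a, -, rfl⟩ := hmem
  exact ⟨a, a.2, rfl⟩

theorem exists_third (h : FpfRep X V) (hA : IsQuadOffender V A) (B : Subgroup X) :
    ∃ C : Subgroup X, IsQuadOffender V C ∧ C ≠ A ∧ C ≠ B := by
  have hlt : ({A, B} : Set (Subgroup X)).ncard < (members X V).ncard := by
    rw [hA.ncard_members h]
    have := hA.one_lt_card
    have h2 : ({A, B} : Set (Subgroup X)).ncard ≤ 2 :=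
      (Set.ncard_insert_le _ _).trans (by rw [Set.ncard_singleton])
    omega
  obtain ⟨C, hC, hC'⟩ := Set.exists_mem_notMem_of_ncard_lt_ncard hlt (Set.toFinite _)
  simp only [Set.mem_insert_iff, Set.mem_singleton_iff, not_or] at hC'
  exact ⟨C, hC, hC'⟩

/-- All members are conjugate. -/
theorem exists_conj (h : FpfRep X V) (hA : IsQuadOffender V A) (hB : IsQuadOffender V B) :
    ∃ x : X, cjBy x A = B := by
  obtain ⟨C, hC, hCA, hCB⟩ := hA.exists_third h B
  obtain ⟨c, -, hc⟩ := hC.exists_cjBy h hA hB hCA.symm hCB.symm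
  exact ⟨c, hc⟩

theorem exists_centralised {P : Subgroup X} (hP : IsQuadOffender V P) {e : X} (he : e * e = 1)
    (heP : cjBy e P = P) : ∃ a ∈ P, a ≠ 1 ∧ a * e = e * a := by
  obtain ⟨a, ha⟩ := Subgroup.ne_bot_iff_exists_ne_one.1 hP.ne_bot
  have ha' : (a : X) ≠ 1 := fun e' => ha (Subtype.ext e')
  have hei : e⁻¹ = e := inv_eq_of_mul_eq_one_right he
  have hb : e * a * e ∈ P := by
    have h1 : (MulAut.conj e).toMonoidHom (a : X) ∈ cjBy e P := Subgroup.mem_map_of_mem _ a.2
    rw [heP] at h1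
    simpa [hei] using h1
  set b := e * (a : X) * e with hbdef
  have hcomm : (a : X) * b = b * a := by
    have hai : (a : X)⁻¹ = a := inv_eq_of_mul_eq_one_right (hP.sq _ a.2)
    have hbi : b⁻¹ = b := inv_eq_of_mul_eq_one_right (hP.sq _ hb)
    have h2 := inv_eq_of_mul_eq_one_right (hP.sq _ (P.mul_mem a.2 hb))
    rw [mul_inv_rev, hai, hbi] at h2
    exact h2.symm
  by_cases hab : b = a
  · refine ⟨a, a.2, ha', ?_⟩
    calc (a : X) * e = e * (e * a * e) := by simp [← mul_assoc, he]
      _ = e * a := by rw [← hbdef, hab]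
  · refine ⟨(a : X) * b, P.mul_mem a.2 hb, fun h1 => hab ?_, ?_⟩
    · rw [← inv_eq_of_mul_eq_one_right h1, inv_eq_of_mul_eq_one_right (hP.sq _ a.2)]
    · have h3 : e * ((a : X) * b) * e = b * a := by
        calc e * ((a : X) * b) * e = e * a * (e * a * e) * e := by rw [hbdef]; group
          _ = (e * a * e) * a * (e * e) := by group
          _ = b * a := by rw [he, mul_one, hbdef]
      calc (a : X) * b * e = e * (e * ((a : X) * b) * e) := by simp [← mul_assoc, he]
        _ = e * ((a : X) * b) := by rw [h3, hcomm]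

/-- No involution normalises two distinct members. -/
theorem not_normalizes_two (h : FpfRep X V) (hA : IsQuadOffender V A) (hB : IsQuadOffender V B)
    (hne : B ≠ A) {e : X} (he : orderOf e = 2) (heA : cjBy e A = A) (heB : cjBy e B = B) :
    False := by
  have hee := mul_self_of_orderOf_two he
  obtain ⟨a, ha, ha1, hae⟩ := exists_centralised hA hee heA
  obtain ⟨b, hb, hb1, hbe⟩ := exists_centralised hB hee heB
  haveI : Nontrivial V := h.nontrivial_of_involution he
  have hP : IsPGroup 2 (Subgroup.closure ({a, b} : Set X)) := (h.cit e he).to_le (by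
    rw [Subgroup.closure_le]
    rintro x (rfl | rfl)
    · exact Subgroup.mem_centralizer_singleton_iff.2 hae
    · exact Subgroup.mem_centralizer_singleton_iff.2 hbe)
  obtain ⟨z, hz⟩ := Subgroup.ne_bot_iff_exists_ne_one.1 (h.fix_ne_bot hP)
  refine hne (hB.eq_of_common_fix h hA (z := (z : V)) (fun e' => hz (Subtype.ext e')) ?_ ?_)
  · rw [← hB.same b hb hb1, mem_fix_singleton]
    exact z.2 b (Subgroup.subset_closure (by simp))
  · rw [← hA.same a ha ha1, mem_fix_singleton]
    exact z.2 a (Subgroup.subset_closure (by simp))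

/-- A `2`-group containing a member equals it. -/
theorem eq_of_le (h : FpfRep X V) (hA : IsQuadOffender V A) {P : Subgroup X} (hP : IsPGroup 2 P)
    (hAP : A ≤ P) : P = A := by
  refine le_antisymm (fun x hx => ?_) hAP
  obtain ⟨B, hB, hne⟩ := hA.exists_other h
  have hxA : cjBy x A = A := hA.map_conj_eq_of_mem h hP hAP hx
  obtain ⟨a, ha, he⟩ := hA.exists_cjBy h hB (hB.conj x) hne
    (fun e => hne (cjBy_injective x (e.trans hxA.symm)))
  by_contra hxn
  set u := a⁻¹ * x with hu
  have hu1 : u ≠ 1 := fun e => hxn (by rw [inv_mul_eq_one] at e; exact e ▸ ha)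
  have huP : u ∈ P := P.mul_mem (P.inv_mem (hAP ha)) hx
  have huB : u ∈ Subgroup.normalizer (B : Set X) := by
    rw [Subgroup.mem_normalizer_iff_map_conj_eq]
    show cjBy u B = B
    rw [hu, ← cjBy_cjBy, show cjBy x B = cjBy a B from he.symm, cjBy_cjBy, inv_mul_cancel, cjBy_one]
  obtain ⟨k, hk⟩ := hP ⟨u, huP⟩
  have hk' : orderOf u ∣ 2 ^ k := orderOf_dvd_of_pow_eq_one (congrArg Subtype.val hk)
  obtain ⟨m, -, hm⟩ := (Nat.dvd_prime_pow Nat.prime_two).1 hk'
  have hm0 : m ≠ 0 := fun e => hu1 (orderOf_eq_one_iff.1 (by rw [hm, e, pow_zero]))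
  set e := u ^ 2 ^ (m - 1) with hedef
  have he2 : orderOf e = 2 := by
    rw [hedef, orderOf_pow_of_dvd (pow_ne_zero _ two_ne_zero) (by rw [hm]; exact pow_dvd_pow 2 (by omega)), hm,
      Nat.pow_div (by omega) two_pos, show m - (m - 1) = 1 by omega, pow_one]
  exact hA.not_normalizes_two h hB hne he2
    (hA.map_conj_eq_of_mem h hP hAP (P.pow_mem huP _))
    (Subgroup.mem_normalizer_iff_map_conj_eq.1 ((Subgroup.normalizer (B : Set X)).pow_mem huB _))

/-- A member as a Sylow `2`-subgroup. -/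
theorem exists_sylow (h : FpfRep X V) (hA : IsQuadOffender V A) :
    ∃ P : Sylow 2 X, (P : Subgroup X) = A := by
  obtain ⟨P, hP⟩ := hA.isPGroup.exists_le_sylow
  exact ⟨P, hA.eq_of_le h P.isPGroup' hP⟩

theorem of_sylow (h : FpfRep X V) (hA : IsQuadOffender V A) (P : Sylow 2 X) :
    IsQuadOffender V (P : Subgroup X) := by
  haveI : Fact (Nat.Prime 2) := ⟨Nat.prime_two⟩
  obtain ⟨Q, hQ⟩ := hA.exists_sylow h
  obtain ⟨x, rfl⟩ := MulAction.exists_smul_eq X Q P
  rw [Sylow.coe_subgroup_smul, hQ]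
  exact hA.conj x

theorem inf_eq_bot (h : FpfRep X V) (hA : IsQuadOffender V A) (hB : IsQuadOffender V B)
    (hne : A ≠ B) : A ⊓ B = ⊥ := by
  rw [Subgroup.eq_bot_iff_forall]
  rintro x ⟨hxA, hxB⟩
  by_contra hx
  exact hne (hA.eq_of_fix_eq h hB ((hA.same x hxA hx).symm.trans (hB.same x hxB hx)))

theorem exists_member_mem (h : FpfRep X V) (hA : IsQuadOffender V A) {t : X}
    (ht : orderOf t = 2) : ∃ B : Subgroup X, IsQuadOffender V B ∧ t ∈ B := by
  obtain ⟨P, hP⟩ := IsPGroup.exists_le_sylow (p := 2) (P := Subgroup.zpowers t)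
    (IsPGroup.of_card (n := 1) (by rw [Nat.card_zpowers, ht, pow_one]))
  exact ⟨P, hA.of_sylow h P, hP (Subgroup.mem_zpowers t)⟩

theorem centralizer_eq (h : FpfRep X V) (hA : IsQuadOffender V A) {a : X} (ha : a ∈ A)
    (ha1 : a ≠ 1) : Subgroup.centralizer ({a} : Set X) = A := by
  refine hA.eq_of_le h (h.cit a (orderOf_two ha1 (hA.sq a ha))) fun b hb =>
    Subgroup.mem_centralizer_singleton_iff.2 ?_
  have h1 := inv_eq_of_mul_eq_one_right (hA.sq _ (A.mul_mem ha hb))
  rw [mul_inv_rev, inv_eq_of_mul_eq_one_right (hA.sq _ ha),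
    inv_eq_of_mul_eq_one_right (hA.sq _ hb)] at h1
  exact h1

/-- All involutions are conjugate. -/
theorem isConj (h : FpfRep X V) (hA : IsQuadOffender V A) {a b : X} (ha : orderOf a = 2)
    (hb : orderOf b = 2) : IsConj a b := by
  obtain ⟨B, hB, haB⟩ := hA.exists_member_mem h ha
  obtain ⟨C, hC, hbC⟩ := hA.exists_member_mem h hb
  suffices key : ∀ a b : X, orderOf a = 2 → orderOf b = 2 → ∀ B C : Subgroup X,
      IsQuadOffender V B → IsQuadOffender V C → B ≠ C → a ∈ B → b ∈ C → IsConj a b by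
    by_cases hBC : B = C
    · obtain ⟨D, hD, hDB⟩ := hB.exists_other h
      obtain ⟨d, hd, hd2⟩ := hD.exists_involution
      exact (key a d ha hd2 B D hB hD hDB.symm haB hd).trans
        (key b d hb hd2 C D hC hD (hBC ▸ hDB.symm) hbC hd).symm
    · exact key a b ha hb B C hB hC hBC haB hbC
  intro a b ha hb B C hB hC hBC haB hbC
  have haa := mul_self_of_orderOf_two ha
  have hbb := mul_self_of_orderOf_two hb
  have hai : a⁻¹ = a := inv_eq_of_mul_eq_one_right haa
  have hbi : b⁻¹ = b := inv_eq_of_mul_eq_one_right hbb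
  have hia : a * (a * b) * a⁻¹ = (a * b)⁻¹ := by
    rw [mul_inv_rev, hbi, ← mul_assoc a a b, haa, one_mul]
  set n := orderOf (a * b) with hn
  rcases Nat.even_or_odd n with ⟨m, hm⟩ | ⟨m, hm⟩
  · exfalso
    have hn0 : 0 < n := orderOf_pos _
    set c := (a * b) ^ m with hc
    have hcc : c * c = 1 := by rw [hc, ← pow_add, ← hm]; exact pow_orderOf_eq_one _
    have hc1 : c ≠ 1 := fun e => by
      have h9 := Nat.le_of_dvd (by omega) (orderOf_dvd_of_pow_eq_one e)
      omega
    have hca : a * c * a⁻¹ = c := by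
      rw [hc, ← conj_pow, hia, inv_pow, ← hc, inv_eq_of_mul_eq_one_right hcc]
    have hac : a * c = c * a := by rw [← mul_inv_eq_iff_eq_mul]; exact hca
    have hbc : b * c = c * b := by
      have h1 : (a * b) * c = c * (a * b) := ((Commute.refl (a * b)).pow_right m).eq
      calc b * c = a * ((a * b) * c) := by simp [← mul_assoc, haa]
        _ = a * c * (a * b) := by rw [h1]; group
        _ = c * a * (a * b) := by rw [hac]
        _ = c * b := by simp [mul_assoc, ← mul_assoc a a b, haa]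
    obtain ⟨D, hD, hcD⟩ := hA.exists_member_mem h (orderOf_two hc1 hcc)
    have hcen := hD.centralizer_eq h hcD hc1
    have haD : a ∈ D := hcen ▸ Subgroup.mem_centralizer_singleton_iff.2 hac
    have hbD : b ∈ D := hcen ▸ Subgroup.mem_centralizer_singleton_iff.2 hbc
    have e1 : B = D := by
      by_contra hne
      have := hB.inf_eq_bot h hD hne
      rw [Subgroup.eq_bot_iff_forall] at this
      rw [this a ⟨haB, haD⟩] at ha
      simp at ha
    have e2 : C = D := by
      by_contra hne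
      have := hC.inf_eq_bot h hD hne
      rw [Subgroup.eq_bot_iff_forall] at this
      rw [this b ⟨hbC, hbD⟩] at hb
      simp at hb
    exact hBC (e1.trans e2.symm)
  · rw [isConj_iff]
    refine ⟨(a * b) ^ m, ?_⟩
    have h1 : a * ((a * b) ^ m)⁻¹ = (a * b) ^ m * a := by
      have : a * (a * b) ^ m * a⁻¹ = ((a * b) ^ m)⁻¹ := by rw [← conj_pow, hia, inv_pow]
      rw [← this, hai, ← mul_assoc, ← mul_assoc, haa, one_mul]
    rw [mul_assoc, h1, ← mul_assoc, ← pow_add]
    have h2 : (a * b) ^ (m + m) * (a * b) = 1 := by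
      rw [← pow_succ, show m + m + 1 = n by omega]; exact pow_orderOf_eq_one _
    rw [eq_inv_of_mul_eq_one_left h2, mul_inv_rev, hai, hbi, mul_assoc, haa, mul_one]

/-- The stabiliser of two members. -/
def twoStab (A B : Subgroup X) : Subgroup X :=
  Subgroup.normalizer (A : Set X) ⊓ Subgroup.normalizer (B : Set X)

theorem mem_twoStab {x : X} : x ∈ twoStab A B ↔ cjBy x A = A ∧ cjBy x B = B := by
  rw [twoStab, Subgroup.mem_inf, Subgroup.mem_normalizer_iff_map_conj_eq,
    Subgroup.mem_normalizer_iff_map_conj_eq]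
  rfl

theorem mem_normalizer_decomp (h : FpfRep X V) (hA : IsQuadOffender V A) (hB : IsQuadOffender V B)
    (hne : B ≠ A) {x : X} (hx : cjBy x A = A) : ∃ a ∈ A, a⁻¹ * x ∈ twoStab A B := by
  obtain ⟨a, ha, he⟩ := hA.exists_cjBy h hB (hB.conj x) hne
    (fun e => hne (cjBy_injective x (e.trans hx.symm)))
  refine ⟨a, ha, mem_twoStab.2 ⟨?_, ?_⟩⟩
  · rw [← cjBy_cjBy, hx, cjBy_eq_self_of_mem (A.inv_mem ha)]
  · rw [← cjBy_cjBy, show cjBy x B = cjBy a B from he.symm, cjBy_cjBy, inv_mul_cancel, cjBy_one]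

theorem card_twoStab (h : FpfRep X V) (hA : IsQuadOffender V A) (hB : IsQuadOffender V B)
    (hne : B ≠ A) : Nat.card (twoStab A B) = Nat.card A - 1 := by
  classical
  obtain ⟨a, ha, ha2⟩ := hA.exists_involution
  have ha1 : a ≠ 1 := by rintro rfl; simp at ha2
  have hmem : ∀ k : twoStab A B, (k : X) * a * (k : X)⁻¹ ∈ A ∧ (k : X) * a * (k : X)⁻¹ ≠ 1 :=
    fun k => ⟨(Subgroup.mem_normalizer_iff.1 (Subgroup.mem_inf.1 k.2).1 a).1 ha,
      fun e => ha1 (conj_eq_one_iff.1 e)⟩
  let f : twoStab A B → {x : A // x ≠ 1} := fun k =>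
    ⟨⟨_, (hmem k).1⟩, fun e => (hmem k).2 (congrArg Subtype.val e)⟩
  have hf : Function.Bijective f := by
    constructor
    · intro k l e
      have e' : (k : X) * a * (k : X)⁻¹ = (l : X) * a * (l : X)⁻¹ :=
        congrArg (fun x : {x : A // x ≠ 1} => ((x : A) : X)) e
      by_contra hkl
      have hu : (l : X)⁻¹ * k ∈ A := by
        refine (hA.centralizer_eq h ha ha1).le ?_
        rw [Subgroup.mem_centralizer_singleton_iff]
        calc (l : X)⁻¹ * k * a = (l : X)⁻¹ * ((k : X) * a * (k : X)⁻¹) * k := by group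
          _ = a * ((l : X)⁻¹ * k) := by rw [e']; group
      refine hne (hA.eq_of_mem_normalizes h hB hu ?_ ?_).symm
      · rw [Ne, inv_mul_eq_one]; exact fun e => hkl (Subtype.ext e.symm)
      · exact (mem_twoStab.1 ((twoStab A B).mul_mem ((twoStab A B).inv_mem l.2) k.2)).2
    · rintro ⟨⟨b, hb⟩, hb1⟩
      have hb1' : b ≠ 1 := fun e => hb1 (Subtype.ext e)
      obtain ⟨g, hg⟩ := isConj_iff.1 (hA.isConj h ha2 (orderOf_two hb1' (hA.sq b hb)))
      have hgA : cjBy g A = A := by
        by_contra hne'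
        have hmem' : b ∈ cjBy g A := ⟨a, ha, hg⟩
        have hbot := (hA.conj g).inf_eq_bot h hA hne'
        rw [Subgroup.eq_bot_iff_forall] at hbot
        exact hb1' (hbot b ⟨hmem', hb⟩)
      obtain ⟨c, hc, hk⟩ := hA.mem_normalizer_decomp h hB hne hgA
      refine ⟨⟨_, hk⟩, Subtype.ext (Subtype.ext ?_)⟩
      show c⁻¹ * g * a * (c⁻¹ * g)⁻¹ = b
      calc c⁻¹ * g * a * (c⁻¹ * g)⁻¹ = c⁻¹ * (g * a * g⁻¹) * c := by group
        _ = c⁻¹ * (b * c) := by rw [hg, mul_assoc]
        _ = c⁻¹ * (c * b) := by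
          rw [hA.commute_of_mem hb hc]
        _ = b := by group
  rw [Nat.card_eq_of_bijective f hf]
  haveI := Fintype.ofFinite A
  rw [Nat.card_eq_fintype_card, Fintype.card_subtype_compl, Fintype.card_subtype_eq,
    Nat.card_eq_fintype_card]

theorem card_normalizer (h : FpfRep X V) (hA : IsQuadOffender V A) (hB : IsQuadOffender V B)
    (hne : B ≠ A) :
    Nat.card (Subgroup.normalizer (A : Set X)) = Nat.card A * (Nat.card A - 1) := by
  rw [← hA.card_twoStab h hB hne, ← Nat.card_prod]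
  refine (Nat.card_eq_of_bijective (fun p : A × twoStab A B =>
    (⟨(p.1 : X) * p.2, Subgroup.mul_mem _ (Subgroup.le_normalizer p.1.2)
      (Subgroup.mem_inf.1 p.2.2).1⟩ : Subgroup.normalizer (A : Set X))) ⟨?_, ?_⟩).symm
  · rintro ⟨a, k⟩ ⟨a', k'⟩ e
    have e' : (a : X) * k = a' * k' := congrArg Subtype.val e
    have h1 : (a : X) = a' := hA.eq_of_cjBy_eq h hB hne a.2 a'.2 (by
      have h2 := congrArg (fun x => cjBy x B) e'
      simpa only [← cjBy_cjBy, (mem_twoStab.1 k.2).2, (mem_twoStab.1 k'.2).2] using h2)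
    rw [h1] at e'
    exact Prod.ext (Subtype.ext h1) (Subtype.ext (mul_left_cancel e'))
  · rintro ⟨x, hx⟩
    obtain ⟨a, ha, hk⟩ := hA.mem_normalizer_decomp h hB hne
      (Subgroup.mem_normalizer_iff_map_conj_eq.1 hx)
    exact ⟨(⟨a, ha⟩, ⟨_, hk⟩), Subtype.ext (by simp)⟩

theorem card_sylow (h : FpfRep X V) (hA : IsQuadOffender V A) :
    Nat.card (Sylow 2 X) = Nat.card A + 1 := by
  rw [← hA.ncard_members h, ← Nat.card_coe_set_eq]
  refine Nat.card_eq_of_bijective (fun P => ⟨(P : Subgroup X), hA.of_sylow h P⟩) ⟨?_, ?_⟩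
  · intro P Q e
    exact Sylow.ext (congrArg Subtype.val e)
  · rintro ⟨B, hB⟩
    obtain ⟨P, hP⟩ := IsQuadOffender.exists_sylow h hB
    exact ⟨P, Subtype.ext hP⟩

theorem card_group (h : FpfRep X V) (hA : IsQuadOffender V A) :
    Nat.card X = (Nat.card A + 1) * (Nat.card A * (Nat.card A - 1)) := by
  haveI : Fact (Nat.Prime 2) := ⟨Nat.prime_two⟩
  obtain ⟨B, hB, hne⟩ := hA.exists_other h
  obtain ⟨P, hP⟩ := hA.exists_sylow h
  rw [← hA.card_sylow h, Sylow.card_eq_index_normalizer P, ← hA.card_normalizer h hB hne, ← hP]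
  exact (Subgroup.index_mul_card _).symm

/-- Elements swapping two members. -/
def swaps (A B : Subgroup X) : Set X := {x | cjBy x A = B ∧ cjBy x B = A}

theorem swap_sq (h : FpfRep X V) (hA : IsQuadOffender V A) (hB : IsQuadOffender V B)
    (hne : B ≠ A) {x : X} (hx : x ∈ swaps A B) : x * x = 1 := by
  classical
  have hthird : ∀ C : (members X V \ {A, B} : Set (Subgroup X)),
      ∃ c : X, c ∈ (C : Subgroup X) ∧ c ∈ swaps A B ∧ c * c = 1 := by
    rintro ⟨C, hC, hC'⟩
    simp only [Set.mem_insert_iff, Set.mem_singleton_iff, not_or] at hC'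
    obtain ⟨c, hc, he⟩ := IsQuadOffender.exists_cjBy h hC hA hB (Ne.symm hC'.1) (Ne.symm hC'.2)
    have hcc := hC.sq c hc
    refine ⟨c, hc, ⟨he, ?_⟩, hcc⟩
    rw [← he, cjBy_cjBy, hcc, cjBy_one]
  choose c hc hcs hcsq using hthird
  let f : (members X V \ {A, B} : Set (Subgroup X)) → swaps A B := fun C => ⟨c C, hcs C⟩
  have hinj : Function.Injective f := by
    rintro ⟨C, hC, hC'⟩ ⟨D, hD, hD'⟩ e
    have e' : c ⟨C, hC, hC'⟩ = c ⟨D, hD, hD'⟩ := congrArg Subtype.val e
    by_contra hCD
    have h1 := IsQuadOffender.inf_eq_bot h hC hD fun e2 => hCD (Subtype.ext e2)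
    rw [Subgroup.eq_bot_iff_forall] at h1
    have h2 := h1 _ ⟨hc ⟨C, hC, hC'⟩, e' ▸ hc ⟨D, hD, hD'⟩⟩
    have h3 := (hcs ⟨C, hC, hC'⟩).1
    rw [h2, cjBy_one] at h3
    exact hne h3.symm
  have hle : Nat.card (swaps A B) ≤ Nat.card (twoStab A B) := by
    refine Nat.card_le_card_of_injective (fun y : swaps A B => (⟨x * y, mem_twoStab.2 ?_⟩ :
      twoStab A B)) fun y z e => Subtype.ext (mul_left_cancel (congrArg Subtype.val e))
    obtain ⟨y, hy1, hy2⟩ := y
    exact ⟨by rw [← cjBy_cjBy, hy1, hx.2], by rw [← cjBy_cjBy, hy2, hx.1]⟩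
  have hcardC : Nat.card (members X V \ {A, B} : Set (Subgroup X)) = Nat.card A - 1 := by
    rw [Nat.card_coe_set_eq, Set.ncard_sdiff (s := {A, B}) (t := members X V)
      (Set.insert_subset hA (Set.singleton_subset_iff.2 hB))
      (Set.toFinite _), hA.ncard_members h, Set.ncard_pair hne.symm]
    omega
  have hbij : Function.Bijective f :=
    hinj.bijective_of_nat_card_le (by rw [hcardC, ← hA.card_twoStab h hB hne]; exact hle)
  obtain ⟨C, hC⟩ := hbij.2 ⟨x, hx⟩
  have := hcsq C
  rwa [show c C = x from congrArg Subtype.val hC] at this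

theorem exists_swap (h : FpfRep X V) (hA : IsQuadOffender V A) (hB : IsQuadOffender V B)
    (hne : B ≠ A) : ∃ t : X, orderOf t = 2 ∧ t ∈ swaps A B := by
  obtain ⟨C, hC, hCA, hCB⟩ := hA.exists_third h B
  obtain ⟨c, hc, he⟩ := hC.exists_cjBy h hA hB hCA.symm hCB.symm
  refine ⟨c, orderOf_two ?_ (hC.sq c hc), he, ?_⟩
  · rintro rfl
    rw [cjBy_one] at he
    exact hne he.symm
  · rw [← he, cjBy_cjBy, hC.sq c hc, cjBy_one]

/-- Every element swapping two members inverts their common stabiliser. -/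
theorem swap_inverts (h : FpfRep X V) (hA : IsQuadOffender V A) (hB : IsQuadOffender V B)
    (hne : B ≠ A) {t k : X} (ht : t ∈ swaps A B) (hk : k ∈ twoStab A B) :
    t * k * t⁻¹ = k⁻¹ := by
  have h1 := hA.swap_sq h hB hne ht
  have h2 := hA.swap_sq h hB hne (x := t * k)
    ⟨by rw [← cjBy_cjBy, (mem_twoStab.1 hk).1, ht.1],
      by rw [← cjBy_cjBy, (mem_twoStab.1 hk).2, ht.2]⟩
  rw [inv_eq_of_mul_eq_one_right h1]
  exact eq_inv_of_mul_eq_one_left (by rw [← h2]; group)

theorem twoStab_comm (h : FpfRep X V) (hA : IsQuadOffender V A) (hB : IsQuadOffender V B)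
    (hne : B ≠ A) {k l : X} (hk : k ∈ twoStab A B) (hl : l ∈ twoStab A B) :
    k * l = l * k := by
  obtain ⟨t, -, ht⟩ := hA.exists_swap h hB hne
  have h3 := hA.swap_inverts h hB hne ht ((twoStab A B).mul_mem hk hl)
  have h4 : t * (k * l) * t⁻¹ = t * k * t⁻¹ * (t * l * t⁻¹) := by group
  rw [h4, hA.swap_inverts h hB hne ht hk, hA.swap_inverts h hB hne ht hl, ← mul_inv_rev,
    inv_inj] at h3
  exact h3.symm

end IsQuadOffender

end Cfsg.Agent.Lib.CIT.Spread
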