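import Cfsg.Agent.Lib.CIT.SpreadCount

/-!
An offender contains a quadratic one (Timmesfeld's replacement in this setting).
-/

set_option autoImplicit false
set_option linter.unusedSectionVars false
set_option linter.style.haveILetI false

namespace Cfsg.Agent.Lib.CIT.Spread

open Cfsg.Agent.Lib

variable {X V : Type*} [Group X] [CommGroup V] [MulDistribMulAction X V] [Finite X] [Finite V]

theorem commute_of_sq {B : Subgroup X} (hsq : ∀ a ∈ B, a * a = 1) {a b : X} (ha : a ∈ B)
    (hb : b ∈ B) : a * b = b * a := by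
  have h1 := inv_eq_of_mul_eq_one_right (hsq _ (B.mul_mem ha hb))
  rw [mul_inv_rev, inv_eq_of_mul_eq_one_right (hsq _ ha),
    inv_eq_of_mul_eq_one_right (hsq _ hb)] at h1
  exact h1.symm

namespace FpfRep

variable (h : FpfRep X V)

include h

/-- An exponent-2 group of operators maps `V` into a proper subgroup together with its fixed
points. -/
theorem exists_proper {B : Subgroup X} (hB : B ≠ ⊥) (hsq : ∀ a ∈ B, a * a = 1) :
    ∃ Y : Subgroup V, Y ≠ ⊤ ∧ (fix (B : Set X) : Subgroup V) ≤ Y ∧
      ∀ a ∈ B, ∀ v : V, delta a v ∈ Y := by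
  classical
  set W : Subgroup V := fix (B : Set X) with hW
  have hWtop : W ≠ ⊤ := by
    intro e
    obtain ⟨b, hb⟩ := Subgroup.ne_bot_iff_exists_ne_one.1 hB
    refine hb (Subtype.ext (h.faithful _ fun v => ?_))
    have hv : v ∈ W := e ▸ Subgroup.mem_top v
    exact hv b b.2
  obtain ⟨Y, hY⟩ := Set.Finite.exists_maximal
    (Set.toFinite {Y : Subgroup V | W ≤ Y ∧ Y ≠ ⊤ ∧ ∀ a ∈ B, ∀ v ∈ Y, a • v ∈ Y})
    ⟨W, le_rfl, hWtop, fun a ha v hv => by rwa [hv a ha]⟩
  obtain ⟨hWY, hYtop, hinv⟩ := hY.prop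
  have hstep : ∀ s : Finset X, (∀ a ∈ s, a ∈ B) → ∃ v : V, v ∉ Y ∧ ∀ a ∈ s, delta a v ∈ Y := by
    intro s
    induction s using Finset.induction with
    | empty =>
      intro _
      obtain ⟨v, -, hv⟩ := SetLike.exists_of_lt (lt_top_iff_ne_top.2 hYtop)
      exact ⟨v, hv, by simp⟩
    | @insert a s _ ih =>
      intro hs
      have haB : a ∈ B := hs a (Finset.mem_insert_self a s)
      obtain ⟨v, hv, hvs⟩ := ih fun x hx => hs x (Finset.mem_insert_of_mem hx)
      by_cases hav : delta a v ∈ Y
      · exact ⟨v, hv, fun x hx => (Finset.mem_insert.1 hx).elim (fun e => e ▸ hav) (hvs x)⟩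
      · refine ⟨delta a v, hav, fun x hx => ?_⟩
        rcases Finset.mem_insert.1 hx with rfl | hx'
        · rw [delta_apply x (delta x v), h.smul_delta (hsq x haB), div_self']
          exact Y.one_mem
        · have hxB : x ∈ B := hs x hx
          have e : delta x (delta a v) = delta a (delta x v) := by
            simp only [delta_apply, smul_div', smul_smul, commute_of_sq hsq hxB haB]
            simp only [div_div_div_comm]
          rw [e, delta_apply]
          exact Y.div_mem (hinv a haB _ (hvs x hx')) (hvs x hx')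
  obtain ⟨v, hv, hvB⟩ := hstep (Set.toFinite (B : Set X)).toFinset
    fun a ha => (Set.Finite.mem_toFinset _).1 ha
  have hvB' : ∀ a ∈ B, delta a v ∈ Y := fun a ha => hvB a ((Set.Finite.mem_toFinset _).2 ha)
  set Y' := Y ⊔ Subgroup.zpowers v with hY'
  have hav : ∀ a ∈ B, a • v ∈ Y' := fun a ha => by
    rw [show a • v = delta a v * v by rw [delta_apply, div_mul_cancel]]
    exact Y'.mul_mem (Subgroup.mem_sup_left (hvB' a ha))
      (Subgroup.mem_sup_right (Subgroup.mem_zpowers v))
  have hY'inv : ∀ a ∈ B, ∀ w ∈ Y', a • w ∈ Y' := fun a ha w hw => by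
    refine (?_ : Y' ≤ Y'.comap (MulDistribMulAction.toMonoidHom V a)) hw
    refine sup_le (fun y hy => Subgroup.mem_sup_left (hinv a ha y hy)) ?_
    rw [Subgroup.zpowers_le]
    exact hav a ha
  have htop : Y' = ⊤ := by
    by_contra hne
    exact hv ((hY.le_of_ge ⟨hWY.trans le_sup_left, hne, hY'inv⟩ le_sup_left)
      (Subgroup.mem_sup_right (Subgroup.mem_zpowers v)))
  refine ⟨Y, hYtop, hWY, fun a ha w => ?_⟩
  have hle : Y' ≤ Y.comap (delta a) := by
    refine sup_le (fun y hy => ?_) ?_
    · show delta a y ∈ Y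
      rw [delta_apply]
      exact Y.div_mem (hinv a ha y hy) hy
    · rw [Subgroup.zpowers_le]
      exact hvB' a ha
  exact hle (htop ▸ Subgroup.mem_top w)

/-- **Replacement**: an offender contains a quadratic offender. -/
theorem exists_quadOffender {A : Subgroup X} (hA : A ≠ ⊥) (hsq : ∀ a ∈ A, a * a = 1)
    (hoff : Nat.card V ≤ Nat.card A * Nat.card (fix (A : Set X) : Subgroup V)) :
    ∃ B ≤ A, IsQuadOffender V B := by
  classical
  obtain ⟨B, hBmin⟩ := Set.Finite.exists_minimal
    (Set.toFinite {B : Subgroup X | B ≤ A ∧ B ≠ ⊥ ∧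
      Nat.card V ≤ Nat.card B * Nat.card (fix (B : Set X) : Subgroup V)}) ⟨A, le_rfl, hA, hoff⟩
  obtain ⟨hBA, hBne, hBoff⟩ := hBmin.prop
  have hsqB : ∀ a ∈ B, a * a = 1 := fun a ha => hsq a (hBA ha)
  set W : Subgroup V := fix (B : Set X) with hW
  obtain ⟨Y, hYtop, hWY, hdY⟩ := h.exists_proper hBne hsqB
  have hquad : ∀ a ∈ B, ∀ v : V, delta a v ∈ W := by
    intro a₀ ha₀ v
    set M : Subgroup V := Subgroup.closure ((fun a => delta a v) '' (B : Set X)) with hM
    let L : Subgroup X :=
      { carrier := {c | c ∈ B ∧ ∀ m ∈ M, c • m = m}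
        one_mem' := ⟨B.one_mem, fun m _ => one_smul _ m⟩
        mul_mem' := fun hx hy => ⟨B.mul_mem hx.1 hy.1,
          fun m hm => by rw [mul_smul, hy.2 m hm, hx.2 m hm]⟩
        inv_mem' := fun hx => ⟨B.inv_mem hx.1, fun m hm => inv_smul_eq_iff.2 (hx.2 m hm).symm⟩ }
    have hLB : L ≤ B := fun c hc => hc.1
    have hMW : W ⊔ M ≤ fix (L : Set X) := by
      refine sup_le (fix_anti hLB) fun m hm c hc => hc.2 m hm
    have hfib : ∀ a ∈ B, ∀ b ∈ B, ((delta a v : V) : V ⧸ W) = ((delta b v : V) : V ⧸ W) → a * b ∈ L := by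
      intro a ha b hb e
      refine ⟨B.mul_mem ha hb, ?_⟩
      have hw : delta (a * b) v ∈ W := by
        have h1 : delta a v / delta b v ∈ W := QuotientGroup.eq_iff_div_mem.1 e
        have h2 : delta (a * b) v = b • (delta a v / delta b v) := by
          simp only [delta_apply, smul_div', smul_smul, hsqB b hb, one_smul,
            commute_of_sq hsqB hb ha, div_div_div_cancel_right]
        rw [h2, h1 b hb]
        exact h1
      intro m hm
      refine (?_ : M ≤ fix {a * b}) hm (a * b) rfl
      rw [hM, Subgroup.closure_le]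
      rintro _ ⟨d, hd, rfl⟩
      rw [SetLike.mem_coe, mem_fix_singleton]
      have h3 : d • delta (a * b) v = delta (a * b) v := hw d hd
      have e : delta (a * b) (delta d v) = 1 := by
        have e1 : delta (a * b) (delta d v) = d • delta (a * b) v / delta (a * b) v := by
          simp only [delta_apply, smul_div', smul_smul, commute_of_sq hsqB hd (B.mul_mem ha hb)]
          simp only [div_div_div_comm]
        rw [e1, h3, div_self']
      rwa [delta_apply (a * b), div_eq_one] at e
    have hcount : Nat.card B * Nat.card W ≤ Nat.card L * Nat.card (W ⊔ M : Subgroup V) := by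
      have hsub : Nat.card (B ⧸ L.subgroupOf B) ≤ ((W ⊔ M).map (QuotientGroup.mk' W) : Set (V ⧸ W)).ncard := by
        rw [← Nat.card_coe_set_eq]
        refine Nat.card_le_card_of_injective (fun q => (⟨QuotientGroup.mk (delta (q.out : X) v),
          Subgroup.mem_map_of_mem (QuotientGroup.mk' W)
            (Subgroup.mem_sup_right (Subgroup.subset_closure ⟨_, q.out.2, rfl⟩))⟩ :
          ((W ⊔ M).map (QuotientGroup.mk' W) : Set (V ⧸ W)))) ?_
        intro p q e
        have e' : ((delta (p.out : X) v : V) : V ⧸ W) = ((delta (q.out : X) v : V) : V ⧸ W) := congrArg Subtype.val e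
        rw [← p.out_eq, ← q.out_eq]
        refine QuotientGroup.eq.2 ?_
        show ((p.out⁻¹ * q.out : B) : X) ∈ L
        rw [Subgroup.coe_mul, Subgroup.coe_inv, inv_eq_of_mul_eq_one_right (hsqB _ p.out.2)]
        exact hfib _ p.out.2 _ q.out.2 e'
      have h1 := (L.subgroupOf B).card_eq_card_quotient_mul_card_subgroup
      rw [Nat.card_congr (Subgroup.subgroupOfEquivOfLe hLB).toEquiv] at h1
      have h2 : Nat.card (W ⊔ M : Subgroup V) =
          ((W ⊔ M).map (QuotientGroup.mk' W) : Set (V ⧸ W)).ncard * Nat.card W := by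
        have h3 := (W.subgroupOf (W ⊔ M)).card_eq_card_quotient_mul_card_subgroup
        rw [Nat.card_congr (Subgroup.subgroupOfEquivOfLe (le_sup_left : W ≤ W ⊔ M)).toEquiv] at h3
        rw [h3, ← Nat.card_coe_set_eq]
        congr 1
        let f : (W ⊔ M : Subgroup V) →* V ⧸ W := (QuotientGroup.mk' W).comp (W ⊔ M).subtype
        have hk : f.ker = W.subgroupOf (W ⊔ M) := by
          ext x
          simp [f, MonoidHom.mem_ker, Subgroup.mem_subgroupOf, QuotientGroup.eq_one_iff]
        have hr : f.range = (W ⊔ M).map (QuotientGroup.mk' W) := by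
          rw [MonoidHom.range_comp, Subgroup.range_subtype]
        rw [← hk, ← hr]
        exact Nat.card_congr (QuotientGroup.quotientKerEquivRange f).toEquiv
      rw [h1, h2]
      calc Nat.card (B ⧸ L.subgroupOf B) * Nat.card L * Nat.card W
          ≤ ((W ⊔ M).map (QuotientGroup.mk' W) : Set (V ⧸ W)).ncard * Nat.card L * Nat.card W :=
            Nat.mul_le_mul_right _ (Nat.mul_le_mul_right _ hsub)
        _ = _ := by ring
    have hbig := hBoff.trans hcount
    have hLne : L ≠ ⊥ := by
      intro e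
      rw [e, Subgroup.card_bot, one_mul] at hbig
      have hle : W ⊔ M ≤ Y := sup_le hWY ((Subgroup.closure_le _).2 (by
        rintro _ ⟨a, ha, rfl⟩; exact hdY a ha v))
      refine hYtop (top_le_iff.1 ?_)
      rw [← Subgroup.eq_top_of_le_card (W ⊔ M) hbig]
      exact hle
    have hLmem : L = B := le_antisymm hLB (hBmin.le_of_le
      ⟨hLB.trans hBA, hLne, hbig.trans (Nat.mul_le_mul_left _ (Subgroup.card_le_of_le hMW))⟩ hLB)
    intro b hb
    exact (hLmem.symm ▸ hb : b ∈ L).2 _ (Subgroup.subset_closure ⟨a₀, ha₀, rfl⟩)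
  refine ⟨B, hBA, hBne, hsqB, fun a ha ha1 => ?_, hBoff⟩
  have hle : W ≤ fix {a} := fix_anti (Set.singleton_subset_iff.2 ha)
  refine (Subgroup.eq_of_le_of_card_ge hle ?_).symm
  have h1 := (delta a : V →* V).ker.card_eq_card_quotient_mul_card_subgroup
  rw [Nat.card_congr (QuotientGroup.quotientKerEquivRange _).toEquiv, ker_delta,
    ← h.card_fix_sq (orderOf_two ha1 (hsqB a ha))] at h1
  have h2 := Nat.eq_of_mul_eq_mul_right Nat.card_pos h1
  exact h2.le.trans (Subgroup.card_le_of_le fun w ⟨v, hv⟩ => hv ▸ hquad a ha v)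

/-- An elementary abelian group of operators is no over-offender; an offender is a quadratic
offender. -/
theorem isQuadOffender {A : Subgroup X} (hA : A ≠ ⊥) (hsq : ∀ a ∈ A, a * a = 1)
    (hoff : Nat.card V ≤ Nat.card A * Nat.card (fix (A : Set X) : Subgroup V)) :
    IsQuadOffender V A := by
  obtain ⟨B, hBA, hB⟩ := h.exists_quadOffender hA hsq hoff
  have : A = B := hB.eq_of_le h (fun a => ⟨1, Subtype.ext (by simp [pow_two, hsq a a.2])⟩) hBA
  exact this ▸ hB

end FpfRep

end Cfsg.Agent.Lib.CIT.Spread
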