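import Cfsg.Agent.Lib.CIT.FlagUpgrade

/-!
A proper subgroup `M` containing a Sylow 2-subgroup `S`, the normalisers of the join of the members
and of the unique normal member of `S`, and the normalisers of its flags, is strongly embedded.
Written by helper24.
-/

set_option autoImplicit false

namespace Cfsg.Agent.Lib.CIT

open Cfsg.Agent.Lib.SECount

variable {G : Type*} [Group G] [Finite G]

/-- `M` contains the normalisers of both functorial subgroups of `P`. -/
def Controls (M P : Subgroup G) : Prop :=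
  Subgroup.normalizer (memberJoin P : Set G) ≤ M ∧
    ∀ U, IsUnique P U → Subgroup.normalizer (U : Set G) ≤ M

theorem normalizer_cj_le {M X : Subgroup G} {m : G} (hm : m ∈ M)
    (h : Subgroup.normalizer (X : Set G) ≤ M) : Subgroup.normalizer (cj m X : Set G) ≤ M := by
  intro x hx
  have := h (mem_nz_cj hx)
  have h2 := M.mul_mem (M.mul_mem hm this) (M.inv_mem hm)
  simpa [mul_assoc] using h2

theorem Controls.cj {M P : Subgroup G} {m : G} (hm : m ∈ M) (h : Controls M P) :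
    Controls M (CIT.cj m P) := by
  refine ⟨cj_memberJoin P m ▸ normalizer_cj_le hm h.1, fun U hU => ?_⟩
  have h1 := hU.cj m⁻¹
  rw [cj_cj, inv_mul_cancel, cj_one] at h1
  have h2 := normalizer_cj_le hm (h.2 _ h1)
  rwa [cj_cj, mul_inv_cancel, cj_one] at h2

/-- A maximal 2-subgroup of `M ≥ S` is conjugate to `S` in `M`. -/
theorem exists_cj_of_max {M P : Subgroup G} (S : Sylow 2 G) (hSM : (S : Subgroup G) ≤ M)
    (hPM : P ≤ M) (hP : IsPGroup 2 P)
    (hmax : ∀ P' : Subgroup G, P ≤ P' → P' ≤ M → IsPGroup 2 P' → P' = P) :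
    ∃ m ∈ M, P = cj m (S : Subgroup G) := by
  have : Fact (Nat.Prime 2) := ⟨Nat.prime_two⟩
  obtain ⟨Q, hQ⟩ := (hP.comap_subtype (K := M)).exists_le_sylow
  have e : (Q : Subgroup M).map M.subtype = P := by
    refine hmax _ (fun x hx => ⟨⟨x, hPM hx⟩, hQ hx, rfl⟩) (Subgroup.map_subtype_le _)
      (Q.isPGroup'.map _)
  obtain ⟨m, hm⟩ := MulAction.exists_smul_eq M (S.subtype hSM) Q
  refine ⟨m, m.2, ?_⟩
  rw [← e, ← hm]
  ext x
  simp only [Subgroup.mem_map, Sylow.smul_def, Sylow.pointwise_smul_def, Sylow.coe_subtype,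
    Subgroup.coe_subtype, Subgroup.mem_pointwise_smul_iff_inv_smul_mem, Subgroup.mem_subgroupOf]
  constructor
  · rintro ⟨y, hy, rfl⟩
    have hy' : (m : G)⁻¹ * y * m ∈ (S : Subgroup G) := by
      simpa [MulAut.smul_def, ← map_inv, mul_assoc] using hy
    exact ⟨_, hy', by simp [mul_assoc]⟩
  · rintro ⟨s, hs, rfl⟩
    refine ⟨⟨_, M.mul_mem (M.mul_mem m.2 (hSM hs)) (M.inv_mem m.2)⟩, ?_, by simp⟩
    simpa [MulAut.smul_def, ← map_inv, mul_assoc] using hs

theorem stronglyEmbedded_of_controls (hCIT : IsCIT G) (hloc : LocalShape G) {M : Subgroup G}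
    (hM : M ≠ ⊤) (S : Sylow 2 G) (hS1 : (S : Subgroup G) ≠ ⊥) (hSM : (S : Subgroup G) ≤ M)
    (hbase : Controls M (S : Subgroup G))
    (hflag : ∀ (P V A K : Subgroup G) (w : G) (q : ℕ), P ≤ M →
      FlagData (Subgroup.normalizer (V : Set G)) P V A K w q →
      Subgroup.centralizer (V : Set G) = V → Subgroup.normalizer (V : Set G) ≤ M) :
    Cfsg.IsStronglyEmbedded M := by
  have : Fact (Nat.Prime 2) := ⟨Nat.prime_two⟩
  have key : ∀ Q P : Subgroup G, Q ≠ ⊥ → IsPGroup 2 Q →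
      P ≤ M ⊓ Subgroup.normalizer (Q : Set G) → IsPGroup 2 P →
      (∀ P' : Subgroup G, P ≤ P' → P' ≤ M ⊓ Subgroup.normalizer (Q : Set G) →
        IsPGroup 2 P' → P' = P) →
      Controls M P → Subgroup.normalizer (Q : Set G) ≤ M := by
    intro Q P hQ1 hQ hPle hP hPmax hc
    have hNP : Subgroup.normalizer (P : Set G) ≤ M :=
      (normalizer_le_normalizer_memberJoin P).trans hc.1
    obtain ⟨P', hPP', hP'N, hP', hP'max⟩ := exists_max_two (hPle.trans inf_le_right) hP
    obtain rfl : P' = P := by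
      by_contra hne
      have hlt := lt_inf_nz hP' (lt_of_le_of_ne hPP' (Ne.symm hne))
      exact hlt.ne' (hPmax _ hlt.le (le_inf (inf_le_right.trans hNP) (inf_le_left.trans hP'N))
        hP'.to_inf_left)
    by_cases hn : Subgroup.normalizer (Q : Set G) ≤ Subgroup.normalizer (P' : Set G)
    · exact hn.trans hNP
    rcases hloc Q hQ1 hQ P' hP'N hP' hP'max hn with
      ⟨R, hRn, hRP, hall⟩ | ⟨U, hU, hUP, hUn, huniq, -⟩ | ⟨V, A, K, w, q, h⟩
    · exact (le_normalizer_memberJoin hRn hRP hall).trans hc.1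
    · exact hUn.trans (hc.2 U ⟨hU, hUP, huniq⟩)
    · obtain ⟨⟨-, hVV⟩, K', w', h'⟩ := h.upgrade hCIT hloc hQ
      exact h.norm_left.trans (hflag P' V A K' w' q (hPle.trans inf_le_left) h' hVV)
  have hall : ∀ n : ℕ, ∀ P : Subgroup G, Nat.card G - Nat.card P = n → P ≤ M → IsPGroup 2 P →
      P ≠ ⊥ → Controls M P := by
    intro n
    induction n using Nat.strong_induction_on with
    | _ n ih =>
      intro P hn hPM hP hP1
      obtain ⟨P₁, hPP₁, hP₁M, hP₁, hP₁max⟩ := exists_max_two hPM hP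
      rcases eq_or_lt_of_le hPP₁ with rfl | hlt
      · obtain ⟨m, hm, rfl⟩ := exists_cj_of_max S hSM hPM hP hP₁max
        exact hbase.cj hm
      · have hgrow : ∀ W : Subgroup G, W ≠ ⊥ → IsPGroup 2 W →
            Subgroup.normalizer (P : Set G) ≤ Subgroup.normalizer (W : Set G) →
            Subgroup.normalizer (W : Set G) ≤ M := by
          intro W hW1 hW hPW
          have hlt' := lt_inf_nz hP₁ hlt
          obtain ⟨P₀, hTP₀, hP₀le, hP₀, hP₀max⟩ := exists_max_two
            (H := M ⊓ Subgroup.normalizer (W : Set G))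
            (le_inf (inf_le_left.trans hP₁M) (inf_le_right.trans hPW)) hP₁.to_inf_left
          have hPP₀ : P < P₀ := lt_of_lt_of_le hlt' hTP₀
          refine key W P₀ hW1 hW hP₀le hP₀ hP₀max (ih _ ?_ P₀ rfl (hP₀le.trans inf_le_left) hP₀
            (ne_bot_of_le_ne_bot hP1 hPP₀.le))
          have h1 : Nat.card P < Nat.card P₀ :=
            lt_of_le_of_ne (Subgroup.card_le_of_le hPP₀.le) fun e =>
              hPP₀.ne (Subgroup.eq_of_le_of_card_ge hPP₀.le e.ge)
          have h2 : Nat.card P₀ ≤ Nat.card G := Subgroup.card_le_card_group P₀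
          omega
        refine ⟨hgrow _ (memberJoin_ne_bot hP hP1) (hP.to_le (memberJoin_le P))
          (normalizer_le_normalizer_memberJoin P), fun U hU =>
            hgrow U (hU.1.ne_bot hP hP1) (hP.to_le hU.1.1) hU.normalizer_le⟩
  have hN : ∀ Q : Subgroup G, Q ≤ M → IsPGroup 2 Q → Q ≠ ⊥ →
      Subgroup.normalizer (Q : Set G) ≤ M := by
    intro Q hQM hQ hQ1
    obtain ⟨P₀, hQP₀, hP₀le, hP₀, hP₀max⟩ := exists_max_two
      (H := M ⊓ Subgroup.normalizer (Q : Set G)) (le_inf hQM Subgroup.le_normalizer) hQ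
    exact key Q P₀ hQ1 hQ hP₀le hP₀ hP₀max
      (hall _ P₀ rfl (hP₀le.trans inf_le_left) hP₀ (ne_bot_of_le_ne_bot hQ1 hQP₀))
  refine ⟨hM, ?_, fun g hg => ?_⟩
  · have : Nontrivial (S : Subgroup G) := (Subgroup.nontrivial_iff_ne_bot _).2 hS1
    obtain ⟨n, hn0, hn⟩ := S.isPGroup'.nontrivial_iff_card.1 this
    exact even_iff_two_dvd.2 ((hn ▸ dvd_pow_self 2 hn0.ne').trans (Subgroup.card_dvd_of_le hSM))
  · rw [← Nat.not_even_iff_odd]
    intro hev
    obtain ⟨x, hx⟩ := exists_prime_orderOf_dvd_card'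
      (G := (M ⊓ M.map (MulAut.conj g).toMonoidHom : Subgroup G)) 2 (even_iff_two_dvd.1 hev)
    rw [← Subgroup.orderOf_coe] at hx
    obtain ⟨D, hxD, hDle, hD, hDmax⟩ := exists_max_two (Subgroup.zpowers_le.2 x.2)
      (isPGroup_two_of_sq (H := Subgroup.zpowers (x : G)) fun y hy => by
        rcases two_mul_of_sq x.2 (invo_sq hx) y hy with rfl | rfl
        · exact one_mul 1
        · exact invo_sq hx)
    have hD1 : D ≠ ⊥ := fun e => invo_ne_one hx
      (Subgroup.mem_bot.1 (e ▸ hxD (Subgroup.mem_zpowers _)))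
    have hDg : cj g⁻¹ D ≤ M := fun y hy => by
      have := hDle (mem_cj.1 hy)
      have h2 := mem_cj.1 this.2
      simpa [mul_assoc] using h2
    have hD' : IsPGroup 2 (cj g⁻¹ D) := hD.map _
    have hD1' : cj g⁻¹ D ≠ ⊥ := fun e =>
      hD1 ((Subgroup.map_eq_bot_iff_of_injective _ (MulAut.conj g⁻¹).injective).1 e)
    have hND : Subgroup.normalizer (D : Set G) ≤ M ⊓ cj g M := by
      refine le_inf (hN D (hDle.trans inf_le_left) hD hD1) fun y hy => mem_cj.2 ?_
      refine hN _ hDg hD' hD1' (nz_of_cj_eq ?_)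
      rw [cj_cj, show g⁻¹ * y * g * g⁻¹ = g⁻¹ * y by group, ← cj_cj, cj_eq_of_nz hy]
    have htop : ∀ P : Subgroup G, D ≤ P → IsPGroup 2 P → P = D := by
      intro P hDP hP
      by_contra hne
      have hlt := lt_inf_nz hP (lt_of_le_of_ne hDP (Ne.symm hne))
      exact hlt.ne' (hDmax _ hlt.le (inf_le_right.trans hND) hP.to_inf_left)
    obtain ⟨m₁, hm₁, e₁⟩ := exists_cj_of_max S hSM (hDle.trans inf_le_left) hD
      fun P h1 _ h3 => htop P h1 h3
    obtain ⟨m₂, hm₂, e₂⟩ := exists_cj_of_max S hSM hDg hD' fun P h1 _ h3 => by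
      have h4 : D ≤ cj g P := fun y hy => mem_cj.2 (h1 (mem_cj.2 (by simpa [mul_assoc] using hy)))
      have h5 := htop _ h4 (h3.map _)
      rw [← h5, cj_cj, inv_mul_cancel, cj_one]
    have h6 : m₁⁻¹ * g * m₂ ∈ M := by
      refine ((normalizer_le_normalizer_memberJoin _).trans hbase.1) (nz_of_cj_eq ?_)
      rw [← cj_cj, ← e₂, cj_cj, show m₁⁻¹ * g * g⁻¹ = m₁⁻¹ by group, e₁, cj_cj, inv_mul_cancel,
        cj_one]
    refine hg ?_
    have h7 := M.mul_mem (M.mul_mem hm₁ h6) (M.inv_mem hm₂)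
    simpa [mul_assoc] using h7

end Cfsg.Agent.Lib.CIT
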